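import Cfsg.Agent.Lib.HNPresented.LowerStab

/-!
# The action on the cosets of the nine classes

* `Om`, `om` : the cosets of the nine class subgroups
* `tMap`, `tMap_step` : the map of the letter `t`, given by the selected equations
* `follow'_spec` : programs
-/

set_option autoImplicit false
set_option maxRecDepth 100000
set_option Elab.async false

open Cfsg

namespace Cfsg.Agent.HNPresented

open Cfsg.Agent.StabCert

/-- The cosets of the class subgroups. -/
def Om : Type := Σ i : Fin 9, Kb ⧸ cls i.val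

noncomputable instance : MulAction Kb Om where
  smul g X := ⟨X.1, g • X.2⟩
  one_smul X := by
    show (⟨X.1, (1 : Kb) • X.2⟩ : Om) = X
    rw [one_smul]; rfl
  mul_smul g h X := by
    show (⟨X.1, (g * h) • X.2⟩ : Om) = ⟨X.1, g • h • X.2⟩
    rw [mul_smul]

/-- A coset in a class. -/
noncomputable def om (i : ℕ) (g : Kb) : Om := ⟨Fin.ofNat 9 i, (g : Kb ⧸ cls (Fin.ofNat 9 i).val)⟩

theorem smul_om (c : Kb) (i : ℕ) (g : Kb) : c • om i g = om i (c * g) := rfl

theorem om_eq {i : ℕ} (hi : i < 9) {g h : Kb} (e : g⁻¹ * h ∈ cls i) : om i g = om i h := by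
  have e1 : (g : Kb ⧸ cls (Fin.ofNat 9 i).val) = h :=
    QuotientGroup.eq.2 (by rwa [show (Fin.ofNat 9 i).val = i from Nat.mod_eq_of_lt hi])
  rw [om, om, e1]

theorem om_mul_right {i : ℕ} (hi : i < 9) (g : Kb) {h : Kb} (e : h ∈ cls i) : om i (g * h) = om i g :=
  (om_eq hi (by rwa [inv_mul_cancel_left])).symm

theorem om_inj {i i' : ℕ} (hi : i < 9) (hi' : i' < 9) {g h : Kb} (e : om i g = om i' h) :
    i = i' ∧ g⁻¹ * h ∈ cls i := by
  have h1 : (Fin.ofNat 9 i) = Fin.ofNat 9 i' := congrArg Sigma.fst e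
  obtain rfl : i = i' := by
    have := congrArg Fin.val h1
    change i % 9 = i' % 9 at this
    rwa [Nat.mod_eq_of_lt hi, Nat.mod_eq_of_lt hi'] at this
  refine ⟨rfl, ?_⟩
  have h2 : (g : Kb ⧸ cls (Fin.ofNat 9 i).val) = h := eq_of_heq (Sigma.mk.inj_iff.1 e).2
  have h3 := QuotientGroup.eq.1 h2
  rwa [show (Fin.ofNat 9 i).val = i from Nat.mod_eq_of_lt hi] at h3

theorem exists_om (X : Om) : ∃ i < 9, ∃ g, X = om i g := by
  obtain ⟨i, q⟩ := X
  obtain ⟨g, rfl⟩ := QuotientGroup.mk_surjective q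
  refine ⟨i.val, i.isLt, g, ?_⟩
  unfold om
  rw [show Fin.ofNat 9 i.val = i from Fin.ext (Nat.mod_eq_of_lt i.isLt)]

/-- The value of the map at a coset. -/
def TSpec (X Y : Om) : Prop :=
  ∃ i g n l, i < 9 ∧ sel i n = true ∧ l ∈ cls i ∧
    (g * l * (eb (topCfg.fact n).2.1)⁻¹) • pt 0 = pt 0 ∧ X = om i g ∧
    Y = om (topCfg.fact n).2.2.1 (g * l * (eb (topCfg.fact n).2.1)⁻¹ * eb (topCfg.fact n).2.2.2)

theorem path_iff {n : ℕ} (hn : n < topFacts.length) (g l : Kb) :
    (g * l * (eb (topCfg.fact n).2.1)⁻¹) • pt 0 = pt 0 ↔ l • pt (pN n) = g⁻¹ • pt 0 := by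
  conv_lhs => lhs; rw [← eb_src hn, mul_smul, inv_smul_smul, mul_smul]
  exact smul_eq_iff_eq_inv_smul g

theorem fact_tgt {n : ℕ} (hn : n < topFacts.length) : (topCfg.fact n).2.2.1 < 9 := by
  have hr := top_range
  simp only [List.all_eq_true, Bool.and_eq_true, Nat.blt_eq] at hr
  exact (hr _ (getD_mem hn)).1.1.2

theorem tSpec_exists (X : Om) : ∃ Y, TSpec X Y := by
  obtain ⟨i, hi, g, rfl⟩ := exists_om X
  obtain ⟨n, hn, l, hl, hl'⟩ := exists_path hi (g⁻¹ • pt 0)
  exact ⟨_, i, g, n, l, hi, hn, hl, (path_iff (sel_spec hn).1 g l).2 hl', rfl, rfl⟩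

theorem tSpec_unique {X Y Y' : Om} (h : TSpec X Y) (h' : TSpec X Y') : Y = Y' := by
  obtain ⟨i, g, n, l, hi, hn, hl, hfix, rfl, rfl⟩ := h
  obtain ⟨i', g', n', l', hi', hn', hl', hfix', e, rfl⟩ := h'
  obtain ⟨rfl, he⟩ := om_inj hi hi' e
  rw [path_iff (sel_spec hn).1] at hfix
  rw [path_iff (sel_spec hn').1] at hfix'
  have h1 : (g⁻¹ * g') • (l' • pt (pN n')) = l • pt (pN n) := by
    rw [hfix', mul_smul, smul_inv_smul, hfix]
  obtain rfl : n = n' := by
    rw [← sel_unique hi hn hl, ← h1, ← mul_smul, sel_unique hi hn' (mul_mem he hl')]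
  have hmem : l⁻¹ * (g⁻¹ * g') * l' ∈ cls i := mul_mem (mul_mem (inv_mem hl) he) hl'
  have hfix2 : (l⁻¹ * (g⁻¹ * g') * l') • pt (pN n) = pt (pN n) := by
    rw [mul_smul, mul_smul, h1, inv_smul_smul]
  have := stab_le hi hn hmem hfix2
  refine om_eq (fact_tgt (sel_spec hn).1) ?_
  convert this using 1
  group

/-- The map of the letter `t`. -/
noncomputable def tMap (X : Om) : Om := (tSpec_exists X).choose

theorem tMap_eq {X Y : Om} (h : TSpec X Y) : tMap X = Y :=
  tSpec_unique (tSpec_exists X).choose_spec h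

/-- The map commutes with the stabiliser of the point `0`. -/
theorem tMap_comm {c : Kb} (hc : c • pt 0 = pt 0) (X : Om) : tMap (c • X) = c • tMap X := by
  obtain ⟨i, g, n, l, hi, hn, hl, hfix, e, e'⟩ := (tSpec_exists X).choose_spec
  refine tMap_eq ⟨i, c * g, n, l, hi, hn, hl, ?_, ?_, ?_⟩
  · rw [show c * g * l * (eb (topCfg.fact n).2.1)⁻¹ = c * (g * l * (eb (topCfg.fact n).2.1)⁻¹) by group,
      mul_smul, hfix, hc]
  · rw [e, smul_om]
  · change c • (tSpec_exists X).choose = _
    rw [e', smul_om]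
    simp only [mul_assoc]

/-- The cosets of the selected equations cover everything under the stabiliser of `0`. -/
theorem exists_rep (X : Om) : ∃ i n, i < 9 ∧ sel i n = true ∧
    ∃ c : Kb, c • pt 0 = pt 0 ∧ X = c • om i (eb (topCfg.fact n).2.1) := by
  obtain ⟨i, g, n, l, hi, hn, hl, hfix, e, -⟩ := (tSpec_exists X).choose_spec
  refine ⟨i, n, hi, hn, _, hfix, ?_⟩
  rw [e, smul_om, inv_mul_cancel_right, om_mul_right hi g hl]

/-- A checked step. -/
def stepL (i : ℕ) (k : List ℕ) (s : LStep) : Bool :=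
  sel i s.1 && lok i s.2.1 && topCfg.okW k &&
    ev 11 tab (k ++ lp s.2.1 ++ winv (topCfg.fact s.1).2.1) 0 == 0 &&
    topCfg.eqB s.2.2 (k ++ lp s.2.1 ++ winv (topCfg.fact s.1).2.1 ++ (topCfg.fact s.1).2.2.2)

theorem tMap_step {i : ℕ} (hi : i < 9) {k : List ℕ} {s : LStep} (h : stepL i k s = true) :
    tMap (om i (eb k)) = om (topCfg.fact s.1).2.2.1 (eb s.2.2) := by
  simp only [stepL, Bool.and_eq_true, beq_iff_eq] at h
  obtain ⟨⟨⟨⟨hs, hl⟩, hk⟩, hev⟩, heq⟩ := h
  have hw := okW_append (okW_append hk (lexp_okW hl)) (okW_winv (fact_okW (sel_spec hs).1).1)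
  refine tMap_eq ⟨i, eb k, s.1, eb (lp s.2.1), hi, hs, lexp_mem hl, ?_, rfl, ?_⟩
  · have e := eb_smul hw (show 0 < 1408 by omega)
    rw [hev, eb_append, eb_append, eb_winv] at e
    exact e
  · rw [eb_eq heq, eb_append, eb_append, eb_append, eb_winv]

/-- One operation of a program. -/
noncomputable def opL : Option (List ℕ) → Om → Om
  | none, X => tMap X
  | some e, X => eb e • X

/-- A program, in the order of application. -/
noncomputable def runP : List (Option (List ℕ)) → Om → Om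
  | [], X => X
  | o :: P, X => runP P (opL o X)

/-- Follow a program. -/
def follow' : List (Option (List ℕ)) → ℕ → List ℕ → List LStep → (ℕ → List ℕ → Bool) → Bool
  | [], i, k, st, f => st.isEmpty && f i k
  | some e :: P, i, k, st, f => follow' P i (e ++ k) st f
  | none :: _, _, _, [], _ => false
  | none :: P, i, k, s :: st, f => stepL i k s && follow' P (topCfg.fact s.1).2.2.1 s.2.2 st f

theorem follow'_spec : ∀ (P : List (Option (List ℕ))) (i : ℕ) (k : List ℕ) (st : List LStep)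
    (f : ℕ → List ℕ → Bool), i < 9 → follow' P i k st f = true →
    ∃ j e, f j e = true ∧ runP P (om i (eb k)) = om j (eb e)
  | [], i, k, st, f, _, h => by
    simp only [follow', Bool.and_eq_true] at h
    exact ⟨i, k, h.2, rfl⟩
  | some e :: P, i, k, st, f, hi, h => by
    obtain ⟨j, e', h1, h2⟩ := follow'_spec P i (e ++ k) st f hi (by simpa [follow'] using h)
    refine ⟨j, e', h1, ?_⟩
    rw [runP, opL, smul_om, ← eb_append]
    exact h2
  | none :: _, _, _, [], _, _, h => by simp [follow'] at h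
  | none :: P, i, k, s :: st, f, hi, h => by
    simp only [follow', Bool.and_eq_true] at h
    have hs : s.1 < topFacts.length := (sel_spec (by
      have := h.1; simp only [stepL, Bool.and_eq_true] at this; exact this.1.1.1.1)).1
    obtain ⟨j, e', h1, h2⟩ := follow'_spec P _ _ st f (fact_tgt hs) h.2
    exact ⟨j, e', h1, by rw [runP, opL, tMap_step hi h.1]; exact h2⟩

/-- A program returns to its start. -/
def returnsOK (P : List (Option (List ℕ))) (i : ℕ) (k : List ℕ) (st : List LStep) (l : List ℕ) : Bool :=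
  follow' P i k st fun j e => j == i && lok i l && topCfg.eqB e (k ++ lp l)

theorem returns_spec {P : List (Option (List ℕ))} {i : ℕ} {k : List ℕ} {st : List LStep} {l : List ℕ}
    (hi : i < 9) (h : returnsOK P i k st l = true) : runP P (om i (eb k)) = om i (eb k) := by
  obtain ⟨j, e, h1, h2⟩ := follow'_spec P i k st _ hi h
  simp only [Bool.and_eq_true, beq_iff_eq] at h1
  obtain ⟨⟨rfl, h3⟩, h4⟩ := h1
  rw [h2, eb_eq h4, eb_append, om_mul_right hi _ (lexp_mem h3)]

end Cfsg.Agent.HNPresented
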