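import Cfsg.Agent.Lib.StabCert.Chain

/-!
# Double coset derivations

A group acts on a set; the letters of a subgroup are known through tables, and one further element `s` twists the
letters of the words `sw` into `ph`.  A derivation is a list of items, each adding an equation
`s • π a • P i = π b • P j` or an element fixing some `P i`, proved from the earlier ones along cycles `s * W = 1`.

* `runOK`, `run_spec` : derivations
* `coverOK`, `smul_mem_cosets` : the union of the orbits of the points `P i` is invariant under `s`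
-/

set_option autoImplicit false

namespace Cfsg.Agent.HNPresented

open Cfsg.Agent.StabCert

/-- An equation: source class, word, target class, word. -/
abbrev Fact : Type := ℕ × List ℕ × ℕ × List ℕ

/-- A fixing element: class, word. -/
abbrev Fixer : Type := ℕ × List ℕ

/-- A step: equation, fixing elements, twisted letters, resulting word. -/
abbrev Step : Type := ℕ × List ℕ × List ℕ × List ℕ

/-- An item of a derivation. -/
inductive Item
  | stab (n : ℕ) (c e : List ℕ)
  | edge (cyc i : ℕ) (k : List ℕ) (st : List Step)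
  | close (cyc i : ℕ) (k : List ℕ) (st : List Step) (last : Step)

/-- Everything a derivation refers to. -/
structure Cfg where
  w : ℕ
  tab : List ℕ
  B : List ℕ
  m : ℕ
  facts : List Fact
  fixes : List Fixer
  sw : List (List ℕ)
  ph : List (List ℕ)
  cycles : List (List (Option (List ℕ)))

/-- The word of the inverse: letters come in pairs `2 n`, `2 n + 1`. -/
def winv (l : List ℕ) : List ℕ := (l.map fun a => if a % 2 == 0 then a + 1 else a - 1).reverse

/-- A word read through a list of words. -/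
def sub' (ws : List (List ℕ)) (c : List ℕ) : List ℕ := c.flatMap fun n => ws.getD n []

namespace Cfg

variable (C : Cfg)

def fact (n : ℕ) : Fact := C.facts.getD n (0, [], 0, [])

def fixer (n : ℕ) : Fixer := C.fixes.getD n (0, [])

/-- The word of a list of signed fixing elements. -/
def lexp (l : List ℕ) : List ℕ :=
  l.flatMap fun g => if g % 2 == 0 then (C.fixer (g / 2)).2 else winv (C.fixer (g / 2)).2

def cexp (c : List ℕ) : List ℕ := sub' C.sw c

def pexp (c : List ℕ) : List ℕ := sub' C.ph c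

def okW (v : List ℕ) : Bool := v.all fun a => Nat.blt a C.m

/-- Equality of the images on the base. -/
def eqB (v w : List ℕ) : Bool :=
  C.okW v && C.okW w && C.B.all fun β => StabCert.ev C.w C.tab v β == StabCert.ev C.w C.tab w β

/-- Signed fixing elements of a class, among the first `nx`. -/
def lOK (nx i : ℕ) (l : List ℕ) : Bool :=
  l.all fun g => Nat.blt (g / 2) nx && (C.fixer (g / 2)).1 == i

def cOK (c : List ℕ) : Bool := c.all fun n => Nat.blt n C.sw.length

def stepOK (nf nx i : ℕ) (k : List ℕ) (s : Step) : Bool :=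
  Nat.blt s.1 nf && (C.fact s.1).1 == i && C.lOK nx i s.2.1 && C.cOK s.2.2.1 &&
    C.eqB (k ++ C.lexp s.2.1) (C.cexp s.2.2.1 ++ (C.fact s.1).2.1) &&
    C.eqB s.2.2.2 (C.pexp s.2.2.1 ++ (C.fact s.1).2.2.2)

/-- Follow a cycle, in the order of application. -/
def follow (nf nx : ℕ) : List (Option (List ℕ)) → ℕ → List ℕ → List Step → (ℕ → List ℕ → Bool) → Bool
  | [], i, k, st, f => st.isEmpty && f i k
  | some e :: P, i, k, st, f => follow nf nx P i (e ++ k) st f
  | none :: _, _, _, [], _ => false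
  | none :: P, i, k, s :: st, f =>
      C.stepOK nf nx i k s && follow nf nx P (C.fact s.1).2.2.1 s.2.2.2 st f

def itemOK (nf nx : ℕ) : Item → Bool
  | .stab n c e => Nat.blt n nf && C.lOK nx (C.fact n).1 e && C.cOK c &&
      C.eqB ((C.fact n).2.1 ++ C.lexp e) (C.cexp c ++ (C.fact n).2.1) &&
      (C.fixer nx).1 == (C.fact n).2.2.1 &&
      C.eqB ((C.fact n).2.2.2 ++ (C.fixer nx).2) (C.pexp c ++ (C.fact n).2.2.2)
  | .edge p i k st => Nat.blt p C.cycles.length && C.follow nf nx (C.cycles.getD p []) i k st fun j e =>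
      (C.fact nf).1 == j && (C.fact nf).2.2.1 == i && C.eqB (C.fact nf).2.1 e && C.eqB (C.fact nf).2.2.2 k
  | .close p i k st s => Nat.blt p C.cycles.length && C.follow nf nx (C.cycles.getD p []) i k st fun j e =>
      C.stepOK nf nx j e s && (C.fact s.1).2.2.1 == i && (C.fixer nx).1 == i &&
        C.eqB (s.2.2.2 ++ (C.fixer nx).2) k

def runOK : List Item → ℕ → ℕ → Bool
  | [], nf, nx => nf == C.facts.length && nx == C.fixes.length
  | it :: r, nf, nx =>
      C.itemOK nf nx it && match it with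
        | .edge .. => runOK r (nf + 1) nx
        | _ => runOK r nf (nx + 1)

/-- A root `(p, n)` of an orbit, or a point reached from an earlier one by a fixing element. -/
def coverStep (tS : List ℕ) (wS d i : ℕ) (p : ℕ × ℕ × Option ℕ) (seen : ℕ) : Bool :=
  Nat.blt p.1 d && match p.2.2 with
    | none => Nat.blt p.2.1 C.facts.length && (C.fact p.2.1).1 == i && C.okW (C.fact p.2.1).2.1 &&
        StabCert.ev wS tS (winv (C.fact p.2.1).2.1) 0 == p.1
    | some g => seen.testBit p.2.1 && C.lOK C.fixes.length i [g] && C.okW (C.lexp [g]) &&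
        StabCert.ev wS tS (C.lexp [g]) p.2.1 == p.1

def coverGo (tS : List ℕ) (wS d i : ℕ) : List (ℕ × ℕ × Option ℕ) → ℕ → Bool
  | [], seen => Nat.beq seen (2 ^ d - 1)
  | p :: r, seen => C.coverStep tS wS d i p seen && coverGo tS wS d i r (seen ||| 1 <<< p.1)

end Cfg

section spec

variable {G X : Type*} [Group G] [MulAction G X]

/-- The hypotheses under which a derivation is sound. -/
structure Sound (C : Cfg) (el : ℕ → G) (s : G) (P : ℕ → X) : Prop where
  inv : ∀ n, el (2 * n + 1) = (el (2 * n))⁻¹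
  eq : ∀ v w, C.eqB v w = true → ∀ i, wordEl el v • P i = wordEl el w • P i
  twist : ∀ n < C.sw.length, s * wordEl el (C.sw.getD n []) = wordEl el (C.ph.getD n []) * s
  cycle : ∀ p < C.cycles.length,
    s * ((C.cycles.getD p []).reverse.map fun o => o.elim s (wordEl el)).prod = 1

def FactHolds (C : Cfg) (el : ℕ → G) (s : G) (P : ℕ → X) (n : ℕ) : Prop :=
  s • wordEl el (C.fact n).2.1 • P (C.fact n).1 = wordEl el (C.fact n).2.2.2 • P (C.fact n).2.2.1

def FixHolds (C : Cfg) (el : ℕ → G) (P : ℕ → X) (n : ℕ) : Prop :=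
  wordEl el (C.fixer n).2 • P (C.fixer n).1 = P (C.fixer n).1

theorem wordEl_cons (el : ℕ → G) (a : ℕ) (l : List ℕ) : wordEl el (a :: l) = el a * wordEl el l := by
  simp [wordEl]

theorem wordEl_nil (el : ℕ → G) : wordEl el [] = 1 := by simp [wordEl]

theorem wordEl_winv {el : ℕ → G} (hinv : ∀ n, el (2 * n + 1) = (el (2 * n))⁻¹) :
    ∀ l : List ℕ, wordEl el (winv l) = (wordEl el l)⁻¹
  | [] => by simp [winv, wordEl]
  | a :: l => by
    rw [show winv (a :: l) = winv l ++ [if a % 2 == 0 then a + 1 else a - 1] by simp [winv],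
      wordEl_append, wordEl_winv hinv l, wordEl_cons el a, mul_inv_rev, wordEl_cons, wordEl_nil, mul_one]
    congr 1
    rcases Nat.mod_two_eq_zero_or_one a with h | h
    · obtain ⟨n, rfl⟩ : ∃ n, a = 2 * n := ⟨a / 2, by omega⟩
      simp [h, hinv]
    · obtain ⟨n, rfl⟩ : ∃ n, a = 2 * n + 1 := ⟨a / 2, by omega⟩
      simp [h, hinv]

variable {C : Cfg} {el : ℕ → G} {s : G} {P : ℕ → X}

theorem lexp_fixes (h : Sound C el s P) {nx i : ℕ} (hfix : ∀ n < nx, FixHolds C el P n) :
    ∀ l : List ℕ, C.lOK nx i l = true → wordEl el (C.lexp l) • P i = P i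
  | [], _ => by simp [Cfg.lexp, wordEl]
  | g :: l, hl => by
    simp only [Cfg.lOK, List.all_cons, Bool.and_eq_true, Nat.blt_eq, beq_iff_eq] at hl
    obtain ⟨⟨hg, hi⟩, hl⟩ := hl
    have hf : wordEl el (C.fixer (g / 2)).2 • P i = P i := hi ▸ hfix _ hg
    rw [show C.lexp (g :: l) = (if g % 2 == 0 then (C.fixer (g / 2)).2 else winv (C.fixer (g / 2)).2)
      ++ C.lexp l from rfl, wordEl_append, mul_smul, lexp_fixes h hfix l hl]
    split
    · exact hf
    · rw [wordEl_winv h.inv, inv_smul_eq_iff, hf]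

theorem twist_word (h : Sound C el s P) :
    ∀ c : List ℕ, C.cOK c = true → s * wordEl el (C.cexp c) = wordEl el (C.pexp c) * s
  | [], _ => by simp [Cfg.cexp, Cfg.pexp, sub', wordEl]
  | n :: c, hc => by
    simp only [Cfg.cOK, List.all_cons, Bool.and_eq_true, Nat.blt_eq] at hc
    rw [show C.cexp (n :: c) = C.sw.getD n [] ++ C.cexp c from rfl,
      show C.pexp (n :: c) = C.ph.getD n [] ++ C.pexp c from rfl, wordEl_append, wordEl_append,
      ← mul_assoc, h.twist n hc.1, mul_assoc, twist_word h c hc.2, mul_assoc]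

theorem stepOK_spec (h : Sound C el s P) {nf nx i : ℕ} {k : List ℕ} {st : Step}
    (hf : ∀ n < nf, FactHolds C el s P n) (hx : ∀ n < nx, FixHolds C el P n)
    (hs : C.stepOK nf nx i k st = true) :
    s • wordEl el k • P i = wordEl el st.2.2.2 • P (C.fact st.1).2.2.1 := by
  simp only [Cfg.stepOK, Bool.and_eq_true, Nat.blt_eq, beq_iff_eq] at hs
  obtain ⟨⟨⟨⟨⟨h1, h2⟩, h3⟩, h4⟩, h5⟩, h6⟩ := hs
  have e1 := h.eq _ _ h5 i
  rw [wordEl_append, mul_smul, lexp_fixes h hx _ h3, wordEl_append, mul_smul] at e1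
  have e2 := h.eq _ _ h6 (C.fact st.1).2.2.1
  rw [wordEl_append, mul_smul] at e2
  have e3 := hf _ h1
  rw [FactHolds, h2] at e3
  rw [e1, ← mul_smul s, twist_word h _ h4, mul_smul, e3, e2]

theorem follow_spec (h : Sound C el s P) {nf nx : ℕ}
    (hf : ∀ n < nf, FactHolds C el s P n) (hx : ∀ n < nx, FixHolds C el P n) :
    ∀ (W : List (Option (List ℕ))) (i : ℕ) (k : List ℕ) (st : List Step) (f : ℕ → List ℕ → Bool),
      C.follow nf nx W i k st f = true → ∃ j e, f j e = true ∧
        wordEl el e • P j = (W.reverse.map fun o => o.elim s (wordEl el)).prod • wordEl el k • P i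
  | [], i, k, st, f, hh => by
    simp only [Cfg.follow, Bool.and_eq_true] at hh
    exact ⟨i, k, hh.2, by simp⟩
  | some e :: W, i, k, st, f, hh => by
    obtain ⟨j, e', h1, h2⟩ := follow_spec h hf hx W i (e ++ k) st f (by simpa [Cfg.follow] using hh)
    refine ⟨j, e', h1, h2.trans ?_⟩
    simp [List.map_append, List.prod_append, mul_smul, wordEl_append]
  | none :: W, i, k, [], f, hh => by simp [Cfg.follow] at hh
  | none :: W, i, k, s0 :: st, f, hh => by
    simp only [Cfg.follow, Bool.and_eq_true] at hh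
    obtain ⟨j, e', h1, h2⟩ := follow_spec h hf hx W _ _ st f hh.2
    refine ⟨j, e', h1, h2.trans ?_⟩
    simp [List.map_append, List.prod_append, mul_smul, stepOK_spec h hf hx hh.1]

theorem run_spec (h : Sound C el s P) : ∀ (items : List Item) (nf nx : ℕ),
    C.runOK items nf nx = true → (∀ n < nf, FactHolds C el s P n) → (∀ n < nx, FixHolds C el P n) →
      (∀ n < C.facts.length, FactHolds C el s P n) ∧ ∀ n < C.fixes.length, FixHolds C el P n
  | [], nf, nx, hr, hf, hx => by
    simp only [Cfg.runOK, Bool.and_eq_true, beq_iff_eq] at hr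
    exact ⟨hr.1 ▸ hf, hr.2 ▸ hx⟩
  | .stab n c e :: r, nf, nx, hr, hf, hx => by
    simp only [Cfg.runOK, Bool.and_eq_true] at hr
    obtain ⟨hi, hr⟩ := hr
    refine run_spec h r nf (nx + 1) hr hf fun m hm => ?_
    rcases Nat.lt_succ_iff_lt_or_eq.1 hm with hm | rfl
    · exact hx m hm
    simp only [Cfg.itemOK, Bool.and_eq_true, Nat.blt_eq, beq_iff_eq] at hi
    obtain ⟨⟨⟨⟨⟨h1, h2⟩, h3⟩, h4⟩, h5⟩, h6⟩ := hi
    have e1 := h.eq _ _ h4 (C.fact n).1
    rw [wordEl_append, mul_smul, lexp_fixes h hx _ h2, wordEl_append, mul_smul] at e1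
    have e2 := h.eq _ _ h6 (C.fact n).2.2.1
    rw [wordEl_append, mul_smul, wordEl_append, mul_smul] at e2
    have e3 := hf n h1
    unfold FactHolds at e3
    rw [FixHolds, h5]
    refine MulAction.injective (wordEl el (C.fact n).2.2.2) ?_
    show wordEl el (C.fact n).2.2.2 • wordEl el (C.fixer m).2 • P _ = _
    rw [e2, ← e3, ← mul_smul _ s, ← twist_word h c h3, mul_smul, ← e1]
    exact e3
  | .edge p i k st :: r, nf, nx, hr, hf, hx => by
    simp only [Cfg.runOK, Bool.and_eq_true] at hr
    obtain ⟨hi, hr⟩ := hr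
    refine run_spec h r (nf + 1) nx hr (fun m hm => ?_) hx
    rcases Nat.lt_succ_iff_lt_or_eq.1 hm with hm | rfl
    · exact hf m hm
    simp only [Cfg.itemOK, Bool.and_eq_true, Nat.blt_eq] at hi
    obtain ⟨j, e, hje, heq⟩ := follow_spec h hf hx _ _ _ _ _ hi.2
    simp only [Bool.and_eq_true, beq_iff_eq] at hje
    obtain ⟨⟨⟨h1, h2⟩, h3⟩, h4⟩ := hje
    rw [FactHolds, h1, h2, h.eq _ _ h3 j, h.eq _ _ h4 i, heq, ← mul_smul s, h.cycle p hi.1, one_smul]
  | .close p i k st s0 :: r, nf, nx, hr, hf, hx => by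
    simp only [Cfg.runOK, Bool.and_eq_true] at hr
    obtain ⟨hi, hr⟩ := hr
    refine run_spec h r nf (nx + 1) hr hf fun m hm => ?_
    rcases Nat.lt_succ_iff_lt_or_eq.1 hm with hm | rfl
    · exact hx m hm
    simp only [Cfg.itemOK, Bool.and_eq_true, Nat.blt_eq] at hi
    obtain ⟨j, e, hje, heq⟩ := follow_spec h hf hx _ _ _ _ _ hi.2
    simp only [Bool.and_eq_true, beq_iff_eq] at hje
    obtain ⟨⟨⟨h1, h2⟩, h3⟩, h4⟩ := hje
    have e1 := stepOK_spec h hf hx h1
    rw [h2, heq, ← mul_smul s, h.cycle p hi.1, one_smul] at e1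
    have e2 := h.eq _ _ h4 i
    rw [wordEl_append, mul_smul, e1] at e2
    rw [FixHolds, h3]
    exact MulAction.injective (wordEl el s0.2.2.2) e2

/-- Every point marked by a checked cover is the image of a root under fixing elements. -/
theorem coverGo_spec {tS : List ℕ} {wS d i : ℕ} :
    ∀ (ps : List (ℕ × ℕ × Option ℕ)) (seen : ℕ), C.coverGo tS wS d i ps seen = true →
      (∀ p, seen.testBit p = true → ∃ n l, n < C.facts.length ∧ (C.fact n).1 = i ∧
        C.okW (C.fact n).2.1 = true ∧ C.lOK C.fixes.length i l = true ∧ C.okW (C.lexp l) = true ∧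
          StabCert.ev wS tS (C.lexp l) (StabCert.ev wS tS (winv (C.fact n).2.1) 0) = p) →
      ∀ p < d, ∃ n l, n < C.facts.length ∧ (C.fact n).1 = i ∧
        C.okW (C.fact n).2.1 = true ∧ C.lOK C.fixes.length i l = true ∧ C.okW (C.lexp l) = true ∧
          StabCert.ev wS tS (C.lexp l) (StabCert.ev wS tS (winv (C.fact n).2.1) 0) = p
  | [], seen, hh, hseen => fun p hp => hseen p (by
      rw [Nat.eq_of_beq_eq_true hh, Nat.testBit_two_pow_sub_one]
      exact decide_eq_true hp)
  | q :: r, seen, hh, hseen => by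
    simp only [Cfg.coverGo, Bool.and_eq_true] at hh
    refine coverGo_spec r _ hh.2 fun p hp => ?_
    rw [Nat.testBit_or, Bool.or_eq_true, Nat.one_shiftLeft, Nat.testBit_two_pow, decide_eq_true_eq] at hp
    rcases hp with hp | hp
    · exact hseen p hp
    subst hp
    have h1 := hh.1
    obtain ⟨q1, q2, _ | g⟩ := q
    · simp only [Cfg.coverStep, Bool.and_eq_true, Nat.blt_eq, beq_iff_eq] at h1
      exact ⟨q2, [], h1.2.1.1.1, h1.2.1.1.2, h1.2.1.2, by simp [Cfg.lOK],
        by simp [Cfg.okW, Cfg.lexp], by simpa [Cfg.lexp, StabCert.ev] using h1.2.2⟩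
    · simp only [Cfg.coverStep, Bool.and_eq_true, Nat.blt_eq, beq_iff_eq] at h1
      obtain ⟨n, l, a1, a2, a3, a4, a5, a6⟩ := hseen q2 h1.2.1.1.1
      have hl : C.lexp (g :: l) = C.lexp [g] ++ C.lexp l := by simp [Cfg.lexp]
      refine ⟨n, g :: l, a1, a2, a3, ?_, ?_, ?_⟩
      · have b := h1.2.1.1.2
        simp only [Cfg.lOK, List.all_cons, List.all_nil, Bool.and_true] at b a4 ⊢
        rw [b, a4]; rfl
      · have b := h1.2.1.2
        simp only [Cfg.okW, hl, List.all_append] at b a5 ⊢
        rw [b, a5]; rfl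
      · rw [hl, ev_append, a6]
        exact h1.2.2

/-- The image under `s` of a point in the orbit of a covered class is again in such an orbit. -/
theorem smul_mem_cosets (h : Sound C el s P) {tS : List ℕ} {wS d i : ℕ} {ps : List (ℕ × ℕ × Option ℕ)}
    (hd : 0 < d) (hps : C.coverGo tS wS d i ps 0 = true)
    (hperm : ∀ v, C.okW v = true → ∀ p < d, StabCert.ev wS tS v p < d ∧
      StabCert.ev wS tS v (StabCert.ev wS tS (winv v) p) = p)
    (hwinv : ∀ v, C.okW v = true → C.okW (winv v) = true)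
    (hstab : ∀ v, C.okW v = true → StabCert.ev wS tS v 0 = 0 →
      ∃ u, C.okW u = true ∧ s * wordEl el v = wordEl el u * s)
    (hf : ∀ n < C.facts.length, FactHolds C el s P n) (hx : ∀ n < C.fixes.length, FixHolds C el P n)
    (hok : ∀ n < C.facts.length, C.okW (C.fact n).2.2.2 = true)
    {v : List ℕ} (hv : C.okW v = true) :
    ∃ u j, C.okW u = true ∧ (∃ n < C.facts.length, j = (C.fact n).2.2.1) ∧
      s • wordEl el v • P i = wordEl el u • P j := by
  obtain ⟨n, l, hn, hni, ha, hl, hlw, hev⟩ := coverGo_spec ps 0 hps (by simp)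
    (StabCert.ev wS tS (winv v) 0) (hperm _ (hwinv v hv) 0 hd).1
  set a := (C.fact n).2.1 with ha'
  have hok' : C.okW (v ++ C.lexp l ++ winv a) = true := by
    have := hwinv a ha
    simp only [Cfg.okW, List.all_append, Bool.and_eq_true] at hv hlw this ⊢
    exact ⟨⟨hv, hlw⟩, this⟩
  obtain ⟨u, hu, hus⟩ := hstab _ hok' (by
    rw [ev_append, ev_append, hev, (hperm v hv 0 hd).2])
  refine ⟨u ++ (C.fact n).2.2.2, (C.fact n).2.2.1, ?_, ⟨n, hn, rfl⟩, ?_⟩
  · have := hok n hn
    simp only [Cfg.okW, List.all_append, Bool.and_eq_true] at hu this ⊢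
    exact ⟨hu, this⟩
  have e : wordEl el v • P i = wordEl el (v ++ C.lexp l ++ winv a) • wordEl el a • P i := by
    rw [wordEl_append, wordEl_append, wordEl_winv h.inv, mul_smul (_ * _), inv_smul_smul, mul_smul,
      lexp_fixes h hx l hl]
  rw [e, ← mul_smul s, hus, mul_smul, wordEl_append, mul_smul]
  congr 1
  have e3 := hf n hn
  rwa [FactHolds, hni] at e3

end spec

end Cfsg.Agent.HNPresented
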