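import Cfsg.Agent.Lib.StabCert.Chain
import Cfsg.Agent.Lib.HNPresented.TabData

/-!
# Checks of the permutations on 1408 points

* `tab_ok` : the letters are permutations, paired with their inverses
* `adj_ok` : they preserve the graph
* `rounds_ok` : a permutation preserving the graph and fixing `basePts` is the identity
-/

set_option autoImplicit false
set_option maxRecDepth 100000
set_option Elab.async false

namespace Cfsg.Agent.HNPresented

open Cfsg.Agent.StabCert

/-- One letter of the table and its partner. -/
def tabLetterOK (T T' : ℕ) : Bool :=
  (List.range 1408).all fun i => Nat.blt (look 11 T i) 1408 && look 11 T' (look 11 T i) == i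

theorem tab_ok : ((List.range 4).all fun n =>
    tabLetterOK (tab.getD (2 * n) 0) (tab.getD (2 * n + 1) 0) &&
      tabLetterOK (tab.getD (2 * n + 1) 0) (tab.getD (2 * n) 0)) = true := by decide +kernel

theorem derived_ok : ((List.range 1408).all fun i =>
    look 11 (tab.getD 6 0) i == ev 11 tab [1, 2, 0] i &&
      look 11 (tab.getD 7 0) i == ev 11 tab [1, 3, 0] i) = true := by decide +kernel

theorem mask_ok : ((List.range 1408).all fun p => Nat.beq (maskL (nbAt p)) (maskAt p) &&
    (nbAt p).all fun q => Nat.blt q 1408) = true := by decide +kernel

/-- A letter preserves the graph. -/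
def adjLetterOK (T : ℕ) : Bool :=
  (List.range 1408).all fun p => Nat.beq (maskL ((nbAt p).map (look 11 T))) (maskAt (look 11 T p))

theorem adj_ok : ((List.range 6).all fun a => adjLetterOK (tab.getD a 0)) = true := by decide +kernel

/-- The masks determine the new points among all points, by the points known before. -/
def roundOK (F : ℕ) (new : List ℕ) : Bool :=
  new.all fun p => Nat.blt p 1408 && (List.range 1408).all fun q =>
    q == p || !Nat.beq (Nat.land (maskAt q) F) (Nat.land (maskAt p) F)

/-- All rounds, from the base to all points. -/
def roundsOK : List (List ℕ) → ℕ → Bool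
  | [], F => Nat.beq F (2 ^ 1408 - 1)
  | r :: l, F => roundOK F r && roundsOK l (Nat.lor F (maskL r))

theorem rounds_ok : (roundsOK rounds (maskL basePts) && basePts.all fun p => Nat.blt p 1408) = true := by
  decide +kernel

end Cfsg.Agent.HNPresented
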