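import Cfsg.Prelude.Def_Spor_HN
import Cfsg.Agent.Lib.HNPresented.Engine
import Cfsg.Agent.Lib.HNPresented.Tables

/-!
# The group of the first ten relators of HN and its action on 1408 points

* `K`, `el`, `toHN` : the group on `x`, `y`, `z`, its letters, its map to HN
* `rho` : the permutation representation; `rho_eq_of_eqB` : it is decided on six points
-/

set_option autoImplicit false
set_option maxRecDepth 100000
set_option Elab.async false

open Cfsg

namespace Cfsg.Agent.HNPresented

open Cfsg.Agent.StabCert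

/-- Three generators. -/
inductive G3
  | x
  | y
  | z
  deriving DecidableEq

/-- The generator `x`. -/
abbrev gx : FreeGroup G3 := FreeGroup.of G3.x
/-- The generator `y`. -/
abbrev gy : FreeGroup G3 := FreeGroup.of G3.y
/-- The generator `z`. -/
abbrev gz : FreeGroup G3 := FreeGroup.of G3.z

/-- The relators of HN that do not involve `t`. -/
def rels3 : List (FreeGroup G3) := [
  gy ^ 6,
  (gx ^ 2) * gy * (gx ^ 2) * (gy⁻¹),
  (gx⁻¹ * gy⁻¹ * gx * gy) ^ 3,
  ((gx⁻¹) * (gy ^ 2) * gx * (gy ^ 3)) ^ 3,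
  (gx * gy) ^ 8,
  (gx * gy * gx * (gy ^ 3)) ^ 4,
  gz ^ 2,
  (gz * gx) ^ 2,
  (gz⁻¹ * (gy * gx * gy * gx * (gy ^ 2) * gx * (gy⁻¹))⁻¹ * gz * (gy * gx * gy * gx * (gy ^ 2) * gx * (gy⁻¹))) * ((gx ^ 2)⁻¹),
  gz * (((((gy ^ 3) * gx * gy * gx * gy)⁻¹ * gz * ((gy ^ 3) * gx * gy * gx * gy)) * gx) ^ 3)]

/-- The group of these relators. -/
abbrev K : Type := PresentedGroup {r | r ∈ rels3}

/-- The image of `x`. -/
noncomputable abbrev kx : K := PresentedGroup.of G3.x
/-- The image of `y`. -/
noncomputable abbrev ky : K := PresentedGroup.of G3.y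
/-- The image of `z`. -/
noncomputable abbrev kz : K := PresentedGroup.of G3.z

/-- The letters `x, x⁻¹, y, y⁻¹, z, z⁻¹, x⁻¹ y x, x⁻¹ y⁻¹ x`. -/
noncomputable def el : ℕ → K
  | 0 => kx
  | 1 => kx⁻¹
  | 2 => ky
  | 3 => ky⁻¹
  | 4 => kz
  | 5 => kz⁻¹
  | 6 => kx⁻¹ * ky * kx
  | 7 => (kx⁻¹ * ky * kx)⁻¹
  | _ => 1

theorem el_inv : ∀ n, el (2 * n + 1) = (el (2 * n))⁻¹
  | 0 => rfl
  | 1 => rfl
  | 2 => rfl
  | 3 => rfl
  | _ + 4 => inv_one.symm

/-- The relator set of HN. -/
abbrev hnRels : Set (FreeGroup Spor.HN.Gen) :=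
  Spor.coxRelators Spor.HN.edges ∪ {r | r ∈ Spor.HN.extra}

/-- The generators inside HN. -/
def incl : G3 → Spor.HN.Gen
  | .x => .x
  | .y => .y
  | .z => .z

theorem incl_rels : ∀ r ∈ rels3, FreeGroup.map incl r ∈ Spor.HN.extra := by
  decide +kernel

/-- The map to HN. -/
noncomputable def toHN : K →* Spor.HN :=
  PresentedGroup.toGroup (f := fun g => (PresentedGroup.of (incl g) : Spor.HN)) fun r hr => by
    have h : FreeGroup.lift (fun g => (PresentedGroup.of (incl g) : Spor.HN)) r
        = PresentedGroup.mk hnRels (FreeGroup.map incl r) :=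
      DFunLike.congr_fun (FreeGroup.ext_hom (f := FreeGroup.lift _)
        (g := (PresentedGroup.mk hnRels).comp (FreeGroup.map incl)) fun a => by
          simp [PresentedGroup.of]) r
    rw [h]
    exact PresentedGroup.one_of_mem (Or.inr (incl_rels r hr))

/-- A point by number. -/
def pt (i : ℕ) : Fin 1408 := Fin.ofNat 1408 i

theorem pt_val (p : Fin 1408) : pt p = p := Fin.ext (Nat.mod_eq_of_lt p.isLt)

theorem val_pt {i : ℕ} (h : i < 1408) : (pt i).val = i := Nat.mod_eq_of_lt h

theorem pt_injOn : Set.InjOn pt {i | i < 1408} := fun i hi j hj e => by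
  rw [← val_pt hi, ← val_pt hj, e]

/-- The image of a point under a letter. -/
def img (a : ℕ) (i : Fin 1408) : Fin 1408 := pt (look 11 (tab.getD a 0) i)

theorem tab_spec {a : ℕ} (ha : a < 8) {i : ℕ} (hi : i < 1408) :
    look 11 (tab.getD a 0) i < 1408 ∧
      look 11 (tab.getD (if a % 2 == 0 then a + 1 else a - 1) 0) (look 11 (tab.getD a 0) i) = i := by
  have h := tab_ok
  simp only [tabLetterOK, List.all_eq_true, Bool.and_eq_true, List.mem_range, Nat.blt_eq, beq_iff_eq] at h
  have hn := h (a / 2) (by omega)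
  rcases Nat.mod_two_eq_zero_or_one a with e | e
  · rw [if_pos (by simpa using e)]
    have : 2 * (a / 2) = a := by omega
    rw [this] at hn
    exact hn.1 i hi
  · rw [if_neg (by simp [e])]
    have e1 : 2 * (a / 2) + 1 = a := by omega
    have e2 : 2 * (a / 2) = a - 1 := by omega
    rw [e1, e2] at hn
    exact hn.2 i hi

theorem img_injective {a : ℕ} (ha : a < 8) : Function.Injective (img a) := by
  intro i j e
  obtain ⟨hi, hi'⟩ := tab_spec ha i.isLt
  obtain ⟨hj, hj'⟩ := tab_spec ha j.isLt
  have e' := congrArg Fin.val e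
  simp only [img, val_pt hi, val_pt hj] at e'
  exact Fin.ext (by rw [← hi', e', hj'])

/-- The permutation of a letter. -/
noncomputable def lperm (a : ℕ) : Equiv.Perm (Fin 1408) :=
  if h : a < 8 then Equiv.ofBijective (img a)
    ⟨img_injective h, Finite.surjective_of_injective (img_injective h)⟩ else 1

theorem lperm_apply {a : ℕ} (ha : a < 8) {i : ℕ} (hi : i < 1408) :
    lperm a (pt i) = pt (look 11 (tab.getD a 0) i) := by
  rw [lperm, dif_pos ha]
  show img a (pt i) = _
  rw [img, val_pt hi]

theorem lperm_partner (n : ℕ) : lperm (2 * n + 1) = (lperm (2 * n))⁻¹ := by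
  by_cases hn : n < 4
  · refine eq_inv_of_mul_eq_one_left (Equiv.ext fun p => ?_)
    have h1 := tab_spec (show 2 * n < 8 by omega) p.isLt
    rw [if_pos (by simp)] at h1
    rw [Equiv.Perm.mul_apply, ← pt_val p, lperm_apply (by omega) p.isLt,
      lperm_apply (by omega) h1.1, h1.2, pt_val, Equiv.Perm.one_apply]
  · simp [lperm, show ¬ 2 * n < 8 by omega, show ¬ 2 * n + 1 < 8 by omega]

/-- The permutations of the generators. -/
noncomputable def gperm : G3 → Equiv.Perm (Fin 1408)
  | .x => lperm 0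
  | .y => lperm 2
  | .z => lperm 4

/-- The letter of a generator or its inverse. -/
def code : G3 × Bool → ℕ
  | (.x, b) => bif b then 0 else 1
  | (.y, b) => bif b then 2 else 3
  | (.z, b) => bif b then 4 else 5

theorem code_lt (p : G3 × Bool) : code p < 8 := by
  rcases p with ⟨g, b⟩
  cases g <;> cases b <;> decide

theorem ev_word : ∀ (w : List (G3 × Bool)) {i : ℕ}, i < 1408 →
    ev 11 tab (w.map code) i < 1408 ∧
      FreeGroup.lift gperm (FreeGroup.mk w) (pt i) = pt (ev 11 tab (w.map code) i)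
  | [], i, hi => by simp [ev, hi, ← FreeGroup.one_eq_mk]
  | p :: w, i, hi => by
    obtain ⟨h1, h2⟩ := ev_word w hi
    refine ⟨(tab_spec (code_lt p) h1).1, ?_⟩
    rw [show FreeGroup.mk (p :: w) = FreeGroup.mk [p] * FreeGroup.mk w by rw [FreeGroup.mul_mk]; rfl,
      map_mul, Equiv.Perm.mul_apply, h2]
    show _ = pt (look 11 (tab.getD (code p) 0) (ev 11 tab (w.map code) i))
    rw [← lperm_apply (code_lt p) h1]
    rcases p with ⟨g, b⟩
    rw [FreeGroup.lift_mk]
    cases g <;> cases b <;>
      simp only [List.map_cons, List.map_nil, List.prod_cons, List.prod_nil, mul_one, cond_true,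
        cond_false, code, gperm] <;>
      (first
        | rfl
        | rw [show (1 : ℕ) = 2 * 0 + 1 from rfl, lperm_partner]
        | rw [show (3 : ℕ) = 2 * 1 + 1 from rfl, lperm_partner]
        | rw [show (5 : ℕ) = 2 * 2 + 1 from rfl, lperm_partner])

theorem rels3_ok : (rels3.all fun r => (List.range 1408).all fun i =>
    Nat.beq (ev 11 tab (r.toWord.map code) i) i) = true := by decide +kernel

/-- The representation on 1408 points. -/
noncomputable def rho : K →* Equiv.Perm (Fin 1408) :=
  PresentedGroup.toGroup (f := gperm) fun r hr => Equiv.ext fun p => by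
    have h := List.all_eq_true.1 (List.all_eq_true.1 rels3_ok r hr) p.val (List.mem_range.2 p.isLt)
    have e := (ev_word r.toWord p.isLt).2
    rw [FreeGroup.mk_toWord, Nat.eq_of_beq_eq_true h, pt_val] at e
    rw [e, Equiv.Perm.one_apply]

theorem rho_el : ∀ {a : ℕ}, a < 8 → rho (el a) = lperm a := by
  have h0 : ∀ n, n < 3 → rho (el (2 * n)) = lperm (2 * n) := by
    intro n hn
    interval_cases n <;> exact PresentedGroup.toGroup.of _
  have h1 : ∀ n, n < 3 → rho (el (2 * n + 1)) = lperm (2 * n + 1) := fun n hn => by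
    rw [el_inv, map_inv, h0 n hn, lperm_partner]
  have h6 : rho (el 6) = lperm 6 := by
    show rho (kx⁻¹ * ky * kx) = _
    rw [map_mul, map_mul, show rho kx⁻¹ = lperm 1 from h1 0 (by omega),
      show rho ky = lperm 2 from h0 1 (by omega), show rho kx = lperm 0 from h0 0 (by omega)]
    refine Equiv.ext fun p => ?_
    have hd := derived_ok
    simp only [List.all_eq_true, List.mem_range, Bool.and_eq_true, beq_iff_eq] at hd
    have a0 := (tab_spec (show 0 < 8 by omega) p.isLt).1
    have a2 := (tab_spec (show 2 < 8 by omega) a0).1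
    rw [Equiv.Perm.mul_apply, Equiv.Perm.mul_apply, ← pt_val p, lperm_apply (by omega) p.isLt,
      lperm_apply (by omega) a0, lperm_apply (by omega) a2, lperm_apply (by omega) p.isLt,
      (hd p.val p.isLt).1]
    rfl
  intro a ha
  interval_cases a
  exacts [h0 0 (by omega), h1 0 (by omega), h0 1 (by omega), h1 1 (by omega), h0 2 (by omega),
    h1 2 (by omega), h6, by rw [show (7 : ℕ) = 2 * 3 + 1 from rfl, el_inv, map_inv, h6, lperm_partner]]

theorem sound : TablesSound rho el pt 11 1408 8 tab := fun a ha i hi =>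
  ⟨(tab_spec ha hi).1, by rw [rho_el ha, lperm_apply ha hi]⟩

theorem wordEl_top : ∀ g : K, ∃ v : List ℕ, (∀ a ∈ v, a < 6) ∧ wordEl el v = g := by
  intro g
  have hg : g ∈ Subgroup.closure (Set.range (PresentedGroup.of : G3 → K)) := by
    rw [PresentedGroup.closure_range_of]; trivial
  have hinv : ∀ v : List ℕ, (∀ a ∈ v, a < 6) → ∀ a ∈ winv v, a < 6 := by
    intro v hv a ha
    simp only [winv, List.mem_reverse, List.mem_map] at ha
    obtain ⟨b, hb, rfl⟩ := ha
    have := hv b hb
    split
    · rename_i h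
      simp only [beq_iff_eq] at h
      omega
    · omega
  induction hg using Subgroup.closure_induction with
  | mem g hg =>
    obtain ⟨c, rfl⟩ := hg
    cases c
    · exact ⟨[0], by decide, by simp [wordEl, el]⟩
    · exact ⟨[2], by decide, by simp [wordEl, el]⟩
    · exact ⟨[4], by decide, by simp [wordEl, el]⟩
  | one => exact ⟨[], by simp, wordEl_nil el⟩
  | mul a b _ _ ha hb =>
    obtain ⟨v, hv, rfl⟩ := ha
    obtain ⟨w, hw, rfl⟩ := hb
    exact ⟨v ++ w, fun a ha => (List.mem_append.1 ha).elim (hv a) (hw a), wordEl_append el v w⟩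
  | inv a _ ha =>
    obtain ⟨v, hv, rfl⟩ := ha
    exact ⟨winv v, hinv v hv, wordEl_winv el_inv v⟩

/-- The graph relation. -/
def adj (p q : Fin 1408) : Bool := (maskAt p.val).testBit q.val

theorem mem_nb {p : ℕ} (hp : p < 1408) (q : ℕ) : (maskAt p).testBit q = true ↔ q ∈ nbAt p := by
  have h := mask_ok
  simp only [List.all_eq_true, List.mem_range, Bool.and_eq_true] at h
  rw [← Nat.eq_of_beq_eq_true (h p hp).1, testBit_maskL]

theorem adj_rho (g : K) : ∀ p q, adj (rho g p) (rho g q) = adj p q := by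
  obtain ⟨v, hv, rfl⟩ := wordEl_top g
  induction v with
  | nil => simp [wordEl_nil]
  | cons a v ih =>
    intro p q
    have ha : a < 6 := hv a List.mem_cons_self
    rw [wordEl_cons el a v, map_mul, Equiv.Perm.mul_apply, Equiv.Perm.mul_apply,
      ← ih (fun b hb => hv b (List.mem_cons_of_mem a hb)) p q]
    generalize rho (wordEl el v) p = p'
    generalize rho (wordEl el v) q = q'
    obtain ⟨hp1, hp2⟩ := sound a (by omega) p'.val p'.isLt
    obtain ⟨hq1, hq2⟩ := sound a (by omega) q'.val q'.isLt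
    rw [pt_val] at hp2 hq2
    rw [hp2, hq2, adj, adj, val_pt hp1, val_pt hq1]
    have hm := Nat.eq_of_beq_eq_true
      (List.all_eq_true.1 (List.all_eq_true.1 adj_ok a (List.mem_range.2 ha)) p'.val (List.mem_range.2 p'.isLt))
    rw [← hm, Bool.eq_iff_iff, testBit_maskL, List.mem_map, mem_nb p'.isLt]
    constructor
    · rintro ⟨b, hb, e⟩
      have hb' : b < 1408 := by
        have h := mask_ok
        simp only [List.all_eq_true, List.mem_range, Bool.and_eq_true, Nat.blt_eq] at h
        exact (h p'.val p'.isLt).2 b hb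
      have := congrArg (fun i => look 11 (tab.getD (if a % 2 == 0 then a + 1 else a - 1) 0) i) e
      simp only [(tab_spec (show a < 8 by omega) hb').2, (tab_spec (show a < 8 by omega) q'.isLt).2] at this
      exact this ▸ hb
    · exact fun h => ⟨q'.val, h, rfl⟩

theorem rounds_spec (g : K) : ∀ (l : List (List ℕ)) (F : ℕ), roundsOK l F = true →
    (∀ p : Fin 1408, F.testBit p.val = true → rho g p = p) →
    (∀ b, F.testBit b = true → b < 1408) → rho g = 1
  | [], F, h, hfix, _ => Equiv.ext fun p => hfix p (by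
      rw [Nat.eq_of_beq_eq_true h, Nat.testBit_two_pow_sub_one]
      exact decide_eq_true p.isLt)
  | r :: l, F, h, hfix, hF => by
    simp only [roundsOK, roundOK, Bool.and_eq_true, List.all_eq_true, List.mem_range, Nat.blt_eq,
      Bool.or_eq_true, beq_iff_eq, Bool.not_eq_true'] at h
    refine rounds_spec g l _ h.2 (fun p hp => ?_) (fun b hb => ?_)
    · rw [show Nat.lor F (maskL r) = F ||| maskL r from rfl, Nat.testBit_or, Bool.or_eq_true,
        testBit_maskL] at hp
      rcases hp with hp | hp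
      · exact hfix p hp
      rcases (h.1 p.val hp).2 (rho g p).val (rho g p).isLt with e | e
      · exact Fin.ext e
      exfalso
      refine Bool.eq_false_iff.1 e (Nat.beq_eq.mpr (Nat.eq_of_testBit_eq fun b => ?_))
      simp only [show ∀ a c, Nat.land a c = a &&& c from fun _ _ => rfl, Nat.testBit_and]
      by_cases hb : F.testBit b = true
      · have hb' := hF b hb
        have e2 := adj_rho g p ⟨b, hb'⟩
        rw [hfix ⟨b, hb'⟩ hb] at e2
        simp only [adj] at e2
        rw [e2]
      · simp [Bool.eq_false_iff.2 hb]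
    · rw [show Nat.lor F (maskL r) = F ||| maskL r from rfl, Nat.testBit_or, Bool.or_eq_true,
        testBit_maskL] at hb
      rcases hb with hb | hb
      · exact hF b hb
      · exact (h.1 b hb).1

theorem rho_eq_one {g : K} (h : ∀ b ∈ basePts, rho g (pt b) = pt b) : rho g = 1 := by
  have hr := rounds_ok
  simp only [Bool.and_eq_true, List.all_eq_true, Nat.blt_eq] at hr
  refine rounds_spec g _ _ hr.1 (fun p hp => ?_) fun b hb => hr.2 b ((testBit_maskL _ _).1 hb)
  have := h p.val ((testBit_maskL _ _).1 hp)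
  rwa [pt_val] at this

theorem rho_word {v : List ℕ} (hv : ∀ a ∈ v, a < 8) {i : ℕ} (hi : i < 1408) :
    ev 11 tab v i < 1408 ∧ rho (wordEl el v) (pt i) = pt (ev 11 tab v i) :=
  ev_spec sound v hv i hi

theorem rho_eq_of_base {v w : List ℕ} (hv : ∀ a ∈ v, a < 8) (hw : ∀ a ∈ w, a < 8)
    (h : ∀ b ∈ basePts, ev 11 tab v b = ev 11 tab w b) : rho (wordEl el v) = rho (wordEl el w) := by
  rw [← mul_inv_eq_one, ← map_inv, ← map_mul]
  have hb : ∀ b ∈ basePts, rho (wordEl el v) (pt b) = rho (wordEl el w) (pt b) := fun b hb => by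
    have hr := rounds_ok
    simp only [Bool.and_eq_true, List.all_eq_true, Nat.blt_eq] at hr
    rw [(rho_word hv (hr.2 b hb)).2, (rho_word hw (hr.2 b hb)).2, h b hb]
  have h1 : rho ((wordEl el w)⁻¹ * wordEl el v) = 1 := rho_eq_one fun b hb' => by
    rw [map_mul, Equiv.Perm.mul_apply, hb b hb', map_inv, Equiv.Perm.inv_def, Equiv.symm_apply_apply]
  rw [map_mul, map_inv, inv_mul_eq_one] at h1
  rw [map_mul, map_inv, h1, mul_inv_cancel]

end Cfsg.Agent.HNPresented
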