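import Cfsg.Agent.EqLemmas

/-!
# The action on a hundred vertices

Generated data: the images of the vertices of `HSPerm.hsPerm` under the letters, a set of vertices
fixed by the stabiliser of the point `0`, and words whose translates of this set separate the vertices.
-/

set_option autoImplicit false
set_option maxRecDepth 100000

namespace Cfsg.Agent.HNPresented

/-- The images of the vertices under the letters. -/
def blockTab : List ℕ :=
  [0x1b49686a96c4a3bd3649a9649e5f1d881388472d15aea6ca4403c219513d8145ee58d56c2df5002ec2a75861ec17e030b342765436859148b8955c7364154e3f62232149a640115819e8d4f187745ee931981ac52345bae,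
   0x1b49686a96c4a3bd3649a9649e5f1d881388472d15aea6ca4403c219513d8145ee58d56c2df5002ec2a75861ec17e030b342765436859148b8955c7364154e3f62232149a640115819e8d4f187745ee931981ac52345bae,
   0x569cf4caae4ddf475a3327124eac6b78d51891db18a1758a6b0ccbc13ef9148c09545a32f292e9771fa09491d309d5dda9c3161634302a2fb6d16cf86f66b7b273153543c303242c61410140912610a901c3438a2c24100,
   0x50655bfb94a53646f0dc75d6afa530e684b40bcee06eceb409d6554f3ea62266b08f3a5ac6f5739369a28d624b048e10d4c65d63dc521f32b7053b48786a9abb45dcc8a0c490164c6082c1c311241010f0a5470a2804680,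
   0xc74ac56a96eedcbd56ce1a182d5fa78a8d79ecde3a70864a48e5cf1937098405ee5ecd6d31f4b6eedab49c618c17eb8d1c527559f4e991484696520511552c86b62328c58594101818414386872a3c49318482902208080,
   0xc74ac56a96eedcbd56ce1a182d5fa78a8d79ecde3a70864a48e5cf1937098405ee5ecd6d31f4b6eedab49c618c17eb8d1c527559f4e991484696520511552c86b62328c58594101818414386872a3c49318482902208080]

/-- A set of vertices. -/
def baseHalf : List ℕ := [0, 4, 10, 11, 12, 17, 18, 19, 24, 26, 27, 28, 29, 30, 32, 34, 38, 40, 43, 51, 52, 53, 54, 55, 57, 61, 63, 64, 65, 68, 70, 72, 74, 75, 76, 77, 79, 80, 81, 82, 83, 85, 89, 92, 93, 94, 95, 96, 97, 99]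

/-- Words of separating translates. -/
def sepWords : List (List ℕ) := [[], [4], [2, 4], [3, 4], [0, 2, 4], [2, 2, 4], [4, 2, 4], [0, 3, 4], [4, 3, 4], [3, 3, 4], [2, 0, 2, 4], [0, 2, 2, 4], [3, 4, 3, 4], [2, 0, 2, 2, 4], [0, 2, 0, 2, 2, 4]]

/-- The first two generators of `HSPerm.hsPerm` as words. -/
def hsWords : List (List ℕ) := [[4, 3, 4, 2, 4, 2, 2, 0, 2, 2, 2, 4, 0, 2, 4, 2, 4, 0, 2, 0, 3], [2, 2, 0, 2, 2, 2, 4, 3, 4, 3, 3, 4, 0, 3, 4, 2, 2, 4, 2, 4, 2]]

/-- `z` on the vertices, as transpositions. -/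
def zSwaps : List (ℕ × ℕ) := [(3, 17), (4, 16), (6, 18), (7, 12), (8, 19), (10, 15), (11, 21), (23, 70), (24, 50), (25, 68), (26, 45), (27, 67), (28, 44), (29, 42), (30, 69), (31, 40), (33, 74), (34, 37), (36, 72), (41, 43), (47, 63), (48, 65), (51, 78), (54, 59), (56, 75), (57, 62), (58, 76), (60, 77), (80, 87), (82, 98), (84, 95), (85, 90), (86, 96), (88, 97), (91, 94)]

end Cfsg.Agent.HNPresented
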