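import Cfsg.Agent.Lib.HNPresented.LowerStab
import Cfsg.Agent.Lib.HNPresented.BlockData
import Cfsg.Agent.Lib.HigmanSimsPerm.Iso

/-!
# The action of the image on a hundred blocks

* `psi` : the homomorphism to the permutations of the blocks
* `hsPerm_le_psi`, `card_psi_ker` : it contains the Higman-Sims group, the kernel is `⟨x²⟩`
* `psi_commutator` : derived elements land in the Higman-Sims group
-/

set_option autoImplicit false
set_option maxRecDepth 100000
set_option Elab.async false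

open Cfsg

namespace Cfsg.Agent.HNPresented

open Cfsg.Agent.StabCert

theorem btab_ok : ((List.range 6).all fun a => (List.range 100).all fun v =>
    Nat.blt (look 7 (blockTab.getD a 0) v) 100 &&
      look 7 (blockTab.getD (if a % 2 == 0 then a + 1 else a - 1) 0) (look 7 (blockTab.getD a 0) v) == v) =
    true := by decide +kernel

theorem btab_spec {a : ℕ} (ha : a < 6) {v : ℕ} (hv : v < 100) :
    look 7 (blockTab.getD a 0) v < 100 ∧
      look 7 (blockTab.getD (if a % 2 == 0 then a + 1 else a - 1) 0) (look 7 (blockTab.getD a 0) v) = v := by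
  have h := btab_ok
  simp only [List.all_eq_true, List.mem_range, Bool.and_eq_true, Nat.blt_eq, beq_iff_eq] at h
  simpa using h a ha v hv

/-- The image of a vertex under a letter. -/
def bimg (a : ℕ) (v : Fin 100) : Fin 100 := Cfsg.Agent.HSPerm.pt (look 7 (blockTab.getD a 0) v)

theorem bimg_injective {a : ℕ} (ha : a < 6) : Function.Injective (bimg a) := by
  intro i j e
  obtain ⟨hi, hi'⟩ := btab_spec ha i.isLt
  obtain ⟨hj, hj'⟩ := btab_spec ha j.isLt
  have e' := congrArg Fin.val e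
  simp only [bimg, Cfsg.Agent.HSPerm.val_pt hi, Cfsg.Agent.HSPerm.val_pt hj] at e'
  exact Fin.ext (by rw [← hi', e', hj'])

/-- The permutation of the vertices of a letter. -/
noncomputable def bperm (a : ℕ) : Equiv.Perm (Fin 100) :=
  if h : a < 6 then Equiv.ofBijective (bimg a)
    ⟨bimg_injective h, Finite.surjective_of_injective (bimg_injective h)⟩ else 1

theorem bperm_apply {a : ℕ} (ha : a < 6) {i : ℕ} (hi : i < 100) :
    bperm a (Cfsg.Agent.HSPerm.pt i) = Cfsg.Agent.HSPerm.pt (look 7 (blockTab.getD a 0) i) := by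
  rw [bperm, dif_pos ha]
  show bimg a (Cfsg.Agent.HSPerm.pt i) = _
  rw [bimg, Cfsg.Agent.HSPerm.val_pt hi]

theorem bperm_partner {n : ℕ} (hn : n < 3) : bperm (2 * n + 1) = (bperm (2 * n))⁻¹ := by
  refine eq_inv_of_mul_eq_one_left (Equiv.ext fun p => ?_)
  have h1 := btab_spec (show 2 * n < 6 by omega) p.isLt
  rw [if_pos (by simp)] at h1
  rw [Equiv.Perm.mul_apply, ← Cfsg.Agent.HSPerm.pt_val p, bperm_apply (by omega) p.isLt,
    bperm_apply (by omega) h1.1, h1.2, Cfsg.Agent.HSPerm.pt_val, Equiv.Perm.one_apply]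

/-- The generators on the vertices. -/
noncomputable def bgen : G3 → Equiv.Perm (Fin 100)
  | .x => bperm 0
  | .y => bperm 2
  | .z => bperm 4

theorem code_lt6 (p : G3 × Bool) : code p < 6 := by
  rcases p with ⟨g, b⟩
  cases g <;> cases b <;> decide

theorem bev_word : ∀ (w : List (G3 × Bool)) {i : ℕ}, i < 100 →
    ev 7 blockTab (w.map code) i < 100 ∧
      FreeGroup.lift bgen (FreeGroup.mk w) (Cfsg.Agent.HSPerm.pt i) = Cfsg.Agent.HSPerm.pt (ev 7 blockTab (w.map code) i)
  | [], i, hi => by simp [ev, hi, ← FreeGroup.one_eq_mk]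
  | p :: w, i, hi => by
    obtain ⟨h1, h2⟩ := bev_word w hi
    refine ⟨(btab_spec (code_lt6 p) h1).1, ?_⟩
    rw [show FreeGroup.mk (p :: w) = FreeGroup.mk [p] * FreeGroup.mk w by rw [FreeGroup.mul_mk]; rfl,
      map_mul, Equiv.Perm.mul_apply, h2]
    show _ = Cfsg.Agent.HSPerm.pt (look 7 (blockTab.getD (code p) 0) (ev 7 blockTab (w.map code) i))
    rw [← bperm_apply (code_lt6 p) h1]
    rcases p with ⟨g, b⟩
    rw [FreeGroup.lift_mk]
    cases g <;> cases b <;>
      simp only [List.map_cons, List.map_nil, List.prod_cons, List.prod_nil, mul_one, cond_true,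
        cond_false, code, bgen] <;>
      (first
        | rfl
        | rw [show (1 : ℕ) = 2 * 0 + 1 from rfl, bperm_partner (by omega)]
        | rw [show (3 : ℕ) = 2 * 1 + 1 from rfl, bperm_partner (by omega)]
        | rw [show (5 : ℕ) = 2 * 2 + 1 from rfl, bperm_partner (by omega)])

theorem rels3_ok100 : (rels3.all fun r => (List.range 100).all fun i =>
    Nat.beq (ev 7 blockTab (r.toWord.map code) i) i) = true := by decide +kernel

/-- The representation of `K` on the vertices. -/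
noncomputable def psiK : K →* Equiv.Perm (Fin 100) :=
  PresentedGroup.toGroup (f := bgen) fun r hr => Equiv.ext fun p => by
    have h := List.all_eq_true.1 (List.all_eq_true.1 rels3_ok100 r hr) p.val (List.mem_range.2 p.isLt)
    have e := (bev_word r.toWord p.isLt).2
    rw [FreeGroup.mk_toWord, Nat.eq_of_beq_eq_true h, Cfsg.Agent.HSPerm.pt_val] at e
    rw [e, Equiv.Perm.one_apply]

theorem psiK_el : ∀ {a : ℕ}, a < 6 → psiK (el a) = bperm a := by
  have h0 : ∀ n, n < 3 → psiK (el (2 * n)) = bperm (2 * n) := by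
    intro n hn
    interval_cases n <;> exact PresentedGroup.toGroup.of _
  intro a ha
  rcases Nat.mod_two_eq_zero_or_one a with e | e
  · have := h0 (a / 2) (by omega)
    rwa [show 2 * (a / 2) = a by omega] at this
  · obtain ⟨n, rfl⟩ : ∃ n, a = 2 * n + 1 := ⟨a / 2, by omega⟩
    rw [el_inv, map_inv, h0 n (by omega), bperm_partner (by omega)]

theorem psiK_word : ∀ (u : List ℕ), (∀ a ∈ u, a < 6) → ∀ {i : ℕ}, i < 100 →
    ev 7 blockTab u i < 100 ∧ psiK (wordEl el u) (Cfsg.Agent.HSPerm.pt i) = Cfsg.Agent.HSPerm.pt (ev 7 blockTab u i)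
  | [], _, i, hi => ⟨hi, by rw [wordEl_nil, map_one]; rfl⟩
  | a :: u, hu, i, hi => by
    obtain ⟨h1, h2⟩ := psiK_word u (fun b hb => hu b (List.mem_cons_of_mem a hb)) hi
    have ha := hu a List.mem_cons_self
    refine ⟨(btab_spec ha h1).1, ?_⟩
    rw [wordEl_cons el a u, map_mul, Equiv.Perm.mul_apply, h2, psiK_el ha, bperm_apply ha h1]
    rfl

theorem half_ok : (fixWords.all fun e => (e.all fun a => Nat.blt a 6) &&
      baseHalf.all fun i => Nat.blt i 100 && baseHalf.contains (ev 7 blockTab e i)) = true ∧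
    (sepWords.all fun w => w.all fun a => Nat.blt a 6) = true ∧
    ((List.range 100).all fun i => (List.range 100).all fun j => i == j || sepWords.any fun w =>
      (maskL (baseHalf.map fun q => ev 7 blockTab w q)).testBit i !=
        (maskL (baseHalf.map fun q => ev 7 blockTab w q)).testBit j) = true := by
  decide +kernel

/-- The set of vertices fixed by the stabiliser of `0`. -/
def halfSet : Set (Fin 100) := {p | p.val ∈ baseHalf}

theorem psiK_half {k : K} (hk : k ∈ fixGroup) : psiK k '' halfSet = halfSet := by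
  have h := half_ok.1
  simp only [List.all_eq_true, Bool.and_eq_true, Nat.blt_eq, List.contains_iff_mem] at h
  have key : ∀ e ∈ fixWords, psiK (wordEl el e) '' halfSet = halfSet := fun e he => by
    obtain ⟨h1, h2⟩ := h e he
    refine Set.eq_of_subset_of_ncard_le ?_ (le_of_eq (Set.ncard_image_of_injective _ (Equiv.injective _)).symm)
    rintro _ ⟨p, hp, rfl⟩
    rw [← Cfsg.Agent.HSPerm.pt_val p, (psiK_word e h1 p.isLt).2]
    show (Cfsg.Agent.HSPerm.pt _).val ∈ baseHalf
    rw [Cfsg.Agent.HSPerm.val_pt (psiK_word e h1 p.isLt).1]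
    exact (h2 p.val hp).2
  induction hk using Subgroup.closure_induction with
  | mem g hg =>
    rcases hg with rfl | rfl | rfl | rfl
    · simpa [wordEl, el] using key [2] (by simp [fixWords])
    · simpa [wordEl, el, mul_assoc] using key [1, 2, 0] (by simp [fixWords])
    · simpa [wordEl, el, mul_assoc] using key [0, 2, 1] (by simp [fixWords])
    · simpa [wordEl, el, pow_succ, mul_assoc] using key [0, 0, 0, 0] (by simp [fixWords])
  | one => simp
  | mul a b _ _ ha hb => rw [map_mul, Equiv.Perm.coe_mul, Set.image_comp, hb, ha]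
  | inv a _ ha =>
    conv_lhs => rw [← ha]
    rw [map_inv, ← Set.image_comp, ← Equiv.Perm.coe_mul, inv_mul_cancel, Equiv.Perm.coe_one, Set.image_id]

theorem psiK_ker : rb.ker ≤ psiK.ker := by
  intro k hk
  have hk' : rho k = 1 := congrArg Subtype.val (MonoidHom.mem_ker.1 hk)
  refine MonoidHom.mem_ker.2 (Equiv.ext fun p => ?_)
  obtain ⟨-, hw, hsep⟩ := half_ok
  simp only [List.all_eq_true, List.mem_range, Bool.or_eq_true, beq_iff_eq, List.any_eq_true,
    bne_iff_ne, Nat.blt_eq] at hw hsep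
  have key : ∀ w ∈ sepWords, ∀ q : Fin 100,
      ((maskL (baseHalf.map fun q => ev 7 blockTab w q)).testBit q.val = true ↔
        q ∈ psiK (wordEl el w) '' halfSet) := fun w hwm q => by
    rw [testBit_maskL, List.mem_map]
    have hb : ∀ i ∈ baseHalf, i < 100 := fun i hi => by
      have h := half_ok.1
      simp only [List.all_eq_true, Bool.and_eq_true, Nat.blt_eq] at h
      exact ((h [2] (by simp [fixWords])).2 i hi).1
    constructor
    · rintro ⟨i, hi, e⟩
      refine ⟨Cfsg.Agent.HSPerm.pt i, ?_, ?_⟩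
      · show (Cfsg.Agent.HSPerm.pt i).val ∈ baseHalf
        rw [Cfsg.Agent.HSPerm.val_pt (hb i hi)]; exact hi
      · rw [(psiK_word w (hw w hwm) (hb i hi)).2, e, Cfsg.Agent.HSPerm.pt_val]
    · rintro ⟨i, hi, e⟩
      refine ⟨i.val, hi, ?_⟩
      rw [← Cfsg.Agent.HSPerm.pt_val i, (psiK_word w (hw w hwm) i.isLt).2] at e
      rw [← e, Cfsg.Agent.HSPerm.val_pt (psiK_word w (hw w hwm) i.isLt).1]
  by_contra hne
  have hne' : (psiK k p).val ≠ p.val := fun e => hne (by rw [Fin.ext e]; rfl)
  obtain ⟨w, hwm, hd⟩ := (hsep _ (psiK k p).isLt _ p.isLt).resolve_left hne'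
  refine hd (Bool.eq_iff_iff.2 ?_)
  rw [key w hwm, key w hwm]
  set g := wordEl el w
  have himg : psiK k '' (psiK g '' halfSet) = psiK g '' halfSet := by
    have hn : g⁻¹ * k * g ∈ fixGroup := mem_fixGroup_of_ker (by simp [hk'])
    conv_rhs => rw [← psiK_half hn]
    rw [← Set.image_comp, ← Set.image_comp, ← Equiv.Perm.coe_mul, ← Equiv.Perm.coe_mul, ← map_mul,
      ← map_mul, show g * (g⁻¹ * k * g) = k * g by group]
  conv_lhs => rw [← himg]
  exact (Equiv.injective (psiK k)).mem_set_image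

/-- The action on the vertices. -/
noncomputable def psi : Kb →* Equiv.Perm (Fin 100) :=
  rb.liftOfSurjective rho.rangeRestrict_surjective ⟨psiK, psiK_ker⟩

theorem psi_rb (k : K) : psi (rb k) = psiK k :=
  MonoidHom.liftOfRightInverse_comp_apply _ _ _ ⟨psiK, psiK_ker⟩ k

theorem psi_word (u : List ℕ) (hu : ∀ a ∈ u, a < 6) {i : ℕ} (hi : i < 100) :
    ev 7 blockTab u i < 100 ∧ psi (eb u) (Cfsg.Agent.HSPerm.pt i) = Cfsg.Agent.HSPerm.pt (ev 7 blockTab u i) := by
  rw [show eb u = rb (wordEl el u) from rfl, psi_rb]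
  exact psiK_word u hu hi

theorem psi_eq {u : List ℕ} (hu : ∀ a ∈ u, a < 6) (f : Equiv.Perm (Fin 100))
    (h : ∀ i < 100, f (Cfsg.Agent.HSPerm.pt i) = Cfsg.Agent.HSPerm.pt (ev 7 blockTab u i)) : psi (eb u) = f :=
  Equiv.ext fun v => by
    rw [← Cfsg.Agent.HSPerm.pt_val v, (psi_word u hu v.isLt).2, ← h v.val v.isLt]

theorem hsWords_ok : ((List.range 2).all fun k => ((hsWords.getD k []).all fun a => Nat.blt a 6) &&
    (List.range 100).all fun i => ev 7 blockTab (hsWords.getD k []) i ==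
      look 7 (Cfsg.Agent.HSPerm.tab.getD k 0) i) = true := by decide +kernel

theorem gen_mem_psi {k : ℕ} (hk : k < 2) : Cfsg.Agent.HSPerm.gen k ∈ psi.range := by
  have h := hsWords_ok
  simp only [Bool.and_eq_true, List.all_eq_true, List.mem_range, Nat.blt_eq, beq_iff_eq] at h
  refine ⟨eb (hsWords.getD k []), psi_eq (h k hk).1 _ fun i hi => ?_⟩
  rw [(h k hk).2 i hi]
  exact (Cfsg.Agent.HSPerm.sound k (by omega) i hi).2

theorem hsPerm_le_psi : Cfsg.Agent.HSPerm.hsPerm ≤ psi.range := by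
  refine Cfsg.Agent.HSPerm.hsPerm_le.trans ?_
  rw [sub, Subgroup.closure_le]
  rintro _ ⟨k, hk, rfl⟩
  exact gen_mem_psi (List.mem_range.1 hk)

/-- The sign of a block permutation. -/
noncomputable def bsgn : Equiv.Perm (Fin 100) →* ℤˣ := Equiv.Perm.sign

theorem sign_of_odd_pow {f : Equiv.Perm (Fin 100)} {n : ℕ} (h : f ^ (2 * n + 1) = 1) : bsgn f = 1 := by
  have e := congrArg bsgn h
  rw [map_pow, map_one, pow_succ, pow_mul, Int.units_sq, one_pow, one_mul] at e
  exact e

theorem sign_hsPerm {f : Equiv.Perm (Fin 100)} (hf : f ∈ Cfsg.Agent.HSPerm.hsPerm) : bsgn f = 1 := by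
  refine (show Cfsg.Agent.HSPerm.hsPerm ≤ bsgn.ker from
    Cfsg.Agent.HSPerm.hsPerm_le.trans ?_) hf
  rw [sub, Subgroup.closure_le]
  rintro _ ⟨k, hk, rfl⟩
  have hk' : k < 2 := List.mem_range.1 hk
  interval_cases k
  · exact sign_of_odd_pow (n := 2) Cfsg.Agent.HSPerm.gen_pow.1
  · exact sign_of_odd_pow (n := 5) Cfsg.Agent.HSPerm.gen_pow.2

/-- The product of the transpositions. -/
def swapsFun (l : List (ℕ × ℕ)) : Equiv.Perm (Fin 100) :=
  (l.map fun p => Equiv.swap (Cfsg.Agent.HSPerm.pt p.1) (Cfsg.Agent.HSPerm.pt p.2)).prod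

/-- One transposition on numbers. -/
def swapN (p : ℕ × ℕ) (j : ℕ) : ℕ := bif j == p.1 then p.2 else bif j == p.2 then p.1 else j

/-- The transpositions on numbers. -/
def swapsN : List (ℕ × ℕ) → ℕ → ℕ
  | [], i => i
  | p :: l, i => swapN p (swapsN l i)

theorem swapsFun_apply : ∀ (l : List (ℕ × ℕ)), (∀ p ∈ l, p.1 < 100 ∧ p.2 < 100) → ∀ {i : ℕ}, i < 100 →
    swapsN l i < 100 ∧ swapsFun l (Cfsg.Agent.HSPerm.pt i) = Cfsg.Agent.HSPerm.pt (swapsN l i)
  | [], _, i, hi => ⟨hi, rfl⟩
  | p :: l, hl, i, hi => by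
    obtain ⟨h1, h2⟩ := swapsFun_apply l (fun q hq => hl q (List.mem_cons_of_mem p hq)) hi
    obtain ⟨ha, hb⟩ := hl p List.mem_cons_self
    have e : swapsFun (p :: l) = Equiv.swap (Cfsg.Agent.HSPerm.pt p.1) (Cfsg.Agent.HSPerm.pt p.2) * swapsFun l :=
      List.prod_cons
    rw [e, Equiv.Perm.mul_apply, h2, swapsN, swapN]
    set j := swapsN l i with hj
    by_cases hA : j = p.1
    · simp only [hA, beq_self_eq_true, cond_true]
      exact ⟨hb, Equiv.swap_apply_left _ _⟩
    by_cases hB : j = p.2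
    · simp only [hB, beq_eq_false_iff_ne.2 (hB ▸ hA), beq_self_eq_true, cond_true, cond_false]
      exact ⟨ha, Equiv.swap_apply_right _ _⟩
    simp only [beq_eq_false_iff_ne.2 hA, beq_eq_false_iff_ne.2 hB, cond_false]
    exact ⟨h1, Equiv.swap_apply_of_ne_of_ne (fun e' => hA (Cfsg.Agent.HSPerm.pt_injOn h1 ha e'))
      (fun e' => hB (Cfsg.Agent.HSPerm.pt_injOn h1 hb e'))⟩

theorem z_swaps_ok : ((List.range 100).all fun i => swapsN zSwaps i == ev 7 blockTab [4] i) = true ∧
    zSwaps.length = 35 ∧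
      (zSwaps.all fun p => Nat.blt p.1 100 && Nat.blt p.2 100 && !(p.1 == p.2)) = true := by
  decide +kernel

theorem bsgn_swap {a b : Fin 100} (h : a ≠ b) : bsgn (Equiv.swap a b) = -1 := by
  unfold bsgn
  exact Equiv.Perm.sign_swap h

theorem bsgn_swaps : ∀ l : List (ℕ × ℕ),
    (∀ p ∈ l, Cfsg.Agent.HSPerm.pt p.1 ≠ Cfsg.Agent.HSPerm.pt p.2) → bsgn (swapsFun l) = (-1) ^ l.length
  | [], _ => by
    rw [show swapsFun [] = 1 from rfl, map_one, List.length_nil, pow_zero]
  | p :: l, h => by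
    have e : swapsFun (p :: l) = Equiv.swap (Cfsg.Agent.HSPerm.pt p.1) (Cfsg.Agent.HSPerm.pt p.2) * swapsFun l :=
      List.prod_cons
    rw [e, map_mul, bsgn_swap (h p List.mem_cons_self),
      bsgn_swaps l (fun q hq => h q (List.mem_cons_of_mem p hq)), List.length_cons, pow_succ']

theorem sign_psi_z : bsgn (psi (eb [4])) = -1 := by
  obtain ⟨h1, h2, h3⟩ := z_swaps_ok
  simp only [List.all_eq_true, List.mem_range, Bool.and_eq_true, Nat.blt_eq, beq_iff_eq, Bool.not_eq_true',
    beq_eq_false_iff_ne] at h1 h3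
  rw [psi_eq (by simp) (swapsFun zSwaps) fun i hi => by
      rw [(swapsFun_apply zSwaps (fun p hp => (h3 p hp).1) hi).2, h1 i hi],
    bsgn_swaps zSwaps fun p hp e =>
      (h3 p hp).2 (Cfsg.Agent.HSPerm.pt_injOn (h3 p hp).1.1 (h3 p hp).1.2 e), h2]
  exact Odd.neg_one_pow ⟨17, rfl⟩

theorem x2_ok : ((List.range 100).all fun i => ev 7 blockTab [0, 0] i == i) = true ∧
    basePts.any (fun b => !(ev 11 tab [0, 0] b == b)) = true ∧
    topCfg.eqB [0, 0, 2] [2, 0, 0] = true ∧ topCfg.eqB [0, 0, 4] [4, 0, 0] = true ∧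
    topCfg.eqB [0, 0, 0, 0] [] = true := by
  decide +kernel

theorem x2_mem_ker : eb [0, 0] ∈ psi.ker := by
  have h := x2_ok.1
  simp only [List.all_eq_true, List.mem_range, beq_iff_eq] at h
  exact MonoidHom.mem_ker.2 (psi_eq (by simp) 1 fun i hi => by rw [h i hi]; rfl)

theorem x2_ne_one : eb [0, 0] ≠ 1 := by
  intro e
  have h := x2_ok.2.1
  simp only [List.any_eq_true, Bool.not_eq_true', beq_eq_false_iff_ne] at h
  obtain ⟨b, hb, hne⟩ := h
  have hb' : b < 1408 := by revert b; decide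
  have h1 := eb_smul (v := [0, 0]) (by decide) hb'
  rw [e, one_smul] at h1
  exact hne (pt_injOn (ev_lt (v := [0, 0]) (by decide) hb') hb' h1.symm)

/-- `x²` is central. -/
theorem x2_central : eb [0, 0] ∈ Subgroup.center Kb := by
  obtain ⟨-, -, hy, hz, -⟩ := x2_ok
  refine Subgroup.mem_center_iff.2 fun g => ?_
  obtain ⟨_, k, rfl⟩ := g
  obtain ⟨u, hu, rfl⟩ := wordEl_top k
  show eb u * eb [0, 0] = eb [0, 0] * eb u
  have h0 : Commute (eb [0, 0]) (eb [0]) := by
    show _ = _
    rw [← eb_append, ← eb_append]; rfl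
  have h2 : Commute (eb [0, 0]) (eb [2]) := by
    show _ = _
    rw [← eb_append, ← eb_append]; exact eb_eq hy
  have h4 : Commute (eb [0, 0]) (eb [4]) := by
    show _ = _
    rw [← eb_append, ← eb_append]; exact eb_eq hz
  refine (show Commute (eb [0, 0]) (eb u) from ?_).eq.symm
  induction u with
  | nil => rw [eb_nil]; exact Commute.one_right _
  | cons a u ih =>
    rw [show a :: u = [a] ++ u from rfl, eb_append]
    refine Commute.mul_right ?_ (ih fun b hb => hu b (List.mem_cons_of_mem a hb))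
    have ha := hu a List.mem_cons_self
    interval_cases a
    · exact h0
    · rw [show ([1] : List ℕ) = winv [0] from rfl, eb_winv]; exact h0.inv_right
    · exact h2
    · rw [show ([3] : List ℕ) = winv [2] from rfl, eb_winv]; exact h2.inv_right
    · exact h4
    · rw [show ([5] : List ℕ) = winv [4] from rfl, eb_winv]; exact h4.inv_right

theorem neg_one_pow_inj : ∀ a b : Fin 2, (-1 : ℤˣ) ^ a.val = (-1 : ℤˣ) ^ b.val → a = b := by decide

theorem card_psi_range : Nat.card psi.range = 88704000 := by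
  have h1 : 2 * Nat.card Cfsg.Agent.HSPerm.hsPerm ≤ Nat.card psi.range := by
    let f : Fin 2 × Cfsg.Agent.HSPerm.hsPerm → psi.range := fun p =>
      ⟨psi (eb [4]) ^ p.1.val * p.2.1, mul_mem (pow_mem (MonoidHom.mem_range.2 ⟨eb [4], rfl⟩) _) (hsPerm_le_psi p.2.2)⟩
    have hf : Function.Injective f := by
      intro p q e
      have e' : psi (eb [4]) ^ p.1.val * p.2.1 = psi (eb [4]) ^ q.1.val * q.2.1 := congrArg Subtype.val e
      have e2 := congrArg bsgn e'
      rw [map_mul, map_mul, map_pow, map_pow, sign_psi_z, sign_hsPerm p.2.2, sign_hsPerm q.2.2, mul_one,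
        mul_one] at e2
      obtain ⟨a, p2⟩ := p
      obtain ⟨b, q2⟩ := q
      obtain rfl : a = b := neg_one_pow_inj a b e2
      exact Prod.ext rfl (Subtype.ext (mul_left_cancel e'))
    simpa using Nat.card_le_card_of_injective f hf
  rw [Cfsg.Agent.HSPerm.natCard_hsPerm] at h1
  have h2 : Nat.card psi.ker * Nat.card psi.range = 177408000 := by
    rw [← Subgroup.index_ker, Subgroup.card_mul_index, natCard_Kb]
  have h3 : 1 < Nat.card psi.ker := by
    rw [Subgroup.one_lt_card_iff_ne_bot psi.ker]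
    intro hb
    exact x2_ne_one (Subgroup.mem_bot.1 (hb ▸ x2_mem_ker))
  rw [show (177408000 : ℕ) = 2 * 88704000 by norm_num] at h2
  rw [show 2 * 44352000 = (88704000 : ℕ) by norm_num] at h1
  exact le_antisymm (Nat.le_of_mul_le_mul_left ((Nat.mul_le_mul_right _ h3).trans h2.le) two_pos) h1

theorem card_psi_ker : Nat.card psi.ker = 2 := by
  have h : Nat.card psi.ker * Nat.card psi.range = 177408000 := by
    rw [← Subgroup.index_ker, Subgroup.card_mul_index, natCard_Kb]
  rw [card_psi_range, show (177408000 : ℕ) = 2 * 88704000 by norm_num] at h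
  exact Nat.eq_of_mul_eq_mul_right (by norm_num) h

theorem psi_ker_le_center : psi.ker ≤ Subgroup.center Kb := by
  have h : Subgroup.zpowers (eb [0, 0]) = psi.ker := by
    refine Subgroup.eq_of_le_of_card_ge (Subgroup.zpowers_le.2 x2_mem_ker) ?_
    rw [card_psi_ker]
    exact (Subgroup.one_lt_card_iff_ne_bot _).2 (Subgroup.zpowers_ne_bot.2 x2_ne_one)
  rw [← h]
  exact Subgroup.zpowers_le.2 x2_central

/-- Even permutations of the blocks in the image are in the Higman-Sims group. -/
theorem mem_hsPerm_of_even {g : Kb} (h : bsgn (psi g) = 1) : psi g ∈ Cfsg.Agent.HSPerm.hsPerm := by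
  set E := psi.range ⊓ bsgn.ker
  have hle : Cfsg.Agent.HSPerm.hsPerm ≤ E := le_inf hsPerm_le_psi fun f hf => sign_hsPerm hf
  have hne : E < psi.range := lt_of_le_of_ne inf_le_left fun e => by
    have h4 : psi (eb [4]) ∈ E := e.ge ⟨_, rfl⟩
    have := MonoidHom.mem_ker.1 h4.2
    rw [sign_psi_z] at this
    exact absurd this (by decide)
  have hdvd := Subgroup.card_dvd_of_le hne.le
  have hlt : Nat.card E < 88704000 := card_psi_range ▸ (lt_of_le_of_ne
    (Nat.le_of_dvd Nat.card_pos hdvd) fun e => hne.ne (Subgroup.eq_of_le_of_card_ge hne.le e.ge))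
  rw [card_psi_range] at hdvd
  obtain ⟨c, hc⟩ := hdvd
  have hc2 : 2 ≤ c := by
    by_contra hc2
    interval_cases c <;> omega
  have : Cfsg.Agent.HSPerm.hsPerm = E := Subgroup.eq_of_le_of_card_ge hle (by
    rw [Cfsg.Agent.HSPerm.natCard_hsPerm]; nlinarith)
  exact this.ge ⟨⟨g, rfl⟩, MonoidHom.mem_ker.2 h⟩

end Cfsg.Agent.HNPresented
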