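import Cfsg.Agent.Lib.HNPresented.Upper

/-!
# The subgroup of the statements is the image of `K`
-/

set_option autoImplicit false

open Cfsg

namespace Cfsg.Agent.HNPresented

/-- The subgroup generated by the images of `x`, `y`, `z` is the image of `K`. -/
theorem xyz_eq_hnH :
    (Subgroup.closure ({Spor.HN.x, Spor.HN.y, Spor.HN.z} : Set (FreeGroup Spor.HN.Gen))).map
      (PresentedGroup.mk (Spor.coxRelators Spor.HN.edges ∪ {r | r ∈ Spor.HN.extra})) = hnH := by
  rw [MonoidHom.map_closure]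
  refine le_antisymm ((Subgroup.closure_le _).2 ?_) ?_
  · rintro _ ⟨g, hg, rfl⟩
    rcases hg with rfl | rfl | rfl
    · exact ⟨kx, toHN_of _⟩
    · exact ⟨ky, toHN_of _⟩
    · exact ⟨kz, toHN_of _⟩
  · rw [hnH, MonoidHom.range_eq_map, ← PresentedGroup.closure_range_of, MonoidHom.map_closure]
    refine Subgroup.closure_mono ?_
    rintro _ ⟨_, ⟨a, rfl⟩, rfl⟩
    refine ⟨FreeGroup.of (incl a), ?_, (toHN_of a).symm⟩
    cases a <;> simp [incl]

end Cfsg.Agent.HNPresented
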