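import Cfsg.Agent.Lib.HNPresented.Lower
import Cfsg.Agent.Lib.HNPresented.Xyz
import Cfsg.Agent.Lib.HNPres.HOrder

/-!
# The subgroup `⟨x, y, z⟩` of HN is the group of its ten relators

* `ofHG`, `ofHG_range` : the map of the presented group onto it
* `ofHG_injective`, `natCard_hnH` : it is injective, so the order is 177408000
-/

set_option autoImplicit false
set_option maxRecDepth 100000

open Cfsg

namespace Cfsg.Agent.HNPresented.Cover

open Cfsg.Agent.HNPresented

/-- The values of the five generators in `K`. -/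
noncomputable def kVal : HNPres.HGen → K
  | .x => kx
  | .y => ky
  | .z => kz
  | .b => kx⁻¹ * ky * kx
  | .j => (kx⁻¹ * ky * kx) ^ 3

theorem kVal_rels : ∀ r ∈ HNPres.hSetup.rels, FreeGroup.lift kVal r = 1 := by
  intro r hr
  rcases hr with ⟨e, he, -⟩ | hr
  · simp [HNPres.hSetup, Cfsg.Spor.coxNodes] at he
  · change r ∈ HNPres.hRels at hr
    simp only [HNPres.hRels, List.mem_cons, List.not_mem_nil, or_false] at hr
    have key : ∀ q ∈ rels3, PresentedGroup.mk {r | r ∈ rels3} q = 1 := fun q hq =>
      PresentedGroup.one_of_mem hq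
    simp only [rels3, List.forall_mem_cons] at key
    obtain ⟨k1, k2, k3, k4, k5, k6, k7, k8, k9, k10, -⟩ := key
    rcases hr with rfl | rfl | rfl | rfl | rfl | rfl | rfl | rfl | rfl | rfl | rfl | rfl
    all_goals simp only [map_pow, map_mul, map_inv, FreeGroup.lift_apply_of, kVal]
    all_goals try simp only [map_pow, map_mul, map_inv] at k1 k2 k3 k4 k5 k6 k7 k8 k9 k10
    exacts [k1, k2, k3, k4, k5, k6, k7, k8, k9, k10, inv_mul_cancel _, inv_mul_cancel _]

/-- The presented group on five generators maps to `K`. -/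
noncomputable def toK : HNPres.hSetup.G →* K := PresentedGroup.toGroup kVal_rels

theorem toK_surjective : Function.Surjective toK := by
  rw [← MonoidHom.range_eq_top, ← top_le_iff, ← PresentedGroup.closure_range_of, Subgroup.closure_le]
  rintro _ ⟨a, rfl⟩
  cases a
  exacts [⟨_, PresentedGroup.toGroup.of (x := HNPres.HGen.x) kVal_rels⟩,
    ⟨_, PresentedGroup.toGroup.of (x := HNPres.HGen.y) kVal_rels⟩,
    ⟨_, PresentedGroup.toGroup.of (x := HNPres.HGen.z) kVal_rels⟩]

/-- The map of the presented group into HN. -/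
noncomputable def ofHG : HNPres.hSetup.G →* Spor.HN := toHN.comp toK

theorem ofHG_range : ofHG.range = hnH := by
  rw [ofHG, MonoidHom.range_comp, MonoidHom.range_eq_top.2 toK_surjective, ← MonoidHom.range_eq_map]
  rfl

theorem kb_pretransitive (q : Fin 1408) : ∃ g : Kb, g • pt 0 = q := by
  obtain ⟨n, hn, e, -, he⟩ := exists_path (show 0 < 9 by omega) q
  refine ⟨e * (eb (topCfg.fact n).2.1)⁻¹, ?_⟩
  rw [← eb_src (sel_spec hn).1, mul_smul, inv_smul_smul]
  exact he

theorem toPermHom_om_injective : Function.Injective (MulAction.toPermHom Kb Om) := by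
  rw [← MonoidHom.ker_eq_bot_iff, eq_bot_iff]
  intro c hc
  rw [Subgroup.mem_bot]
  refine Subtype.ext (Equiv.ext fun q => ?_)
  obtain ⟨g, rfl⟩ := kb_pretransitive q
  have h : c • om 1 g = om 1 g := DFunLike.congr_fun (MonoidHom.mem_ker.1 hc) (om 1 g)
  rw [smul_om] at h
  have h' := (om_inj (by omega) (by omega) h).2
  rw [mem_cls_one, mul_inv_rev, mul_smul, mul_smul, inv_smul_eq_iff, inv_smul_eq_iff] at h'
  exact h'.symm

theorem ofHG_injective : Function.Injective ofHG := by
  haveI := HNPres.hg_finite
  haveI : Finite ofHG.range := Finite.of_surjective _ ofHG.rangeRestrict_surjective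
  have hle : Nat.card Kb ≤ Nat.card ofHG.range := by
    have key : ∀ c : Kb, ∃ g : ofHG.range, phi g.val = MulAction.toPermHom Kb Om c := by
      rintro ⟨_, k, rfl⟩
      refine ⟨⟨toHN k, ?_⟩, phi_toHN k⟩
      rw [ofHG_range]
      exact ⟨k, rfl⟩
    choose f hf using key
    exact Nat.card_le_card_of_injective f fun a b e =>
      toPermHom_om_injective (by rw [← hf a, ← hf b, e])
  have hsurj := ofHG.rangeRestrict_surjective
  have hcard : Nat.card ofHG.range = Nat.card HNPres.hSetup.G :=
    le_antisymm (Nat.card_le_card_of_surjective _ hsurj)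
      (by rw [HNPres.card_hg]; exact natCard_Kb ▸ hle)
  have hb : Function.Bijective ofHG.rangeRestrict :=
    (Nat.bijective_iff_surjective_and_card _).2 ⟨hsurj, hcard.symm⟩
  exact fun a b e => hb.1 (Subtype.ext e)

/-- The order of `⟨x, y, z⟩` in HN. -/
theorem natCard_hnH : Nat.card hnH = 177408000 := by
  rw [← ofHG_range, ← HNPres.card_hg]
  exact Nat.card_congr (MonoidHom.ofInjective ofHG_injective).toEquiv.symm

/-- The presented group is the subgroup of HN. -/
noncomputable def hgEquiv : HNPres.hSetup.G ≃* hnH :=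
  (MonoidHom.ofInjective ofHG_injective).trans (MulEquiv.subgroupCongr ofHG_range)

end Cfsg.Agent.HNPresented.Cover
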