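import Cfsg.Agent.EqLemmas

/-!
# Fixed vertices of the stabiliser of a point

Generated data: for one vertex of each orbit, words in the stabiliser of the point `0` with this vertex as
their only common fixed vertex, and trees of the orbits.
-/

set_option autoImplicit false

namespace Cfsg.Agent.HNPresented

/-- A vertex of each orbit, with its words. -/
def fixSeeds : List (ℕ × List (List ℕ)) := [(0, [[2], [1, 2, 0, 2, 1, 2, 0]]),
  (1, [[1, 2, 0, 1, 2, 0, 1, 2, 0, 2], [2, 1, 2, 0, 2, 1, 2, 0, 2, 2], [1, 2, 0, 2, 2, 2, 2, 1, 2, 0, 2]])]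

/-- The orbit trees: vertex, parent, generator. -/
def fixTree : List (ℕ × ℕ × ℕ) := [(75, 0, 1), (80, 75, 0), (81, 80, 0), (26, 81, 0), (93, 81, 1), (28, 26, 0), (24, 26, 1), (27, 93, 0), (76, 93, 1), (55, 28, 0), (32, 28, 1), (83, 24, 0), (72, 24, 1), (89, 27, 0), (40, 27, 1), (96, 76, 1), (79, 32, 0), (53, 83, 0), (38, 72, 0), (63, 72, 1), (70, 89, 0), (61, 89, 1), (99, 40, 0), (68, 79, 0), (57, 79, 1), (12, 53, 1), (64, 38, 0), (51, 70, 0), (19, 70, 1), (11, 61, 1), (43, 99, 0), (65, 68, 0), (82, 68, 1), (34, 57, 1), (17, 12, 0), (74, 51, 0), (18, 19, 0), (30, 19, 1), (85, 11, 1), (97, 43, 0), (94, 82, 0), (52, 82, 1), (95, 34, 1), (29, 85, 0), (77, 85, 1), (54, 97, 1), (92, 94, 1), (4, 29, 1), (10, 4, 0), (2, 1, 0), (87, 1, 1), (9, 2, 0), (88, 2, 1), (56, 87, 0), (21, 9, 0), (31, 9, 1), (50, 88, 0), (78, 88, 1), (46, 56, 0), (6, 21, 0), (67, 31, 0), (73, 31, 1), (36, 50, 0), (14, 50, 1), (71, 78,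 0), (13, 6, 0), (49, 73, 0), (15, 73, 1), (47, 36, 0), (22, 36, 1), (5, 14, 0), (66, 71, 1), (33, 13, 1), (58, 49, 0), (8, 15, 0), (44, 15, 1), (20, 22, 1), (7, 5, 0), (62, 66, 0), (25, 66, 1), (45, 33, 0), (60, 58, 0), (16, 8, 0), (86, 8, 1), (41, 44, 0), (3, 20, 0), (37, 62, 0), (98, 62, 1), (48, 25, 1), (59, 45, 0), (90, 60, 0), (42, 60, 1), (84, 37, 0), (39, 37, 1), (91, 98, 1), (35, 59, 1), (69, 42, 0), (23, 69, 0)]

end Cfsg.Agent.HNPresented
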