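import Cfsg.Agent.Lib.HNPresented.Lower
import Cfsg.Agent.Lib.HNPresented.Blocks
import Cfsg.Agent.Lib.HigmanSimsPerm.Upper
import Cfsg.Agent.Lib.Leech.HSSimple
import Cfsg.Prelude.Def_SporadicB

/-!
# The subgroup `⟨x, y, z⟩` of HN

* `toHN_ker_central` : what acts trivially on the 1408 points is central in HN
* `hnH_finite`, `natCard_hnH`, `hnHEquiv` : the subgroup is the image on 1408 points
* `derived_doubleCover` : its derived group has index two and is the double cover of HS
-/

set_option autoImplicit false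
set_option maxRecDepth 100000
set_option Elab.async false

open Cfsg

open scoped commutatorElement

namespace Cfsg.Agent.HNPresented

open Cfsg.Agent.StabCert

/-- Relations under which `x` and `y` die. -/
theorem collapse {M : Type*} [Group M] (f : K →* M) (hc : Commute (f kx) (f ky)) : f kx = 1 ∧ f ky = 1 := by
  have hr : ∀ r ∈ rels3, f (PresentedGroup.mk {r | r ∈ rels3} r) = 1 := fun r hr => by
    rw [rel_one hr, map_one]
  have gX : PresentedGroup.mk {r | r ∈ rels3} gx = kx := rfl
  have gY : PresentedGroup.mk {r | r ∈ rels3} gy = ky := rfl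
  have gZ : PresentedGroup.mk {r | r ∈ rels3} gz = kz := rfl
  have h1 := hr (gy ^ 6) (by simp [rels3])
  have h2 := hr ((gx ^ 2) * gy * (gx ^ 2) * (gy⁻¹)) (by simp [rels3])
  have h4 := hr (((gx⁻¹) * (gy ^ 2) * gx * (gy ^ 3)) ^ 3) (by simp [rels3])
  have h5 := hr ((gx * gy) ^ 8) (by simp [rels3])
  have h7 := hr (gz ^ 2) (by simp [rels3])
  have h8 := hr ((gz * gx) ^ 2) (by simp [rels3])
  have h10 := hr (gz * (((((gy ^ 3) * gx * gy * gx * gy)⁻¹ * gz * ((gy ^ 3) * gx * gy * gx * gy)) * gx) ^ 3))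
    (by simp [rels3])
  simp only [map_mul, map_pow, map_inv, gX, gY, gZ] at h1 h2 h4 h5 h7 h8 h10
  generalize f kx = a at *
  generalize f ky = b at *
  generalize f kz = c at *
  have ha4 : a ^ 4 = 1 := by
    rw [mul_assoc (a ^ 2) b, ← (hc.pow_left 2).eq, ← mul_assoc, ← pow_add, mul_inv_cancel_right] at h2
    exact h2
  have hb8 : b ^ 8 = 1 := by
    rw [hc.mul_pow, show 8 = 4 * 2 by norm_num, pow_mul, ha4, one_pow, one_mul] at h5
    exact h5
  have hb15 : b ^ 15 = 1 := by
    have e : a⁻¹ * b ^ 2 * a * b ^ 3 = b ^ 5 := by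
      rw [mul_assoc a⁻¹, (hc.pow_right 2).eq.symm, inv_mul_cancel_left, ← pow_add]
    rw [e, ← pow_mul] at h4
    exact h4
  have hb : b = 1 := by
    have := pow_gcd_eq_one.2 ⟨hb8, hb15⟩
    simpa using this
  subst hb
  have hc2 : c * c = 1 := by rw [← pow_two]; exact h7
  have hci : c⁻¹ = c := inv_eq_of_mul_eq_one_left hc2
  refine ⟨?_, rfl⟩
  simp only [one_pow, mul_one, one_mul] at h10
  have hconj : (a * a)⁻¹ * c * (a * a) = c := by
    have e1 : c * a * c = a⁻¹ := by
      rw [pow_two] at h8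
      refine eq_inv_of_mul_eq_one_left ?_
      rw [mul_assoc]
      simpa [mul_assoc] using h8
    have e2 : c * (a * a)⁻¹ * c = a * a := by
      have L : ∀ m, c * (c * m) = m := fun m => by rw [← mul_assoc, hc2, one_mul]
      rw [mul_inv_rev, ← e1]
      simp only [mul_assoc, L, hc2, mul_one]
    calc (a * a)⁻¹ * c * (a * a) = (a * a)⁻¹ * c * (c * (a * a)⁻¹ * c) := by rw [e2]
      _ = ((a * a)⁻¹ * (a * a)⁻¹) * c := by simp only [mul_assoc]; rw [← mul_assoc c c, hc2, one_mul]
      _ = (a ^ 4)⁻¹ * c := by simp only [pow_succ, pow_zero, one_mul, mul_inv_rev, mul_assoc]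
      _ = c := by rw [ha4, inv_one, one_mul]
  rw [hconj] at h10
  have e3 : (c * a) ^ 3 = c * a := by rw [pow_succ, h8, one_mul]
  rw [e3, ← mul_assoc, hc2, one_mul] at h10
  exact h10

theorem closure_xyz : Subgroup.closure ({kx, ky, kz} : Set K) = ⊤ := by
  rw [← PresentedGroup.closure_range_of]
  congr 1
  ext g
  constructor
  · rintro (rfl | rfl | rfl) <;> exact ⟨_, rfl⟩
  · rintro ⟨a, rfl⟩; cases a <;> simp

/-! ### The kernel of the action is central -/

theorem closure_hn : Subgroup.closure (Set.range (toHN : K → Spor.HN) ∪ {tt}) = ⊤ := by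
  rw [← top_le_iff, ← PresentedGroup.closure_range_of, Subgroup.closure_le]
  rintro _ ⟨a, rfl⟩
  cases a
  case t => exact Subgroup.subset_closure (Or.inr rfl)
  case x => exact Subgroup.subset_closure (Or.inl ⟨_, toHN_of G3.x⟩)
  case y => exact Subgroup.subset_closure (Or.inl ⟨_, toHN_of G3.y⟩)
  case z => exact Subgroup.subset_closure (Or.inl ⟨_, toHN_of G3.z⟩)

/-- What acts trivially on the points is central in HN. -/
theorem toHN_ker_central {k : K} (hk : rho k = 1) : toHN k ∈ Subgroup.center Spor.HN := by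
  let C : Subgroup Spor.HN := Subgroup.centralizer (toHN '' {n | rho n = 1})
  have hconj : ∀ (j : K) (g : Spor.HN), g ∈ C → toHN j * g * (toHN j)⁻¹ ∈ C := by
    intro j g hg
    rw [Subgroup.mem_centralizer_iff]
    rintro _ ⟨n, hn, rfl⟩
    have hg' := Subgroup.mem_centralizer_iff.1 hg (toHN (j⁻¹ * n * j))
      ⟨_, by show rho _ = 1; simp [show rho n = 1 from hn], rfl⟩
    simp only [map_mul, map_inv] at hg'
    calc toHN n * (toHN j * g * (toHN j)⁻¹)
        = toHN j * ((toHN j)⁻¹ * toHN n * toHN j * g) * (toHN j)⁻¹ := by group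
      _ = toHN j * g * (toHN j)⁻¹ * toHN n := by rw [hg']; group
  let T : Set Spor.HN := {g | ∃ j : K, g = toHN j * tt * (toHN j)⁻¹}
  let M := Subgroup.closure T
  have ht : tt ∈ M := Subgroup.subset_closure ⟨1, by simp⟩
  have hMC : M ≤ C := by
    rw [Subgroup.closure_le]
    rintro _ ⟨j, rfl⟩
    refine hconj j tt (Subgroup.mem_centralizer_iff.2 ?_)
    rintro _ ⟨n, hn, rfl⟩
    exact (toHN_fixGroup_comm (mem_fixGroup_of_ker hn)).eq
  have hMconj : ∀ (j : K) (g : Spor.HN), g ∈ M → toHN j * g * (toHN j)⁻¹ ∈ M := by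
    intro j g hg
    induction hg using Subgroup.closure_induction with
    | mem g hg =>
      obtain ⟨i, rfl⟩ := hg
      exact Subgroup.subset_closure ⟨j * i, by simp only [map_mul]; group⟩
    | one => simp [one_mem]
    | mul a b _ _ ha hb =>
      rw [show toHN j * (a * b) * (toHN j)⁻¹ = (toHN j * a * (toHN j)⁻¹) * (toHN j * b * (toHN j)⁻¹) by group]
      exact mul_mem ha hb
    | inv a _ ha =>
      rw [show toHN j * a⁻¹ * (toHN j)⁻¹ = (toHN j * a * (toHN j)⁻¹)⁻¹ by group]
      exact inv_mem ha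
  have hnorm : M.Normal := by
    rw [← Subgroup.normalizer_eq_top_iff, ← top_le_iff, ← closure_hn, Subgroup.closure_le]
    rintro g (⟨j, rfl⟩ | rfl)
    · refine Subgroup.mem_normalizer_iff.2 fun h => ⟨hMconj j h, fun hh => ?_⟩
      have := hMconj j⁻¹ _ hh
      simpa [mul_assoc] using this
    · refine Subgroup.mem_normalizer_iff.2 fun h => ⟨fun hh => mul_mem (mul_mem ht hh) (inv_mem ht), fun hh => ?_⟩
      have := mul_mem (mul_mem (inv_mem ht) hh) ht
      simpa [mul_assoc] using this
  have hq : ∀ g : K, (QuotientGroup.mk' M).comp toHN g = 1 := by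
    set q := (QuotientGroup.mk' M).comp toHN
    have h0 : QuotientGroup.mk' M tt = 1 := (QuotientGroup.eq_one_iff _).2 ht
    have hz : q kz = 1 := by
      have h3 := congrArg (QuotientGroup.mk' M) z_tt_cube
      rw [map_pow, map_mul, h0, mul_one, map_one] at h3
      have h2 : q kz ^ 2 = 1 := by rw [pow_two, ← map_mul, kz_sq, map_one]
      have := pow_gcd_eq_one.2 ⟨(h3 : q kz ^ 3 = 1), h2⟩
      rwa [show Nat.gcd 3 2 = 1 from rfl, pow_one] at this
    have hxy : Commute (q kx) (q ky) := by
      have h8 := congrArg q (rel_one (r := (gz * gx) ^ 2) (by simp [rels3]))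
      have h10 := congrArg q (rel_one (r := gz * (((((gy ^ 3) * gx * gy * gx * gy)⁻¹ * gz *
        ((gy ^ 3) * gx * gy * gx * gy)) * gx) ^ 3)) (by simp [rels3]))
      simp only [map_mul, map_pow, map_inv, map_one, show PresentedGroup.mk {r | r ∈ rels3} gx = kx from rfl,
        show PresentedGroup.mk {r | r ∈ rels3} gy = ky from rfl,
        show PresentedGroup.mk {r | r ∈ rels3} gz = kz from rfl, hz, one_mul, mul_one, inv_mul_cancel] at h8 h10
      have : q kx = 1 := by rw [pow_succ, h8, one_mul] at h10; exact h10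
      rw [this]; exact Commute.one_left _
    obtain ⟨hx, hy⟩ := collapse q hxy
    have hK : Subgroup.closure ({kx, ky, kz} : Set K) ≤ q.ker := by
      rw [Subgroup.closure_le]
      rintro g (rfl | rfl | rfl) <;> assumption
    rw [closure_xyz] at hK
    exact fun g => MonoidHom.mem_ker.1 (hK trivial)
  have htop : M = ⊤ := by
    rw [← top_le_iff, ← closure_hn, Subgroup.closure_le]
    rintro g (⟨j, rfl⟩ | rfl)
    · exact (QuotientGroup.eq_one_iff _).1 (hq j)
    · exact ht
  refine Subgroup.mem_center_iff.2 fun g => ?_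
  exact (Subgroup.mem_centralizer_iff.1 (hMC (htop ▸ trivial : g ∈ M)) _ ⟨k, hk, rfl⟩).symm

/-! ### The map back to the image -/

/-- The map onto the subgroup. -/
noncomputable def toH : K →* hnH := toHN.rangeRestrict

theorem toH_surjective : Function.Surjective toH := toHN.rangeRestrict_surjective

theorem toH_val (k : K) : (toH k : Spor.HN) = toHN k := rfl

theorem toHN_ker_le : toH.ker ≤ rb.ker := by
  intro k hk
  have hk' : toHN k = 1 := congrArg Subtype.val (MonoidHom.mem_ker.1 hk)
  have h : ∀ X : Om, rb k • X = X := fun X => by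
    have e := DFunLike.congr_fun (phi_toHN k) X
    rw [hk', map_one] at e
    exact e.symm
  refine MonoidHom.mem_ker.2 (Subtype.ext (Equiv.ext fun q => ?_))
  obtain ⟨n, hn, e, -, he⟩ := exists_path (show 0 < 9 by omega) q
  set g := e * (eb (topCfg.fact n).2.1)⁻¹
  have hq : g • pt 0 = q := by
    rw [← eb_src (sel_spec hn).1, mul_smul, inv_smul_smul]
    exact he
  have h1 : om 1 (rb k * g) = om 1 g := h (om 1 g)
  have h2 := (om_inj (show 1 < 9 by omega) (show 1 < 9 by omega) h1).2
  have h3 := (mem_cls_one _).1 h2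
  rw [mul_smul, inv_smul_eq_iff, mul_smul] at h3
  show rb k • q = q
  rw [← hq, ← mul_smul]; exact h3.symm

/-- The map from `⟨x, y, z⟩` to the image. -/
noncomputable def beta : hnH →* Kb :=
  toH.liftOfSurjective toH_surjective ⟨rb, toHN_ker_le⟩

theorem beta_apply (k : K) : beta (toH k) = rb k :=
  MonoidHom.liftOfRightInverse_comp_apply _ _ _ ⟨rb, toHN_ker_le⟩ k

theorem beta_surjective : Function.Surjective beta := fun g => by
  obtain ⟨k, rfl⟩ := rho.rangeRestrict_surjective g
  exact ⟨_, beta_apply k⟩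

theorem beta_ker_le_center : beta.ker ≤ Subgroup.center hnH := by
  intro h hh
  obtain ⟨k, rfl⟩ := toH_surjective h
  rw [MonoidHom.mem_ker, beta_apply] at hh
  refine Subgroup.mem_center_iff.2 fun g => Subtype.ext ?_
  exact Subgroup.mem_center_iff.1 (toHN_ker_central (congrArg Subtype.val hh)) g.1

theorem hn_xy_mem_commutator :
    toH kx ∈ commutator hnH ∧ toH ky ∈ commutator hnH := by
  obtain ⟨hx, hy⟩ := collapse ((Abelianization.of (G := hnH)).comp toH) (mul_comm _ _)
  constructor <;> rw [← Abelianization.ker_of] <;> assumption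

theorem z_range_sq : toH kz * toH kz = 1 := by
  rw [← map_mul, kz_sq, map_one]

/-- A normal subgroup with `x` and `y` has the cosets `1` and `z` only. -/
theorem two_cosets (N : Subgroup hnH) [N.Normal] (hx : toH kx ∈ N)
    (hy : toH ky ∈ N) (g : hnH) : g ∈ N ∨ toH kz * g ∈ N := by
  set c := toH kz
  have hci : c⁻¹ = c := inv_eq_of_mul_eq_one_left z_range_sq
  have hconj : ∀ a ∈ N, c * a * c ∈ N := fun a ha => by
    have := Subgroup.Normal.conj_mem ‹N.Normal› a ha c
    rwa [hci] at this
  obtain ⟨k, rfl⟩ := toH_surjective g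
  have hk : k ∈ Subgroup.closure ({kx, ky, kz} : Set K) := closure_xyz ▸ trivial
  induction hk using Subgroup.closure_induction with
  | mem g hg =>
    rcases hg with rfl | rfl | rfl
    · exact Or.inl hx
    · exact Or.inl hy
    · exact Or.inr (by rw [z_range_sq]; exact one_mem _)
  | one => exact Or.inl (by rw [map_one]; exact one_mem _)
  | mul a b _ _ ha hb =>
    rw [map_mul]
    set A := toH a
    set B := toH b
    rcases ha with ha | ha <;> rcases hb with hb | hb
    · exact Or.inl (mul_mem ha hb)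
    · refine Or.inr ?_
      rw [show c * (A * B) = c * A * c⁻¹ * (c * B) by group, hci]
      exact mul_mem (hconj _ ha) hb
    · refine Or.inr ?_
      rw [← mul_assoc]; exact mul_mem ha hb
    · refine Or.inl ?_
      rw [show A * B = c⁻¹ * (c * A) * c⁻¹ * (c * B) by group, hci]
      exact mul_mem (hconj _ ha) hb
  | inv a _ ha =>
    rw [map_inv]
    rcases ha with ha | ha
    · exact Or.inl (inv_mem ha)
    · refine Or.inr ?_
      have := hconj _ (inv_mem ha)
      rwa [mul_inv_rev, hci, mul_assoc, mul_assoc, z_range_sq, mul_one] at this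

theorem derived_perfect : ⁅commutator hnH, commutator hnH⁆ = commutator hnH := by
  set N := ⁅commutator hnH, commutator hnH⁆
  refine le_antisymm (Subgroup.commutator_le_self _) ?_
  have hc : Commute (((QuotientGroup.mk' N).comp toH) kx)
      (((QuotientGroup.mk' N).comp toH) ky) := by
    rw [← commutatorElement_eq_one_iff_commute]
    simp only [MonoidHom.comp_apply]
    rw [← map_commutatorElement, QuotientGroup.mk'_apply, QuotientGroup.eq_one_iff]
    exact Subgroup.commutator_mem_commutator hn_xy_mem_commutator.1 hn_xy_mem_commutator.2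
  obtain ⟨hx, hy⟩ := collapse _ hc
  have hx' := (QuotientGroup.eq_one_iff _).1 hx
  have hy' := (QuotientGroup.eq_one_iff _).1 hy
  rw [commutator_def, Subgroup.commutator_le]
  intro a _ b _
  set c := toH kz
  have key : ∀ g : hnH, (QuotientGroup.mk' N) g = 1 ∨ (QuotientGroup.mk' N) g = (QuotientGroup.mk' N) c := by
    intro g
    rcases two_cosets N hx' hy' g with h | h
    · exact Or.inl ((QuotientGroup.eq_one_iff _).2 h)
    · refine Or.inr ?_
      have h1 : (QuotientGroup.mk' N) (c * g) = 1 := (QuotientGroup.eq_one_iff _).2 h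
      rw [map_mul, mul_eq_one_iff_inv_eq] at h1
      rw [← h1, ← map_inv, inv_eq_of_mul_eq_one_left z_range_sq]
  rw [← QuotientGroup.eq_one_iff, ← QuotientGroup.mk'_apply, map_commutatorElement,
    commutatorElement_eq_one_iff_commute]
  rcases key a with e | e <;> rcases key b with e' | e' <;> rw [e, e'] <;>
    first | exact Commute.one_left _ | exact Commute.one_right _ | exact Commute.refl _

theorem hnH_finite : Finite hnH := by
  have : (Subgroup.center hnH).FiniteIndex := by
    refine ⟨fun h0 => ?_⟩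
    have h1 := Subgroup.index_dvd_of_le beta_ker_le_center
    rw [h0, zero_dvd_iff, Subgroup.index_ker, MonoidHom.range_eq_top.2 beta_surjective, Subgroup.card_top,
      natCard_Kb] at h1
    omega
  have hset : (commutatorSet hnH).Finite := by
    refine Set.Finite.subset (Set.finite_range fun p : (hnH ⧸ Subgroup.center hnH) × (hnH ⧸ Subgroup.center hnH) =>
      ⁅p.1.out, p.2.out⁆) ?_
    rintro _ ⟨a, b, rfl⟩
    refine ⟨(QuotientGroup.mk a, QuotientGroup.mk b), ?_⟩
    obtain ⟨u, hu⟩ := QuotientGroup.mk_out_eq_mul (Subgroup.center hnH) a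
    obtain ⟨v, hv⟩ := QuotientGroup.mk_out_eq_mul (Subgroup.center hnH) b
    show ⁅_, _⁆ = _
    rw [hu, hv]
    have hu' := Subgroup.mem_center_iff.1 u.2
    have hv' := Subgroup.mem_center_iff.1 v.2
    simp only [commutatorElement_def, mul_inv_rev]
    calc a * u * (b * v) * ((u : hnH)⁻¹ * a⁻¹) * ((v : hnH)⁻¹ * b⁻¹)
        = a * ((u : hnH) * (b * v)) * (u : hnH)⁻¹ * a⁻¹ * ((v : hnH)⁻¹ * b⁻¹) := by group
      _ = a * (b * v) * a⁻¹ * ((v : hnH)⁻¹ * b⁻¹) := by rw [← hu' (b * v)]; group
      _ = a * b * ((v : hnH) * a⁻¹) * (v : hnH)⁻¹ * b⁻¹ := by group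
      _ = a * b * a⁻¹ * b⁻¹ := by rw [← hv' a⁻¹]; group
  have : Finite (commutatorSet hnH) := hset.to_subtype
  refine Finite.of_surjective (fun p : Fin 2 × commutator hnH => toH kz ^ p.1.val * p.2.1) fun g => ?_
  rcases two_cosets _ hn_xy_mem_commutator.1 hn_xy_mem_commutator.2 g with h | h
  · exact ⟨(0, ⟨g, h⟩), by simp⟩
  · refine ⟨(1, ⟨_, h⟩), ?_⟩
    show toH kz ^ 1 * (toH kz * g) = g
    rw [pow_one, ← mul_assoc, z_range_sq, one_mul]

theorem natCard_hnH_le : Nat.card hnH ≤ 2 * Nat.card (commutator hnH) := by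
  have := hnH_finite
  have h := Nat.card_le_card_of_surjective
    (fun p : Fin 2 × commutator hnH => toH kz ^ p.1.val * p.2.1) fun g => by
      rcases two_cosets _ hn_xy_mem_commutator.1 hn_xy_mem_commutator.2 g with h | h
      · exact ⟨(0, ⟨g, h⟩), by simp⟩
      · refine ⟨(1, ⟨_, h⟩), ?_⟩
        show toH kz ^ 1 * (toH kz * g) = g
        rw [pow_one, ← mul_assoc, z_range_sq, one_mul]
  simpa using h

/-! ### The derived group over the Higman-Sims group -/

theorem isSimpleGroup_hsPerm : IsSimpleGroup Cfsg.Agent.HSPerm.hsPerm := by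
  have hA := Cfsg.Agent.Leech.natCard_aut_hsGraph
  have : Finite (Cfsg.Agent.Leech.hsGraph ≃g Cfsg.Agent.Leech.hsGraph) :=
    Nat.finite_of_card_ne_zero (by rw [hA]; norm_num)
  have he : Cfsg.Agent.HSPerm.graphHom.range = Cfsg.Agent.Leech.hsHom.range :=
    Subgroup.eq_of_le_of_card_ge Cfsg.Agent.HSPerm.range_graphHom_le (by
      rw [← Nat.card_congr (MonoidHom.ofInjective Cfsg.Agent.HSPerm.graphHom_injective).toEquiv,
        ← Nat.card_congr (MonoidHom.ofInjective Cfsg.Agent.Leech.hsHom_injective).toEquiv,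
        Cfsg.Agent.Leech.natCard_hsGroup, Cfsg.Agent.HSPerm.natCard_hsPerm])
  exact @MulEquiv.isSimpleGroup _ _ _ _ Cfsg.Agent.Leech.isSimpleGroup_hs
    ((MonoidHom.ofInjective Cfsg.Agent.HSPerm.graphHom_injective).trans ((MulEquiv.subgroupCongr he).trans
      (MonoidHom.ofInjective Cfsg.Agent.Leech.hsHom_injective).symm))

theorem hsPerm_not_comm : ¬ ∀ a b : Cfsg.Agent.HSPerm.hsPerm, a * b = b * a := by
  intro h
  have := isSimpleGroup_hsPerm
  letI : CommGroup Cfsg.Agent.HSPerm.hsPerm :=
    { (inferInstance : Group Cfsg.Agent.HSPerm.hsPerm) with mul_comm := h }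
  have hp := IsSimpleGroup.prime_card (α := Cfsg.Agent.HSPerm.hsPerm)
  rw [Cfsg.Agent.HSPerm.natCard_hsPerm] at hp
  norm_num at hp

theorem hsPerm_perfect : commutator Cfsg.Agent.HSPerm.hsPerm = ⊤ := by
  have := isSimpleGroup_hsPerm
  refine ((Subgroup.Normal.eq_bot_or_eq_top inferInstance).resolve_left fun h => hsPerm_not_comm ?_)
  intro a b
  exact commutatorElement_eq_one_iff_mul_comm.1
    (Subgroup.mem_bot.1 (h ▸ Subgroup.commutator_mem_commutator (Subgroup.mem_top a) (Subgroup.mem_top b)))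

theorem hsPerm_center : Subgroup.center Cfsg.Agent.HSPerm.hsPerm = ⊥ := by
  have := isSimpleGroup_hsPerm
  refine (Subgroup.Normal.eq_bot_or_eq_top inferInstance).resolve_right fun h => hsPerm_not_comm fun a b => ?_
  exact Subgroup.mem_center_iff.1 (h.ge (Subgroup.mem_top b)) a

theorem derived_even (g : commutator hnH) : psi (beta g.1) ∈ Cfsg.Agent.HSPerm.hsPerm :=
  mem_hsPerm_of_even (MonoidHom.mem_ker.1
    (Abelianization.commutator_subset_ker (bsgn.comp (psi.comp beta)) g.2))

/-- The derived group onto the Higman-Sims group. -/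
noncomputable def sigma : commutator hnH →* Cfsg.Agent.HSPerm.hsPerm :=
  (psi.comp (beta.comp (commutator hnH).subtype)).codRestrict _ derived_even

theorem sigma_surjective : Function.Surjective sigma := by
  rintro ⟨f, hf⟩
  have hsub : Cfsg.Agent.HSPerm.hsPerm = ⁅Cfsg.Agent.HSPerm.hsPerm, Cfsg.Agent.HSPerm.hsPerm⁆ := by
    have h := congrArg (Subgroup.map Cfsg.Agent.HSPerm.hsPerm.subtype) hsPerm_perfect
    rw [commutator_def, Subgroup.map_commutator, ← MonoidHom.range_eq_map,
      Subgroup.range_subtype] at h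
    exact h.symm
  have hle : Cfsg.Agent.HSPerm.hsPerm ≤ (commutator hnH).map (psi.comp beta) := by
    rw [commutator_def, Subgroup.map_commutator, ← MonoidHom.range_eq_map,
      MonoidHom.range_comp, MonoidHom.range_eq_top.2 beta_surjective, ← MonoidHom.range_eq_map]
    conv_lhs => rw [hsub]
    exact Subgroup.commutator_mono hsPerm_le_psi hsPerm_le_psi
  obtain ⟨g, hg, e⟩ := hle hf
  exact ⟨⟨g, hg⟩, Subtype.ext e⟩

theorem commutator_eq_top_of_perfect : commutator (commutator hnH) = ⊤ := by
  refine Subgroup.map_injective (commutator hnH).subtype_injective ?_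
  rw [Subgroup.map_subtype_commutator, ← MonoidHom.range_eq_map, Subgroup.range_subtype]
  exact derived_perfect

/-- In a perfect subgroup, centralising modulo the centre is centralising. -/
theorem perfect_commute {H : Type*} [Group H] (P : Subgroup H) (hP : commutator P = ⊤) {d : H}
    (hmem : ∀ g : P, g.1 * d * g.1⁻¹ * d⁻¹ ∈ Subgroup.center H) (g : P) : g.1 * d = d * g.1 := by
  let δ : P →* Subgroup.center H :=
    MonoidHom.mk' (fun g => ⟨_, hmem g⟩) fun a b => Subtype.ext (by
      show (a.1 * b.1) * d * (a.1 * b.1)⁻¹ * d⁻¹ = (a.1 * d * a.1⁻¹ * d⁻¹) * (b.1 * d * b.1⁻¹ * d⁻¹)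
      calc (a.1 * b.1) * d * (a.1 * b.1)⁻¹ * d⁻¹
          = a.1 * ((b.1 * d * b.1⁻¹ * d⁻¹) * (d * a.1⁻¹ * d⁻¹)) := by group
        _ = a.1 * ((d * a.1⁻¹ * d⁻¹) * (b.1 * d * b.1⁻¹ * d⁻¹)) := by
            rw [Subgroup.mem_center_iff.1 (hmem b)]
        _ = _ := by group)
  have h1 : δ g = 1 := by
    have hcomm : commutator P ≤ δ.ker := by
      rw [commutator_def, Subgroup.commutator_le]
      intro a _ b _
      rw [MonoidHom.mem_ker, map_commutatorElement, commutatorElement_eq_one_iff_mul_comm]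
      exact Subtype.ext (Subgroup.mem_center_iff.1 (δ b).2 (δ a).1)
    exact MonoidHom.mem_ker.1 (hcomm (hP.symm ▸ Subgroup.mem_top g))
  exact commutatorElement_eq_one_iff_mul_comm.1 (congrArg Subtype.val h1)

theorem sigma_ker_le_center : sigma.ker ≤ Subgroup.center (commutator hnH) := by
  intro d hd
  have hd' : psi (beta d.1) = 1 := congrArg Subtype.val (MonoidHom.mem_ker.1 hd)
  have hc : beta d.1 ∈ Subgroup.center Kb := psi_ker_le_center (MonoidHom.mem_ker.2 hd')
  have hmem : ∀ g : commutator hnH, g.1 * d.1 * g.1⁻¹ * d.1⁻¹ ∈ Subgroup.center hnH := fun g =>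
    beta_ker_le_center (MonoidHom.mem_ker.2 (by
      rw [map_mul, map_mul, map_mul, map_inv, map_inv, Subgroup.mem_center_iff.1 hc (beta g.1),
        mul_inv_cancel_right, mul_inv_cancel]))
  refine Subgroup.mem_center_iff.2 fun g => Subtype.ext ?_
  exact perfect_commute (commutator hnH) commutator_eq_top_of_perfect hmem g

theorem sigma_stem : Cfsg.IsStemExtension sigma :=
  ⟨sigma_surjective, sigma_ker_le_center, by rw [commutator_eq_top_of_perfect]; exact le_top⟩

theorem natCard_derived_eq : Nat.card (commutator hnH) = Nat.card sigma.ker * 44352000 := by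
  rw [← Subgroup.card_mul_index sigma.ker, Subgroup.index_ker, MonoidHom.range_eq_top.2 sigma_surjective,
    Subgroup.card_top, Cfsg.Agent.HSPerm.natCard_hsPerm]

theorem card_sigma_ker_le : Nat.card sigma.ker ≤ 2 := by
  have := hnH_finite
  obtain ⟨π, hπ⟩ := Cfsg.Agent.HSPerm.Upper.exists_surj_two sigma sigma_stem
  simpa using Nat.card_le_card_of_surjective π hπ

theorem hnH_ge : 177408000 ≤ Nat.card hnH := by
  have := hnH_finite
  exact natCard_Kb ▸ Nat.card_le_card_of_surjective beta beta_surjective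

theorem card_facts : Nat.card sigma.ker = 2 ∧ Nat.card (commutator hnH) = 88704000 ∧ Nat.card hnH = 177408000 := by
  have h1 := natCard_hnH_le
  have h2 := natCard_derived_eq
  have h3 := card_sigma_ker_le
  have h4 := hnH_ge
  have h5 : Nat.card sigma.ker = 2 := by
    rcases Nat.lt_or_ge (Nat.card sigma.ker) 2 with h | h
    · interval_cases hk : Nat.card sigma.ker <;> simp [hk] at h2 <;> linarith
    · exact le_antisymm h3 h
  rw [h5] at h2
  norm_num at h2
  exact ⟨h5, h2, le_antisymm (by linarith) h4⟩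

/-- The order of `⟨x, y, z⟩` in HN. -/
theorem natCard_hnH : Nat.card hnH = 177408000 := card_facts.2.2

theorem beta_bijective : Function.Bijective beta := by
  have := hnH_finite
  exact (Nat.bijective_iff_surjective_and_card beta).2 ⟨beta_surjective, natCard_hnH.trans natCard_Kb.symm⟩

/-- The subgroup is its image on 1408 points. -/
noncomputable def hnHEquiv : hnH ≃* Kb := MulEquiv.ofBijective beta beta_bijective

/-- The derived group is the double cover of the Higman-Sims group, of index two. -/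
theorem derived_doubleCover :
    (commutator hnH).index = 2 ∧ Cfsg.IsNonsplitDoubleCover (commutator hnH) Cfsg.Spor.HS := by
  have := hnH_finite
  obtain ⟨hk, hd, hH⟩ := card_facts
  refine ⟨?_, ?_⟩
  · have h := Subgroup.card_mul_index (commutator hnH)
    rw [hd, hH, show (177408000 : ℕ) = 88704000 * 2 by norm_num] at h
    exact Nat.eq_of_mul_eq_mul_left (by norm_num) h
  have hcen : Subgroup.center (commutator hnH) = sigma.ker := by
    refine le_antisymm (fun d hd => ?_) sigma_ker_le_center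
    refine MonoidHom.mem_ker.2 (Subgroup.mem_bot.1 (hsPerm_center ▸ Subgroup.mem_center_iff.2 fun g => ?_))
    obtain ⟨g, rfl⟩ := sigma_surjective g
    rw [← map_mul, ← map_mul, Subgroup.mem_center_iff.1 hd g]
  refine ⟨hcen ▸ hk, ⟨((QuotientGroup.quotientMulEquivOfEq hcen).trans
    (QuotientGroup.quotientKerEquivOfSurjective sigma sigma_surjective)).trans
      Cfsg.Agent.HSPerm.equivHS⟩, fun L hL => ?_⟩
  have hLtop : L = ⊤ := by
    refine top_le_iff.1 (le_trans commutator_eq_top_of_perfect.ge ?_)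
    rw [commutator_def (G := commutator hnH), Subgroup.commutator_le]
    intro a _ b _
    obtain ⟨⟨⟨u, hu⟩, ⟨l, hl⟩⟩, rfl⟩ := hL.2 a
    obtain ⟨⟨⟨v, hv⟩, ⟨m, hm⟩⟩, rfl⟩ := hL.2 b
    have hu' := Subgroup.mem_center_iff.1 hu
    have hv' := Subgroup.mem_center_iff.1 hv
    show ⁅u * l, v * m⁆ ∈ L
    have e : ⁅u * l, v * m⁆ = ⁅l, m⁆ := by
      simp only [commutatorElement_def, mul_inv_rev]
      calc u * l * (v * m) * (l⁻¹ * u⁻¹) * (m⁻¹ * v⁻¹)
          = u * (l * v) * m * l⁻¹ * (u⁻¹ * m⁻¹) * v⁻¹ := by group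
        _ = u * (v * l) * m * l⁻¹ * (m⁻¹ * u⁻¹) * v⁻¹ := by
            rw [hv' l]
            rw [show u⁻¹ * m⁻¹ = m⁻¹ * u⁻¹ from by rw [← mul_inv_rev, ← mul_inv_rev, hu' m]]
        _ = (u * v) * (l * m * l⁻¹ * m⁻¹) * (u⁻¹ * v⁻¹) := by group
        _ = (l * m * l⁻¹ * m⁻¹) * (u * v) * (u⁻¹ * v⁻¹) := by
            rw [Subgroup.mem_center_iff.1 (mul_mem hu hv)]
        _ = l * m * l⁻¹ * m⁻¹ := by
            rw [hv' u]; group
    rw [e]
    exact mul_mem (mul_mem (mul_mem hl hm) (inv_mem hl)) (inv_mem hm)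
  have h2 : Subgroup.center (commutator hnH) = ⊥ := by
    refine (Subgroup.eq_bot_iff_forall _).2 fun g hg => ?_
    have := congrArg Prod.fst (hL.1
      (a₁ := (⟨g, hg⟩, ⟨1, one_mem L⟩)) (a₂ := (⟨1, one_mem _⟩, ⟨g, hLtop ▸ Subgroup.mem_top g⟩))
      (by simp))
    exact congrArg Subtype.val this
  rw [h2] at hcen
  rw [← hcen, Subgroup.card_bot] at hk
  omega

end Cfsg.Agent.HNPresented
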