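import Cfsg.Agent.Lib.HNPresented.Engine

/-!
# Points defined by equations

* `defWord`, `point` : the word and the point of a class, from the defining equations
* `point_fact` : the defining equations hold
-/

set_option autoImplicit false

namespace Cfsg.Agent.HNPresented

open Cfsg.Agent.StabCert

/-- The words of the first classes: `s` is the letter `t`. -/
def defWords (t : ℕ) (F : List Fact) : ℕ → List (List ℕ)
  | 0 => [[]]
  | n + 1 =>
    let l := defWords t F n
    l ++ [t :: ((F.getD n (0, [], 0, [])).2.1 ++ l.getD (F.getD n (0, [], 0, [])).1 [])]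

/-- The word of a class, with the letter `t` for `s`. -/
def defWord (t : ℕ) (F : List Fact) (j : ℕ) : List ℕ := (defWords t F j).getD j []

/-- The first `n` equations define the classes `1, ..., n`. -/
def defsOK (F : List Fact) (n : ℕ) : Bool :=
  (List.range n).all fun j => let f := F.getD j (0, [], 0, [])
    Nat.ble f.1 j && f.2.2.1 == j + 1 && f.2.2.2.isEmpty

theorem defWords_length (t : ℕ) (F : List Fact) : ∀ n, (defWords t F n).length = n + 1
  | 0 => rfl
  | n + 1 => by simp [defWords, defWords_length t F n]

theorem defWords_getD (t : ℕ) (F : List Fact) : ∀ n j, j ≤ n →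
    (defWords t F n).getD j [] = defWord t F j
  | 0, j, h => by rw [Nat.le_zero.1 h]; rfl
  | n + 1, j, h => by
    rcases Nat.lt_or_ge j (n + 1) with hj | hj
    · rw [← defWords_getD t F n j (Nat.lt_succ_iff.1 hj), defWords]
      exact List.getD_append _ _ _ _ (by rw [defWords_length]; exact hj)
    · rw [show j = n + 1 by omega]; rfl

theorem defWord_succ (t : ℕ) (F : List Fact) {j : ℕ} (h : (F.getD j (0, [], 0, [])).1 ≤ j) :
    defWord t F (j + 1) = t :: ((F.getD j (0, [], 0, [])).2.1 ++ defWord t F (F.getD j (0, [], 0, [])).1) := by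
  rw [← defWords_getD t F j _ h, defWord, defWords, List.getD_append_right _ _ _ _ (by rw [defWords_length])]
  simp [defWords_length]

variable {G X : Type*} [Group G] [MulAction G X]

/-- The point of a class: the letter `t` reads as `s`. -/
def point (el : ℕ → G) (s : G) (t : ℕ) (F : List Fact) (x0 : X) (j : ℕ) : X :=
  ((defWord t F j).map fun a => if a = t then s else el a).prod • x0

theorem point_zero (el : ℕ → G) (s : G) (t : ℕ) (F : List Fact) (x0 : X) :
    point el s t F x0 0 = x0 := by
  simp [point, defWord, defWords]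

theorem map_wordEl (el : ℕ → G) (s : G) {t : ℕ} {l : List ℕ} (h : ∀ a ∈ l, a ≠ t) :
    (l.map fun a => if a = t then s else el a).prod = wordEl el l :=
  congrArg List.prod (List.map_congr_left fun a ha => if_neg (h a ha))

theorem point_fact (C : Cfg) (el : ℕ → G) (s : G) (t : ℕ) (x0 : X) {n : ℕ}
    (h : defsOK C.facts n = true) (ht : ∀ j < n, ∀ a ∈ (C.fact j).2.1, a ≠ t) :
    ∀ j < n, FactHolds C el s (point el s t C.facts x0) j := by
  intro j hj
  simp only [defsOK, List.all_eq_true, List.mem_range, Bool.and_eq_true, Nat.ble_eq, beq_iff_eq,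
    List.isEmpty_iff] at h
  obtain ⟨⟨h1, h2⟩, h3⟩ := h j hj
  simp only [FactHolds, Cfg.fact] at ht ⊢
  rw [h2, h3, wordEl_nil, one_smul]
  conv_rhs => rw [point, defWord_succ t _ h1, List.map_cons, if_pos rfl, List.prod_cons, List.map_append,
    List.prod_append, map_wordEl el s (l := (C.facts.getD j (0, [], 0, [])).2.1) (ht j hj), mul_smul,
    mul_smul]
  rfl

end Cfsg.Agent.HNPresented
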