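import Cfsg.Agent.Lib.HNPresented.SixRels
import Cfsg.Agent.Lib.HNPresented.Points

/-!
# The cosets of `⟨x, y⟩` in `K`

* `trivialPart_normal` : the elements of `⟨x, y⟩` acting trivially form a normal subgroup
* `mem_xyGroup_of_fix`, `mem_fixGroup_of_fix` : an element fixing the point `0` lies in
  `⟨y, x⁻¹ y x, x y x⁻¹, x⁴⟩`
-/

set_option autoImplicit false
set_option maxRecDepth 100000
set_option Elab.async false

open Cfsg

namespace Cfsg.Agent.HNPresented

open Cfsg.Agent.StabCert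

theorem rel_one {r : FreeGroup G3} (h : r ∈ rels3) : PresentedGroup.mk {r | r ∈ rels3} r = 1 :=
  PresentedGroup.one_of_mem h

theorem kz_sq : kz * kz = 1 := by
  have h := rel_one (r := gz ^ 2) (by simp [rels3])
  simp only [map_pow] at h
  change kz ^ 2 = 1 at h
  rwa [pow_two] at h

theorem kz_inv : kz⁻¹ = kz := inv_eq_of_mul_eq_one_left kz_sq

theorem el_five : el 5 = el 4 := kz_inv

/-- The subgroup generated by `x` and `y`. -/
noncomputable def xyGroup : Subgroup K := Subgroup.closure {kx, ky}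

theorem wordEl_mem_xyGroup : ∀ v : List ℕ, (∀ a ∈ v, a < 4) → wordEl el v ∈ xyGroup
  | [], _ => by rw [wordEl_nil]; exact one_mem _
  | a :: v, h => by
    rw [wordEl_cons el a v]
    refine mul_mem ?_ (wordEl_mem_xyGroup v fun b hb => h b (List.mem_cons_of_mem a hb))
    have hx : kx ∈ xyGroup := Subgroup.subset_closure (Or.inl rfl)
    have hy : ky ∈ xyGroup := Subgroup.subset_closure (Or.inr rfl)
    have ha := h a List.mem_cons_self
    interval_cases a
    exacts [hx, inv_mem hx, hy, inv_mem hy]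

theorem exists_word_xyGroup {g : K} (hg : g ∈ xyGroup) : ∃ v : List ℕ, (∀ a ∈ v, a < 4) ∧ wordEl el v = g := by
  induction hg using Subgroup.closure_induction with
  | mem g hg =>
    rcases hg with rfl | rfl
    · exact ⟨[0], by decide, by simp [wordEl, el]⟩
    · exact ⟨[2], by decide, by simp [wordEl, el]⟩
  | one => exact ⟨[], by simp, wordEl_nil el⟩
  | mul a b _ _ ha hb =>
    obtain ⟨v, hv, rfl⟩ := ha
    obtain ⟨w, hw, rfl⟩ := hb
    exact ⟨v ++ w, fun a ha => (List.mem_append.1 ha).elim (hv a) (hw a), wordEl_append el v w⟩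
  | inv a _ ha =>
    obtain ⟨v, hv, rfl⟩ := ha
    refine ⟨winv v, fun a ha => ?_, wordEl_winv el_inv v⟩
    simp only [winv, List.mem_reverse, List.mem_map] at ha
    obtain ⟨b, hb, rfl⟩ := ha
    have := hv b hb
    split
    · rename_i h
      simp only [beq_iff_eq] at h
      omega
    · omega

/-- The relation between `z` and `w`. -/
theorem z_conj_w : kz * wordEl el wWord * kz = wordEl el (wWord ++ [1, 1]) := by
  have h := rel_one (r := (gz⁻¹ * (gy * gx * gy * gx * (gy ^ 2) * gx * (gy⁻¹))⁻¹ * gz *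
    (gy * gx * gy * gx * (gy ^ 2) * gx * (gy⁻¹))) * ((gx ^ 2)⁻¹)) (by simp [rels3])
  simp only [map_mul, map_inv, map_pow] at h
  change (kz⁻¹ * (ky * kx * ky * kx * ky ^ 2 * kx * ky⁻¹)⁻¹ * kz *
    (ky * kx * ky * kx * ky ^ 2 * kx * ky⁻¹)) * (kx ^ 2)⁻¹ = 1 at h
  have hw : wordEl el wWord = ky * kx * ky * kx * ky ^ 2 * kx * ky⁻¹ := by
    simp [wordEl, wWord, el, pow_two, mul_assoc]
  rw [← hw] at h
  generalize hW : wordEl el wWord = W at h
  rw [wordEl_append, hW, show wordEl el [1, 1] = kx⁻¹ * kx⁻¹ by simp [wordEl, el]]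
  rw [kz_inv, mul_inv_eq_one, pow_two] at h
  calc kz * W * kz = kz * W * kz * ((kz * W⁻¹ * kz * W) * (kx * kx)⁻¹) := by
        rw [h, mul_inv_cancel, mul_one]
    _ = kz * W * (kz * kz) * W⁻¹ * kz * W * (kx * kx)⁻¹ := by simp only [mul_assoc]
    _ = kz * kz * W * (kx⁻¹ * kx⁻¹) := by
        rw [kz_sq, mul_one, mul_inv_rev]; simp only [mul_assoc, mul_inv_cancel_left]
        rw [← mul_assoc, kz_sq]
    _ = W * (kx⁻¹ * kx⁻¹) := by rw [kz_sq, one_mul]

theorem z_conj_x : kz * kx * kz = kx⁻¹ := by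
  have h := rel_one (r := (gz * gx) ^ 2) (by simp [rels3])
  simp only [map_mul, map_pow] at h
  change (kz * kx) ^ 2 = 1 at h
  rw [pow_two, ← mul_assoc] at h
  exact eq_inv_of_mul_eq_one_left h

theorem z_conj_edgeGroup {g : K} (hg : g ∈ edgeGroup) : kz * g * kz ∈ xyGroup := by
  induction hg using Subgroup.closure_induction with
  | mem g hg =>
    rcases hg with rfl | rfl
    · rw [z_conj_x]; exact inv_mem (Subgroup.subset_closure (Or.inl rfl))
    · rw [z_conj_w]; exact wordEl_mem_xyGroup _ (by decide)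
  | one => rw [mul_one, kz_sq]; exact one_mem _
  | mul a b _ _ ha hb =>
    have e : kz * (a * b) * kz = (kz * a * kz) * (kz * b * kz) := by
      simp only [mul_assoc]; rw [← mul_assoc kz kz, kz_sq, one_mul]
    rw [e]; exact mul_mem ha hb
  | inv a _ ha =>
    have e : kz * a⁻¹ * kz = (kz * a * kz)⁻¹ := by rw [mul_inv_rev, mul_inv_rev, kz_inv, mul_assoc]
    rw [e]; exact inv_mem ha

theorem fix_all {v : List ℕ} (hv : ∀ a ∈ v, a < 8) (h : rho (wordEl el v) = 1) :
    ∀ p < 1408, ev 11 tab v p = p := fun p hp => by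
  obtain ⟨h1, h2⟩ := rho_word hv hp
  rw [h, Equiv.Perm.one_apply] at h2
  exact (pt_injOn hp h1 h2).symm

/-- The elements of `⟨x, y⟩` acting trivially. -/
noncomputable def trivialPart : Subgroup K := xyGroup ⊓ rho.ker

theorem trivialPart_z {n : K} (hn : n ∈ trivialPart) : kz * n * kz ∈ trivialPart := by
  obtain ⟨h1, h2⟩ := hn
  obtain ⟨v, hv, rfl⟩ := exists_word_xyGroup h1
  refine Subgroup.mem_inf.2 ⟨z_conj_edgeGroup (mem_edgeGroup_of_fix hv
    (blocks_spec hv (fix_all (fun a ha => (hv a ha).trans (by omega)) h2))), ?_⟩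
  show rho _ = 1
  rw [map_mul, map_mul, show rho (wordEl el v) = 1 from h2, mul_one, ← map_mul, kz_sq, map_one]

instance trivialPart_normal : trivialPart.Normal := by
  refine ⟨fun n hn g => ?_⟩
  have hg : g ∈ Subgroup.closure (Set.range (PresentedGroup.of : G3 → K)) := by
    rw [PresentedGroup.closure_range_of]; trivial
  suffices h : ∀ n ∈ trivialPart, g * n * g⁻¹ ∈ trivialPart ∧ g⁻¹ * n * g ∈ trivialPart from (h n hn).1
  clear hn n
  induction hg using Subgroup.closure_induction with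
  | mem g hg =>
    intro n hn
    have hxy : ∀ a ∈ xyGroup, a * n * a⁻¹ ∈ trivialPart := fun a ha => Subgroup.mem_inf.2
      ⟨mul_mem (mul_mem ha hn.1) (inv_mem ha), (MonoidHom.normal_ker rho).conj_mem n hn.2 a⟩
    obtain ⟨c, rfl⟩ := hg
    cases c
    · have hx : kx ∈ xyGroup := Subgroup.subset_closure (Or.inl rfl)
      exact ⟨hxy _ hx, by simpa using hxy _ (inv_mem hx)⟩
    · have hy : ky ∈ xyGroup := Subgroup.subset_closure (Or.inr rfl)
      exact ⟨hxy _ hy, by simpa using hxy _ (inv_mem hy)⟩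
    · show kz * n * kz⁻¹ ∈ trivialPart ∧ kz⁻¹ * n * kz ∈ trivialPart
      rw [kz_inv]
      exact ⟨trivialPart_z hn, trivialPart_z hn⟩
  | one => intro n hn; simp [hn]
  | mul a b _ _ ha hb =>
    intro n hn
    exact ⟨by simpa [mul_assoc] using (ha _ (hb n hn).1).1, by simpa [mul_assoc] using (hb _ (ha n hn).2).2⟩
  | inv a _ ha =>
    intro n hn
    exact ⟨by simpa using (ha n hn).2, by simpa using (ha n hn).1⟩

/-- The derivation for `⟨x, y⟩ ≤ K`. -/
def lowCfg : Cfg where
  w := 11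
  tab := tab
  B := basePts
  m := 4
  facts := lowFacts
  fixes := lowFixes
  sw := [[0], [1], wWord, winv wWord]
  ph := [[1], [0], wWord ++ [1, 1], winv (wWord ++ [1, 1])]
  cycles := lowCycles

/-- The representatives of the classes. -/
noncomputable def lowPoint : ℕ → K ⧸ xyGroup := point el kz 4 lowFacts ((1 : K) : K ⧸ xyGroup)

/-- The relators involving `z`, with `z⁻¹` written as `z`. -/
def zRels : List (List ℕ) :=
  (rels3.drop 6).map fun r => (r.toWord.map code).map fun a => if a == 5 then 4 else a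

/-- A cycle as one word. -/
def flatCycle (P : List (Option (List ℕ))) : List ℕ :=
  4 :: P.reverse.flatMap fun o => o.elim [4] id

theorem cycles_ok : (lowCycles.all fun P => zRels.any fun r =>
    (List.range (r.length + 1)).any fun m => flatCycle P == r.rotate m) = true := by decide +kernel

theorem zRels_one : ∀ r ∈ zRels, wordEl el r = 1 := by
  intro r hr
  obtain ⟨q, hq, rfl⟩ := List.mem_map.1 hr
  have h : PresentedGroup.mk {r | r ∈ rels3} q = 1 := rel_one (List.mem_of_mem_drop hq)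
  rw [← FreeGroup.mk_toWord (x := q)] at h
  refine Eq.trans ?_ h
  generalize q.toWord = l
  induction l with
  | nil => simp [wordEl, ← FreeGroup.one_eq_mk]
  | cons p l ih =>
    rw [List.map_cons, List.map_cons, wordEl_cons el, ih,
      show FreeGroup.mk (p :: l) = FreeGroup.mk [p] * FreeGroup.mk l by rw [FreeGroup.mul_mk]; rfl, map_mul]
    congr 1
    rcases p with ⟨g, b⟩
    have hinv : ∀ a : G3, PresentedGroup.mk {r | r ∈ rels3} (FreeGroup.mk [(a, false)]) = (PresentedGroup.of a)⁻¹ := by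
      intro a
      rw [show FreeGroup.mk [(a, false)] = (FreeGroup.of a)⁻¹ from rfl, map_inv]
      rfl
    cases g <;> cases b
    exacts [(hinv G3.x).symm, rfl, (hinv G3.y).symm, rfl, (kz_inv.symm.trans (hinv G3.z).symm), rfl]

theorem rotate_one {r : List ℕ} (h : wordEl el r = 1) (m : ℕ) : wordEl el (r.rotate m) = 1 := by
  rw [List.rotate_eq_drop_append_take_mod, wordEl_append, mul_eq_one_comm, ← wordEl_append,
    List.take_append_drop, h]

theorem getD_mem {α : Type*} {l : List α} {n : ℕ} {d : α} (h : n < l.length) : l.getD n d ∈ l := by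
  rw [List.getD_eq_getElem _ _ h]; exact List.getElem_mem h

theorem okW_of {C : Cfg} {v : List ℕ} (h : ∀ a ∈ v, a < C.m) : C.okW v = true :=
  List.all_eq_true.2 fun a ha => by simpa using h a ha

theorem okW_spec {C : Cfg} {v : List ℕ} (h : C.okW v = true) : ∀ a ∈ v, a < C.m := fun a ha => by
  simpa [Nat.blt_eq] using List.all_eq_true.1 h a ha

theorem low_cycle : ∀ p < lowCfg.cycles.length,
    kz * ((lowCfg.cycles.getD p []).reverse.map fun o => o.elim kz (wordEl el)).prod = 1 := by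
  intro p hp
  have h := cycles_ok
  simp only [List.all_eq_true, List.any_eq_true, beq_iff_eq] at h
  obtain ⟨r, hr, m, -, e⟩ := h (lowCycles.getD p []) (getD_mem hp)
  rw [← rotate_one (zRels_one r hr) m, ← e, flatCycle, wordEl_cons el]
  show kz * _ = kz * _
  congr 1
  show ((lowCycles.getD p []).reverse.map _).prod = _
  generalize (lowCycles.getD p []).reverse = l
  induction l with
  | nil => simp [wordEl]
  | cons o l ih =>
    rw [List.map_cons, List.prod_cons, ih, List.flatMap_cons, wordEl_append]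
    cases o
    · simp [wordEl, el]
    · rfl

theorem low_sound : Sound lowCfg el kz lowPoint where
  inv := el_inv
  eq := by
    intro v w h i
    simp only [Cfg.eqB, Bool.and_eq_true, List.all_eq_true, beq_iff_eq] at h
    obtain ⟨⟨hv, hw⟩, hB⟩ := h
    have hv' : ∀ a ∈ v, a < 4 := okW_spec hv
    have hw' : ∀ a ∈ w, a < 4 := okW_spec hw
    have e := rho_eq_of_base (fun a ha => (hv' a ha).trans (by omega))
      (fun a ha => (hw' a ha).trans (by omega)) hB
    have hn : (wordEl el v)⁻¹ * wordEl el w ∈ trivialPart := Subgroup.mem_inf.2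
      ⟨mul_mem (inv_mem (wordEl_mem_xyGroup v hv')) (wordEl_mem_xyGroup w hw'),
        show rho _ = 1 by rw [map_mul, map_inv, e, inv_mul_cancel]⟩
    obtain ⟨q, hq⟩ := QuotientGroup.mk_surjective (lowPoint i)
    rw [← hq, MulAction.Quotient.smul_coe, MulAction.Quotient.smul_coe, QuotientGroup.eq]
    have hc := trivialPart_normal.conj_mem _ hn q⁻¹
    have e2 : (wordEl el v • q)⁻¹ * wordEl el w • q
        = q⁻¹ * ((wordEl el v)⁻¹ * wordEl el w) * q⁻¹⁻¹ := by
      simp only [smul_eq_mul, mul_inv_rev, inv_inv, mul_assoc]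
    exact e2 ▸ hc.1
  twist := by
    have hwi : ∀ a b : K, kz * a * kz = b → kz * a = b * kz := fun a b h => by
      rw [← h, mul_assoc, kz_sq, mul_one]
    have hinv : ∀ a b : K, kz * a * kz = b → kz * a⁻¹ * kz = b⁻¹ := fun a b h => by
      rw [← h, mul_inv_rev, mul_inv_rev, kz_inv, mul_assoc]
    have hx : kz * wordEl el [0] * kz = wordEl el [1] := by simpa [wordEl, el] using z_conj_x
    intro n hn
    change n < 4 at hn
    interval_cases n
    · exact hwi _ _ hx
    · refine hwi _ _ ?_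
      have := hinv _ _ z_conj_x
      simpa [lowCfg, wordEl, el] using this
    · exact hwi _ _ z_conj_w
    · refine hwi _ _ ?_
      show kz * wordEl el (winv wWord) * kz = wordEl el (winv (wWord ++ [1, 1]))
      rw [wordEl_winv el_inv, wordEl_winv el_inv]
      exact hinv _ _ z_conj_w
  cycle := low_cycle

theorem low_run : lowCfg.runOK lowItems 3 2 = true := by decide +kernel

theorem low_defs : (defsOK lowFacts 3 && (lowFacts.take 3).all fun f => f.2.1.all fun a => a != 4) = true := by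
  decide +kernel

theorem low_holds : (∀ n < lowCfg.facts.length, FactHolds lowCfg el kz lowPoint n) ∧
    ∀ n < lowCfg.fixes.length, FixHolds lowCfg el lowPoint n := by
  refine run_spec low_sound _ _ _ low_run ?_ ?_
  · have h := low_defs
    simp only [Bool.and_eq_true, List.all_eq_true, bne_iff_ne] at h
    refine point_fact lowCfg el kz 4 _ h.1 fun j hj a ha => ?_
    have hj' : j < lowFacts.length := hj.trans (by decide)
    refine h.2 (lowFacts.getD j (0, [], 0, [])) ?_ a ha
    rw [List.getD_eq_getElem _ _ hj']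
    exact List.mem_take_iff_getElem.2 ⟨j, by simp [hj, hj'], rfl⟩
  · intro n hn
    have hfix : ∀ g ∈ xyGroup, g • ((1 : K) : K ⧸ xyGroup) = ((1 : K) : K ⧸ xyGroup) := fun g hg =>
      QuotientGroup.eq.2 (by simpa using hg)
    interval_cases n
    · show wordEl el [0] • lowPoint 0 = lowPoint 0
      rw [lowPoint, point_zero]
      exact hfix _ (wordEl_mem_xyGroup _ (by decide))
    · show wordEl el [2] • lowPoint 0 = lowPoint 0
      rw [lowPoint, point_zero]
      exact hfix _ (wordEl_mem_xyGroup _ (by decide))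

theorem low_cover_ok : (lowCfg.coverGo tab50 6 50 1 lowCover1 0 && lowCfg.coverGo tab50 6 50 2 lowCover2 0 &&
    lowCfg.coverGo tab50 6 50 3 lowCover3 0 &&
    lowFacts.all fun f => lowCfg.okW f.2.2.2 && Nat.blt f.2.2.1 4) = true := by decide +kernel

theorem tab50_inv : ((List.range 4).all fun a => (List.range 50).all fun i =>
    look 6 (tab50.getD (if a % 2 == 0 then a + 1 else a - 1) 0) (look 6 (tab50.getD a 0) i) == i) = true := by
  decide +kernel

theorem winv_lt {m : ℕ} (hm : m % 2 = 0) {v : List ℕ} (hv : ∀ a ∈ v, a < m) : ∀ a ∈ winv v, a < m := by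
  intro a ha
  simp only [winv, List.mem_reverse, List.mem_map] at ha
  obtain ⟨b, hb, rfl⟩ := ha
  have := hv b hb
  split
  · rename_i h
    simp only [beq_iff_eq] at h
    omega
  · omega

theorem ev50_winv {v : List ℕ} (hv : ∀ a ∈ v, a < 4) {p : ℕ} (hp : p < 50) :
    ev 6 tab50 v p < 50 ∧ ev 6 tab50 v (ev 6 tab50 (winv v) p) = p := by
  refine ⟨(ev50 v hv ⟨p, hp⟩).1, ?_⟩
  obtain ⟨h1, h2⟩ := ev50 (winv v) (winv_lt rfl hv) ⟨p, hp⟩
  have h3 := (ev50 v hv ⟨ev 6 tab50 (winv v) p, h1⟩).2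
  rw [show (⟨ev 6 tab50 (winv v) p, h1⟩ : Fin hn50.n)
      = rho50 (wordEl sixSetup.el (winv v)) ⟨p, hp⟩ from Fin.ext h2.symm,
    ← Equiv.Perm.mul_apply, ← map_mul] at h3
  have hinv : ∀ n, sixSetup.el (2 * n + 1) = (sixSetup.el (2 * n))⁻¹
    | 0 => rfl
    | 1 => rfl
    | _ + 2 => inv_one.symm
  rw [wordEl_winv hinv, mul_inv_cancel, map_one, Equiv.Perm.one_apply] at h3
  simp only [map_inv] at h3
  rw [← map_inv, ← wordEl_winv hinv, h2] at h3
  exact h3.symm

/-- The orbits of the classes. -/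
def lowCosets : Set (K ⧸ xyGroup) :=
  {q | ∃ v, (∀ a ∈ v, a < 4) ∧ ∃ i < 4, q = wordEl el v • lowPoint i}

theorem z_smul_lowCosets {q : K ⧸ xyGroup} (hq : q ∈ lowCosets) : kz • q ∈ lowCosets := by
  obtain ⟨v, hv, i, hi, rfl⟩ := hq
  obtain ⟨hf, hx⟩ := low_holds
  have hc := low_cover_ok
  simp only [Bool.and_eq_true, List.all_eq_true, Nat.blt_eq] at hc
  rcases Nat.eq_zero_or_pos i with rfl | hpos
  · refine ⟨[], by simp, 1, by omega, ?_⟩
    have h0 := hf 0 (by decide)
    change kz • wordEl el [] • lowPoint 0 = wordEl el [] • lowPoint 1 at h0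
    rw [← h0, wordEl_nil, one_smul, lowPoint, point_zero]
    congr 1
    exact QuotientGroup.eq.2 (by simpa using wordEl_mem_xyGroup v hv)
  have hok : ∀ n < lowCfg.facts.length, lowCfg.okW (lowCfg.fact n).2.2.2 = true ∧ (lowCfg.fact n).2.2.1 < 4 :=
    fun n hn => by
      show lowCfg.okW (lowFacts.getD n _).2.2.2 = true ∧ (lowFacts.getD n _).2.2.1 < 4
      exact hc.2 _ (getD_mem hn)
  obtain ⟨ps, hps⟩ : ∃ ps, lowCfg.coverGo tab50 6 50 i ps 0 = true := by
    interval_cases i
    exacts [⟨_, hc.1.1.1⟩, ⟨_, hc.1.1.2⟩, ⟨_, hc.1.2⟩]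
  obtain ⟨u, j, hu, ⟨n, hn, rfl⟩, e⟩ := smul_mem_cosets low_sound (by omega : 0 < 50) hps
    (fun v hv p hp => ev50_winv (okW_spec hv) hp)
    (fun v hv => okW_of (winv_lt rfl (okW_spec hv)))
    (fun v hv h0 => by
      obtain ⟨u, hu, e⟩ := exists_word_xyGroup (z_conj_edgeGroup (mem_edgeGroup_of_fix (okW_spec hv) h0))
      refine ⟨u, okW_of hu, ?_⟩
      rw [e, mul_assoc, kz_sq, mul_one])
    hf hx (fun n hn => (hok n hn).1) (v := v) (okW_of hv)
  exact ⟨u, okW_spec hu, _, (hok n hn).2, e⟩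

theorem mem_lowCosets (g : K) : ∀ q ∈ lowCosets, g • q ∈ lowCosets ∧ g⁻¹ • q ∈ lowCosets := by
  have hg : g ∈ Subgroup.closure (Set.range (PresentedGroup.of : G3 → K)) := by
    rw [PresentedGroup.closure_range_of]; trivial
  induction hg using Subgroup.closure_induction with
  | mem g hg =>
    intro q hq
    obtain ⟨c, rfl⟩ := hg
    cases c
    case z =>
      show kz • q ∈ lowCosets ∧ kz⁻¹ • q ∈ lowCosets
      rw [kz_inv]
      exact ⟨z_smul_lowCosets hq, z_smul_lowCosets hq⟩
    all_goals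
      obtain ⟨v, hv, i, hi, rfl⟩ := hq
    · exact ⟨⟨0 :: v, by simpa using hv, i, hi, by rw [wordEl_cons el, mul_smul]; rfl⟩,
        ⟨1 :: v, by simpa using hv, i, hi, by rw [wordEl_cons el, mul_smul]; rfl⟩⟩
    · exact ⟨⟨2 :: v, by simpa using hv, i, hi, by rw [wordEl_cons el, mul_smul]; rfl⟩,
        ⟨3 :: v, by simpa using hv, i, hi, by rw [wordEl_cons el, mul_smul]; rfl⟩⟩
  | one => intro q hq; simp [hq]
  | mul a b _ _ ha hb =>
    intro q hq
    exact ⟨mul_smul a b q ▸ (ha _ (hb q hq).1).1, by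
      rw [mul_inv_rev, mul_smul]; exact (hb _ (ha q hq).2).2⟩
  | inv a _ ha => intro q hq; exact ⟨(ha q hq).2, (inv_inv a).symm ▸ (ha q hq).1⟩

theorem block0_ok : (((List.range 4).all fun a => [0, 1, 2, 4].all fun b =>
      [0, 1, 2, 4].contains (look 11 (tab.getD a 0) b)) &&
    (List.range 4).all fun i => i == 0 || ([0, 1, 2, 4].all fun b =>
      (!([0, 1, 2, 4] : List ℕ).contains (ev 11 tab (defWord 4 lowFacts i) b)) &&
      (defWord 4 lowFacts i).all fun a => Nat.blt a 8)) = true := by decide +kernel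

theorem block0_ev : ∀ (v : List ℕ), (∀ a ∈ v, a < 4) → ∀ b ∈ [0, 1, 2, 4], ev 11 tab v b ∈ [0, 1, 2, 4]
  | [], _, b, hb => hb
  | a :: v, hv, b, hb => by
    have ih := block0_ev v (fun c hc => hv c (List.mem_cons_of_mem a hc)) b hb
    have h := block0_ok
    simp only [Bool.and_eq_true, List.all_eq_true, List.mem_range, List.contains_iff_mem] at h
    exact h.1 a (hv a List.mem_cons_self) _ ih

theorem xyGroup_block {h : K} (hh : h ∈ xyGroup) {b : ℕ} (hb : b ∈ [0, 1, 2, 4]) :
    ∃ c ∈ [0, 1, 2, 4], c < 1408 ∧ rho h (pt b) = pt c := by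
  obtain ⟨v, hv, rfl⟩ := exists_word_xyGroup hh
  have hlt : b < 1408 := by fin_cases hb <;> omega
  obtain ⟨h1, h2⟩ := rho_word (fun a ha => (hv a ha).trans (by omega)) hlt
  exact ⟨_, block0_ev v hv b hb, h1, h2⟩

theorem mem_xyGroup_of_fix {g : K} (hg : rho g (pt 0) = pt 0) : g ∈ xyGroup := by
  have h1 : ((1 : K) : K ⧸ xyGroup) ∈ lowCosets :=
    ⟨[], by simp, 0, by omega, by rw [wordEl_nil, one_smul, lowPoint, point_zero]⟩
  obtain ⟨v, hv, i, hi, e⟩ := (mem_lowCosets g _ h1).1
  rcases Nat.eq_zero_or_pos i with rfl | hpos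
  · rw [lowPoint, point_zero, MulAction.Quotient.smul_coe, MulAction.Quotient.smul_coe, smul_eq_mul,
      smul_eq_mul, mul_one, mul_one, QuotientGroup.eq] at e
    have := mul_mem (inv_mem (wordEl_mem_xyGroup v hv)) (one_mem xyGroup)
    have h2 : g⁻¹ ∈ xyGroup := by simpa using mul_mem e (inv_mem (wordEl_mem_xyGroup v hv))
    simpa using inv_mem h2
  exfalso
  set D := defWord 4 lowFacts i with hD
  have hb := block0_ok
  simp only [Bool.and_eq_true, List.all_eq_true, List.mem_range, Bool.or_eq_true, beq_iff_eq,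
    Bool.not_eq_true', Nat.blt_eq] at hb
  rcases hb.2 i hi with h0 | hD'
  · omega
  have hp : lowPoint i = wordEl el D • ((1 : K) : K ⧸ xyGroup) := by
    show ((defWord 4 lowFacts i).map _).prod • _ = _
    congr 1
    refine congrArg List.prod (List.map_congr_left fun a _ => ?_)
    split
    · subst a; rfl
    · rfl
  rw [hp, MulAction.Quotient.smul_coe, MulAction.Quotient.smul_coe, MulAction.Quotient.smul_coe,
    smul_eq_mul, smul_eq_mul, smul_eq_mul, mul_one, mul_one, QuotientGroup.eq] at e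
  set h := g⁻¹ * (wordEl el v * wordEl el D) with hh
  obtain ⟨b, hb', hblt, hbe⟩ := xyGroup_block (inv_mem e) (show (0 : ℕ) ∈ [0, 1, 2, 4] by decide)
  obtain ⟨c, hc, hclt, hce⟩ := xyGroup_block (inv_mem (wordEl_mem_xyGroup v hv)) (show (0 : ℕ) ∈ [0, 1, 2, 4] by decide)
  have hDb := rho_word (fun a ha => (hD' 0 (by decide)).2 a ha) hblt
  have e1 : rho (wordEl el D) (pt b) = pt c := by
    rw [← hbe, ← hce, ← Equiv.Perm.mul_apply, ← map_mul,
      show wordEl el D * h⁻¹ = (wordEl el v)⁻¹ * g by rw [hh]; group,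
      map_mul, Equiv.Perm.mul_apply, hg]
  rw [hDb.2] at e1
  have := (hD' b hb').1
  rw [pt_injOn hDb.1 hclt e1] at this
  simp [List.contains_iff_mem] at this
  fin_cases hc <;> simp_all

/-- The stabiliser of the point `0`. -/
noncomputable def fixGroup : Subgroup K :=
  Subgroup.closure {ky, kx⁻¹ * ky * kx, kx * ky * kx⁻¹, kx ^ 4}

theorem x_sq_y : kx ^ 2 * ky * kx ^ 2 = ky := by
  have h := rel_one (r := (gx ^ 2) * gy * (gx ^ 2) * (gy⁻¹)) (by simp [rels3])
  simp only [map_mul, map_pow, map_inv] at h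
  exact mul_inv_eq_one.1 h

theorem x_conj_fixGroup {u : K} (hu : u ∈ fixGroup) :
    kx * u * kx⁻¹ ∈ fixGroup ∧ kx⁻¹ * u * kx ∈ fixGroup := by
  have h4 : kx ^ 4 ∈ fixGroup := Subgroup.subset_closure (by simp)
  have hy : ky ∈ fixGroup := Subgroup.subset_closure (by simp)
  have hy1 : kx⁻¹ * ky * kx ∈ fixGroup := Subgroup.subset_closure (by simp)
  have hy2 : kx * ky * kx⁻¹ ∈ fixGroup := Subgroup.subset_closure (by simp)
  induction hu using Subgroup.closure_induction with
  | mem g hg =>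
    rcases hg with rfl | rfl | rfl | rfl
    · exact ⟨hy2, hy1⟩
    · refine ⟨by simpa [mul_assoc] using hy, ?_⟩
      have e : kx⁻¹ * (kx⁻¹ * ky * kx) * kx = ky * kx ^ 4 := by
        have : ky * kx ^ 4 = kx⁻¹ * (kx⁻¹ * (kx ^ 2 * ky * kx ^ 2)) * kx ^ 2 := by
          simp only [pow_succ, pow_zero, one_mul, mul_assoc, inv_mul_cancel_left]
        rw [this, x_sq_y]
        simp only [pow_two, mul_assoc]
      rw [e]; exact mul_mem hy h4
    · refine ⟨?_, by simpa [mul_assoc] using hy⟩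
      have e : kx * (kx * ky * kx⁻¹) * kx⁻¹ = ky * (kx ^ 4)⁻¹ := by
        have : kx ^ 2 * ky = ky * (kx ^ 2)⁻¹ := eq_mul_inv_of_mul_eq x_sq_y
        calc kx * (kx * ky * kx⁻¹) * kx⁻¹ = (kx ^ 2 * ky) * (kx⁻¹ * kx⁻¹) := by
              simp only [pow_two, mul_assoc]
          _ = ky * (kx ^ 4)⁻¹ := by
              rw [this]; simp only [pow_succ, pow_zero, one_mul, mul_inv_rev, mul_assoc]
      rw [e]; exact mul_mem hy (inv_mem h4)
    · have e : ∀ a : K, kx * a = a * kx → kx * a * kx⁻¹ = a ∧ kx⁻¹ * a * kx = a := fun a h =>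
        ⟨by rw [h, mul_inv_cancel_right], by rw [mul_assoc, ← h, inv_mul_cancel_left]⟩
      have := e (kx ^ 4) (Commute.self_pow kx 4).eq
      rw [this.1, this.2]; exact ⟨h4, h4⟩
  | one => simp [one_mem]
  | mul a b _ _ ha hb =>
    constructor
    · have e : kx * (a * b) * kx⁻¹ = (kx * a * kx⁻¹) * (kx * b * kx⁻¹) := by group
      rw [e]; exact mul_mem ha.1 hb.1
    · have e : kx⁻¹ * (a * b) * kx = (kx⁻¹ * a * kx) * (kx⁻¹ * b * kx) := by group
      rw [e]; exact mul_mem ha.2 hb.2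
  | inv a _ ha =>
    constructor
    · have e : kx * a⁻¹ * kx⁻¹ = (kx * a * kx⁻¹)⁻¹ := by group
      rw [e]; exact inv_mem ha.1
    · have e : kx⁻¹ * a⁻¹ * kx = (kx⁻¹ * a * kx)⁻¹ := by group
      rw [e]; exact inv_mem ha.2

/-- `fixGroup` extended by the powers of `x`. -/
theorem exists_pow_fixGroup {h : K} (hh : h ∈ xyGroup) :
    ∃ j : ℕ, j < 4 ∧ ∃ u ∈ fixGroup, h = kx ^ j * u := by
  have h4 : kx ^ 4 ∈ fixGroup := Subgroup.subset_closure (by simp)
  have hy : ky ∈ fixGroup := Subgroup.subset_closure (by simp)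
  obtain ⟨v, hv, rfl⟩ := exists_word_xyGroup hh
  induction v with
  | nil => exact ⟨0, by omega, 1, one_mem _, by simp [wordEl]⟩
  | cons a v ih =>
    obtain ⟨j, hj, u, hu, e⟩ := ih (fun b hb => hv b (List.mem_cons_of_mem a hb))
      (wordEl_mem_xyGroup v fun b hb => hv b (List.mem_cons_of_mem a hb))
    rw [wordEl_cons el, e]
    have hconj : ∀ (n : ℕ) (c : K), c ∈ fixGroup → (kx ^ n)⁻¹ * c * kx ^ n ∈ fixGroup := by
      intro n
      induction n with
      | zero => intro c hc; simpa using hc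
      | succ n ihn =>
        intro c hc
        have e : (kx ^ (n + 1))⁻¹ * c * kx ^ (n + 1) = kx⁻¹ * ((kx ^ n)⁻¹ * c * kx ^ n) * kx := by
          rw [pow_succ]; group
        rw [e]; exact (x_conj_fixGroup (ihn c hc)).2
    have hup : kx * (kx ^ j * u) = kx ^ (j + 1) * u := by rw [pow_succ']; group
    have ha := hv a List.mem_cons_self
    interval_cases a
    · show ∃ _, _ ∧ ∃ _, _ ∧ kx * (kx ^ j * u) = _
      rcases Nat.lt_or_ge (j + 1) 4 with h | h
      · exact ⟨j + 1, h, u, hu, hup⟩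
      · refine ⟨0, by omega, kx ^ 4 * u, mul_mem h4 hu, ?_⟩
        rw [hup, show j + 1 = 4 by omega, pow_zero, one_mul]
    · show ∃ _, _ ∧ ∃ _, _ ∧ kx⁻¹ * (kx ^ j * u) = _
      rcases Nat.eq_zero_or_pos j with rfl | h
      · refine ⟨3, by omega, (kx ^ 4)⁻¹ * u, mul_mem (inv_mem h4) hu, ?_⟩
        group
      · refine ⟨j - 1, by omega, u, hu, ?_⟩
        conv_lhs => rw [show j = (j - 1) + 1 by omega, pow_succ']
        group
    · refine ⟨j, hj, (kx ^ j)⁻¹ * ky * kx ^ j * u, mul_mem (hconj j ky hy) hu, ?_⟩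
      show ky * (kx ^ j * u) = _
      group
    · refine ⟨j, hj, (kx ^ j)⁻¹ * ky⁻¹ * kx ^ j * u, mul_mem (hconj j _ (inv_mem hy)) hu, ?_⟩
      show ky⁻¹ * (kx ^ j * u) = _
      group

theorem fix0_ok : (([[2], [1, 2, 0], [0, 2, 1], [0, 0, 0, 0]] : List (List ℕ)).all (fun v => ev 11 tab v 0 == 0) &&
    [1, 2, 3].all fun j => ev 11 tab (List.replicate j 0) 0 != 0) = true := by decide +kernel

theorem fixGroup_fix {u : K} (hu : u ∈ fixGroup) : rho u (pt 0) = pt 0 := by
  have h := fix0_ok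
  simp only [Bool.and_eq_true, List.all_eq_true, beq_iff_eq] at h
  have hle : fixGroup ≤ (MulAction.stabilizer (Equiv.Perm (Fin 1408)) (pt 0)).comap rho := by
    rw [fixGroup, Subgroup.closure_le]
    intro g hg
    have key : ∀ v, v ∈ ([[2], [1, 2, 0], [0, 2, 1], [0, 0, 0, 0]] : List (List ℕ)) → (∀ a ∈ v, a < 8) →
        rho (wordEl el v) (pt 0) = pt 0 := fun v hv hlt => by
      rw [(rho_word hlt (by omega)).2, h.1 v hv]
    rcases hg with rfl | rfl | rfl | rfl
    · simpa [wordEl, el] using key [2] (by simp) (by decide)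
    · simpa [wordEl, el, mul_assoc] using key [1, 2, 0] (by simp) (by decide)
    · simpa [wordEl, el, mul_assoc] using key [0, 2, 1] (by simp) (by decide)
    · simpa [wordEl, el, pow_succ, mul_assoc] using key [0, 0, 0, 0] (by simp) (by decide)
  exact hle hu

theorem mem_fixGroup_of_fix {g : K} (hg : rho g (pt 0) = pt 0) : g ∈ fixGroup := by
  obtain ⟨j, hj, u, hu, rfl⟩ := exists_pow_fixGroup (mem_xyGroup_of_fix hg)
  rcases Nat.eq_zero_or_pos j with rfl | hpos
  · simpa using hu
  exfalso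
  rw [map_mul, Equiv.Perm.mul_apply, fixGroup_fix hu,
    show kx ^ j = wordEl el (List.replicate j 0) by simp [wordEl, el]] at hg
  have hlt : ∀ a ∈ List.replicate j 0, a < 8 := fun a ha => by
    rw [List.eq_of_mem_replicate ha]; omega
  obtain ⟨h1, h2⟩ := rho_word hlt (show 0 < 1408 by omega)
  rw [h2] at hg
  have h := fix0_ok
  simp only [Bool.and_eq_true, List.all_eq_true, bne_iff_ne] at h
  exact h.2 j (by interval_cases j <;> simp) (pt_injOn h1 (show 0 < 1408 by omega) hg)

end Cfsg.Agent.HNPresented
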