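import Cfsg.Agent.Lib.HNPresented.Engine

/-!
# Derivation of the double cosets of `⟨x, y⟩` in the group on `x`, `y`, `z`

Generated data.
-/

set_option autoImplicit false
set_option maxRecDepth 100000

namespace Cfsg.Agent.HNPresented

/-- The equations. -/
def lowFacts : List Fact :=
  [(0, [], 1, []),
   (1, [3], 2, []),
   (2, [3], 3, []),
   (1, [], 0, []),
   (2, [], 1, [3]),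
   (2, [0, 2, 0, 3, 0, 3, 0, 2, 0, 2, 2, 2, 1, 3, 3, 1, 3, 1, 3, 1, 2, 1, 3, 3, 1, 3, 1, 1, 3, 3, 1, 3, 1, 3, 0, 2, 1, 3, 3, 1, 3, 1, 3, 0, 2, 1, 3, 3, 1, 3, 1, 1, 3, 3, 1, 3, 1, 3, 0], 1, [2, 0, 2, 0, 2, 0, 2, 0, 2, 2, 0, 0, 2, 0, 2, 2, 0, 0, 2, 0, 2, 2, 0, 0, 2, 0, 2, 2, 0, 0, 2, 0, 2, 2, 0, 0, 2, 0, 2, 2, 0, 3, 0, 2, 1, 3, 3, 1, 3, 1, 1, 3, 3, 1, 3, 1, 1, 3, 3, 1, 3, 1, 3, 0, 2, 0, 2, 0, 2, 2, 0, 0, 2, 0, 2, 2, 0, 0, 2, 0, 2, 2, 0, 3, 0]),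
   (3, [], 2, [3]),
   (1, [3, 3, 0, 3, 3, 0, 3, 0, 2, 2, 2, 2, 1, 3, 3, 1, 3, 1, 3, 1, 2, 1, 3, 3, 1, 3, 1, 1, 3, 3, 1, 3, 1, 3, 0, 2, 1, 3, 3, 1, 3, 1, 3, 0], 2, [2]),
   (3, [0, 2, 0, 3, 0, 3, 0, 2, 0, 2, 2, 2, 0, 2, 0, 2, 2, 0, 0, 2, 0, 2, 2, 0, 0, 2, 0, 2, 2, 0, 3, 1, 2, 0, 2, 0, 2, 2, 0, 0, 2, 0, 2, 2, 0, 0, 2, 0, 2, 2, 0, 0, 2, 0, 2, 2, 0, 0, 2, 0, 2, 2, 0, 0, 2, 0, 2, 2, 0, 3, 0, 2, 1, 3, 3, 1, 3, 1, 3], 2, [2, 0, 2, 0, 2, 0, 2, 0, 2, 2, 0, 0, 2, 0, 2, 2, 0, 0, 2, 0, 2, 2, 0, 0, 2, 0, 2, 2, 0, 0, 2, 0, 2, 2, 0, 0, 2, 0, 2, 2, 0, 3, 0, 2, 1, 3, 3, 1, 3, 1, 1, 3, 3, 1, 3, 1, 1, 3, 3, 1, 3, 1, 3, 0, 2, 0, 2, 0, 2, 2, 0, 0, 2, 0, 2, 2, 0, 0, 2, 0, 2, 2, 0, 3, 0]),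
   (2, [3, 3, 0, 3, 3, 0, 3, 0, 2, 2, 2, 0, 2, 1, 3, 3, 1, 3, 1, 1, 3, 3, 1, 3, 1, 1, 3, 3, 1, 3, 1, 3, 0, 2, 0, 2, 0, 2, 2, 0, 3, 0, 2, 0, 2, 0, 2, 2, 0, 0, 2, 0, 2, 2, 0, 0, 2, 0, 2, 2, 0, 0, 2, 0, 2, 2, 0, 3, 0, 2, 0, 2, 0, 2, 2, 0, 3], 3, [2]),
   (2, [3, 0, 3, 0, 2, 2, 2, 2, 1, 3, 3, 1, 3, 1, 1, 3, 3, 1, 3, 1, 1, 3, 3, 1, 3, 1, 3, 0, 2, 0, 2, 0, 2, 2, 0, 0, 2, 0, 2, 2, 0, 0, 2, 0, 2, 2, 0, 0, 2, 0, 2, 2, 0, 0, 2, 0, 2, 2, 0, 3, 0, 2, 0, 2, 0, 2, 2, 0, 3], 1, [2, 0, 2, 0, 2, 0, 2, 0, 2, 2, 0, 0, 2, 0, 2, 2, 0, 0, 2, 0, 2, 2, 0, 0, 2, 0, 2, 2, 0, 0, 2, 0, 2, 2, 0, 0, 2, 0, 2, 2, 0, 3, 0, 2, 1, 3, 3, 1, 3, 1, 1, 3, 3, 1, 3, 1, 1, 3, 3, 1, 3, 1, 3, 0, 2, 0, 2, 0, 2, 2, 0, 0, 2, 0, 2, 2, 0, 0, 2, 0, 2, 2, 0, 3, 0])]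

/-- The fixing elements. -/
def lowFixes : List Fixer :=
  [(0, [0]),
   (0, [2]),
   (1, [1]),
   (1, [2, 0, 2, 0, 2, 2, 0, 3, 0, 0]),
   (2, [0, 0]),
   (2, [0, 2, 1, 3, 3, 1, 3, 1, 3, 0, 2, 1, 3, 3, 1, 3, 1, 1, 3, 3, 1, 3, 1, 1, 3, 3, 1, 3, 1, 3, 0, 2, 0, 2, 0, 2, 2, 0, 3]),
   (2, [2, 0, 2, 0, 2, 2, 0, 0, 2, 0, 2, 2, 0, 3, 0, 2, 1, 3, 3, 1, 3, 1, 3, 0, 2, 1, 3, 3, 1, 3, 1, 1, 3, 3, 1, 3, 1, 1, 3, 3, 1, 3, 1, 3, 0, 2, 1, 3, 3, 1, 3, 1, 3, 0, 2, 1, 3, 3, 1, 3, 1, 3, 0]),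
   (2, [0, 2, 1, 3, 3, 1, 3, 1, 3, 0, 2, 1, 3, 3, 1, 3, 1, 1, 3, 3, 1, 3, 1, 1, 3, 3, 1, 3, 1, 3, 0, 2, 1, 3, 3, 1, 3, 1, 1, 3, 3, 1, 3, 1, 3, 0, 2, 1, 3, 3, 1, 3, 1, 3, 0]),
   (3, [0, 0]),
   (3, [2, 0, 2, 0, 2, 2, 0, 0, 2, 0, 2, 2, 0, 0, 2, 0, 2, 2, 0, 0, 2, 0, 2, 2, 0, 3, 1, 2, 0, 2, 0, 2, 2, 0, 0, 2, 0, 2, 2, 0, 3, 0, 2, 0, 2, 0, 2, 2, 0, 0, 2, 0, 2, 2, 0, 0, 2, 0, 2, 2, 0, 0, 2, 0, 2, 2, 0, 0, 2, 0, 2, 2, 0, 0, 2, 0, 2, 2, 0, 3, 0]),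
   (2, [2, 0, 3, 0, 2, 2, 2, 2, 1, 3, 3, 1, 3, 1, 3, 0, 2, 1, 3, 3, 1, 3, 1, 3]),
   (3, [2, 0, 2, 0, 2, 2, 2, 0, 2, 0, 2, 2, 0, 0, 2, 0, 2, 2, 0, 3, 0, 2, 0, 2, 0, 2, 2, 0, 0, 2, 0, 2, 2, 0, 0, 2, 0, 2, 2, 0, 0, 2, 0, 2, 2, 0, 3, 0, 2, 1, 3, 3, 1, 3, 1, 3, 0, 2, 1, 3, 3, 1, 3, 1, 3]),
   (2, [2, 0, 3, 0, 3, 0, 2, 0, 2, 2, 2, 1, 3, 3, 1, 3, 1, 3, 0, 2, 1, 3, 3, 1, 3, 1, 1, 3, 3, 1, 3, 1, 1, 3, 3, 1, 3, 1, 3, 0, 2, 1, 3, 3, 1, 3, 1, 1, 3, 3, 1, 3, 1, 3, 0, 2, 1, 3, 3, 1, 3, 1, 1, 3, 3, 1, 3, 1, 3]),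
   (3, [0, 2, 2, 0, 2, 2, 2, 1, 3, 3, 1, 3, 1, 3, 1, 2, 0, 2, 0, 2, 2, 0, 3, 0, 2, 0, 2, 0, 2, 2, 0, 0, 2, 0, 2, 2, 0, 3])]

/-- The cycles, in the order of application. -/
def lowCycles : List (List (Option (List ℕ))) :=
  [[none],
   [some [0], none, some [0]],
   [some [2, 0, 2, 0, 2, 2, 0, 3, 1, 1], none, some [2, 1, 3, 3, 1, 3, 1, 3]],
   [some [2, 1, 3, 3, 1, 3, 1, 3], none, some [2, 0, 2, 0, 2, 2, 0, 3, 1, 1]],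
   [some [2, 2, 2, 0, 2, 0, 2, 0], none, some [2, 2, 2, 0, 2, 0, 2, 0, 3, 1, 3, 1, 3, 3, 3], none, some [2, 2, 2, 0, 2, 0, 2, 0, 3, 1, 3, 1, 3, 3, 3], none, some [3, 1, 3, 1, 3, 3, 3]],
   [some [3, 1, 3, 1, 3, 3, 3], none, some [2, 2, 2, 0, 2, 0, 2, 0], none, some [2, 2, 2, 0, 2, 0, 2, 0, 3, 1, 3, 1, 3, 3, 3], none, some [2, 2, 2, 0, 2, 0, 2, 0, 3, 1, 3, 1, 3, 3, 3]],
   [some [2, 2, 2, 0, 2, 0, 2, 0, 3, 1, 3, 1, 3, 3, 3], none, some [3, 1, 3, 1, 3, 3, 3], none, some [2, 2, 2, 0, 2, 0, 2, 0], none, some [2, 2, 2, 0, 2, 0, 2, 0, 3, 1, 3, 1, 3, 3, 3]],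
   [some [2, 2, 2, 0, 2, 0, 2, 0, 3, 1, 3, 1, 3, 3, 3], none, some [2, 2, 2, 0, 2, 0, 2, 0, 3, 1, 3, 1, 3, 3, 3], none, some [3, 1, 3, 1, 3, 3, 3], none, some [2, 2, 2, 0, 2, 0, 2, 0]]]

/-- The derivation. -/
def lowItems : List Item :=
  [.stab 0 [0] [0],
   .stab 0 [2] [2, 0, 2, 0, 2, 2, 0, 3],
   .stab 1 [0, 0] [5, 7, 4, 4, 6, 4],
   .stab 1 [0, 3, 0, 3, 3, 3, 0, 2] [6, 6, 6, 4, 6, 4],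
   .stab 1 [2, 2, 1, 3, 0, 3, 3, 3, 0, 3, 0, 3, 0] [7, 5, 7, 5, 7, 5, 6, 6, 4, 7, 4, 7, 4, 7, 4],
   .stab 1 [0, 3, 0, 3, 3, 3, 0, 3, 3, 0, 3, 0] [5, 6, 5, 6, 6, 6, 6, 4, 6, 6, 4, 6],
   .stab 2 [0, 0] [8],
   .stab 2 [2, 2, 2, 2, 0, 2, 2, 0, 2, 2, 2, 2, 2, 2, 0] [10, 12],
   .edge 0 0 [] [(0, [], [], [])],
   .edge 0 1 [3] [(1, [], [], [])],
   .edge 5 1 [3, 1, 3] [(3, [], [0, 3, 3, 3, 3, 3, 0, 2, 2, 2, 0, 3, 3, 3, 0], [1, 2, 1, 3, 3, 1, 3, 1, 1, 3, 3, 1, 3, 1, 1, 3, 3, 1, 3, 1, 1, 3, 3, 1, 3, 1, 1, 3, 3, 1, 3, 1, 3, 0, 2, 0, 2, 0, 2, 2, 0, 0, 2, 0, 2, 2, 0, 0, 2, 0, 2, 2, 0, 3, 0, 2, 1, 3, 3, 1, 3, 1, 1, 3, 3, 1, 3, 1, 1, 3, 3, 1, 3, 1, 3, 0]), (0, [1, 2, 0, 2, 0, 2, 2, 0, 0, 2, 0, 2, 2, 0, 0, 2, 0, 2, 2, 0, 3, 1, 2, 1, 3, 3, 1, 3, 1, 1, 3,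 3, 1, 3, 1, 1, 3, 3, 1, 3, 1, 3, 1, 2, 0, 2, 0, 2, 2, 0, 0, 2, 0, 2, 2, 0, 0, 2, 0, 2, 2, 0, 0, 2, 0, 2, 2, 0, 0, 2, 0, 2, 2, 0, 3, 0, 1, 3, 1, 3, 1, 3, 3, 3], [], []), (1, [7, 4, 6, 6, 4], [1, 3, 3, 0, 3, 0, 3, 3, 3, 3, 0, 2], [1, 2, 1, 3, 3, 1, 3, 1, 1, 3, 3, 1, 3, 1, 3, 0, 2, 1, 3, 3, 1, 3, 1, 3, 0, 2, 1, 3, 3, 1, 3, 1, 1, 3, 3, 1, 3, 1, 1, 3, 3, 1, 3, 1, 1, 3, 3, 1, 3, 1, 3, 0, 2, 0, 2, 0, 2, 2, 0, 3])],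
   .edge 0 2 [3] [(2, [], [], [])],
   .edge 0 2 [2] [(5, [], [0, 3, 3, 0, 2], [3, 3, 0, 3, 3, 0, 3, 0, 2, 2, 2, 2, 1, 3, 3, 1, 3, 1, 3, 1, 2, 1, 3, 3, 1, 3, 1, 1, 3, 3, 1, 3, 1, 3, 0, 2, 1, 3, 3, 1, 3, 1, 3, 0])],
   .edge 5 2 [3, 1, 3] [(4, [], [0, 3, 3, 3, 3, 3, 0, 2, 2, 2, 0, 3, 3, 3, 0], [0, 0, 2, 0, 2, 2, 0, 3, 0, 2, 0, 2, 0, 2, 2, 0, 3, 0, 2, 0, 2, 0, 2, 2, 0, 0, 2, 0, 2, 2, 0, 0, 2, 0, 2, 2, 0, 0, 2, 0, 2, 2, 0, 0, 2, 0, 2, 2, 0, 0, 2, 0, 2, 2, 0, 3, 0, 2, 0, 2, 0, 2, 2, 0, 3, 0, 2, 0, 2, 0, 2, 2, 0, 3]), (1, [6, 4, 6, 6], [3, 0, 2, 2, 2, 2, 0, 2, 2, 0, 2, 2], [2, 1, 3, 3, 1, 3, 1, 3, 0, 2, 0, 2, 0, 2, 2, 0, 0, 2, 0, 2, 2, 0, 0, 2, 0, 2, 2, 0, 0, 2, 0, 2, 2, 0, 3, 0, 2, 0, 2, 0, 2, 2, 0, 0, 2, 0, 2, 2, 0, 3, 0, 2, 0, 2, 0, 2, 2, 0, 0,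 2, 0, 2, 2, 0, 3]), (2, [13, 14], [0, 2, 2, 0, 2, 0], [0, 2, 0, 2, 0, 2, 2, 0, 0, 2, 0, 2, 2, 0, 3, 0, 2, 0, 2, 0, 2, 2, 0, 3, 0])],
   .edge 0 3 [2] [(8, [], [2, 2, 0, 3, 0, 3, 0, 3, 3, 3, 0], [3, 3, 0, 3, 3, 0, 3, 0, 2, 2, 2, 0, 2, 1, 3, 3, 1, 3, 1, 1, 3, 3, 1, 3, 1, 1, 3, 3, 1, 3, 1, 3, 0, 2, 0, 2, 0, 2, 2, 0, 3, 0, 2, 0, 2, 0, 2, 2, 0, 0, 2, 0, 2, 2, 0, 0, 2, 0, 2, 2, 0, 0, 2, 0, 2, 2, 0, 3, 0, 2, 0, 2, 0, 2, 2, 0, 3])],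
   .stab 7 [3, 0, 3, 3, 3, 3, 3, 0, 3, 3, 3, 0, 2, 2, 0] [6, 4, 7],
   .stab 9 [2, 0, 2, 2, 2, 2, 2, 2, 0, 3, 3, 0, 3] [20, 13, 14, 10, 12, 15, 12, 21],
   .edge 4 1 [3, 1, 3] [(1, [7, 4, 7, 7], [0, 3, 3, 3, 3, 0, 2, 0], [0, 2, 1, 3, 3, 1, 3, 1, 1, 3, 3, 1, 3, 1, 1, 3, 3, 1, 3, 1, 1, 3, 3, 1, 3, 1, 3, 0, 2, 0, 2, 0, 2, 2, 0, 3, 0]), (4, [10, 20], [1, 2, 2, 2, 2, 2, 0, 2], [2, 2, 2, 2, 0, 2, 0, 2, 2, 0, 0, 2, 0, 2, 2, 0, 3, 0, 2, 0, 2, 0, 2, 2, 0, 0, 2, 0, 2, 2, 0, 0, 2, 0, 2, 2, 0, 0, 2, 0, 2, 2, 0, 0, 2, 0, 2, 2, 0, 3, 0, 2, 0, 2, 0, 2, 2, 0, 3]), (1, [7, 7, 7, 4, 7, 4], [3, 3, 3, 1, 2, 2, 2, 2, 2, 0, 2], [2, 1, 3, 3, 1, 3, 1, 1, 3, 3, 1, 3, 1, 1, 3, 3, 1, 3, 1, 3, 0, 2, 0, 2, 0, 2, 2, 0, 0, 2, 0, 2, 2, 0, 0, 2, 0, 2, 2, 0, 0, 2, 0, 2, 2, 0,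 0, 2, 0, 2, 2, 0, 3, 0, 2, 0, 2, 0, 2, 2, 0, 3])],
   .close 5 2 [3, 1] [(5, [], [3, 0, 2, 2, 0, 2, 2, 2, 2, 2, 0, 2, 2, 0], [2, 0, 2, 0, 2, 0, 3, 0, 3, 0, 2, 0, 2, 2, 2, 0, 2, 0, 2, 2, 0, 3, 0, 2, 0, 2, 0, 2, 2, 0, 0, 2, 0, 2, 2, 0, 0, 2, 0, 2, 2, 0, 3]), (1, [7, 4, 6, 6, 4], [0, 3, 3, 3, 0, 3, 3, 3, 3, 0, 2], [1, 2, 1, 3, 3, 1, 3, 1, 1, 3, 3, 1, 3, 1, 1, 3, 3, 1, 3, 1, 3, 0, 2, 1, 3, 3, 1, 3, 1, 1, 3, 3, 1, 3, 1, 1, 3, 3, 1, 3, 1, 1, 3, 3, 1, 3, 1, 3, 0, 2, 0, 2, 0, 2, 2, 0, 3]), (4, [10, 20], [2, 2, 2, 1, 2, 2, 0, 2, 0], [2, 0, 3, 0, 3, 0, 2, 0, 2, 2, 2, 1, 3, 3, 1, 3, 1, 1, 3, 3, 1, 3, 1, 1, 3, 3, 1, 3, 1, 1, 3, 3, 1, 3, 1, 3, 1, 2, 1, 3, 3, 1, 3, 1, 1, 3, 3, 1, 3, 1, 3, 0, 2, 1, 3, 3, 1, 3, 1, 1, 3, 3, 1, 3, 1, 1, 3, 3, 1, 3, 1, 3, 0, 2,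 0, 2, 0, 2, 2, 0, 3])] (1, [7, 7, 7, 4, 7, 4], [3, 3, 3, 3, 1, 2, 2, 2, 0, 3, 3, 0], [2, 1, 3, 3, 1, 3, 1, 1, 3, 3, 1, 3, 1, 1, 3, 3, 1, 3, 1, 1, 3, 3, 1, 3, 1, 3, 1, 2, 0, 2, 0, 2, 2, 0, 0, 2, 0, 2, 2, 0, 0, 2, 0, 2, 2, 0, 3, 0, 2, 1, 3, 3, 1, 3, 1, 1, 3, 3, 1, 3, 1, 3, 0]),
   .close 0 3 [2] [(8, [], [2, 2, 0, 3, 0, 3, 0, 3, 3, 3, 0], [3, 3, 0, 3, 3, 0, 3, 0, 2, 2, 2, 0, 2, 1, 3, 3, 1, 3, 1, 1, 3, 3, 1, 3, 1, 1, 3, 3, 1, 3, 1, 3, 0, 2, 0, 2, 0, 2, 2, 0, 3, 0, 2, 0, 2, 0, 2, 2, 0, 0, 2, 0, 2, 2, 0, 0, 2, 0, 2, 2, 0, 0, 2, 0, 2, 2, 0, 3, 0, 2, 0, 2, 0, 2, 2, 0, 3])] (2, [25, 15, 13], [3, 3, 3, 3, 0, 3, 3, 3], [2, 1, 3, 3, 1, 3, 1, 1, 3, 3, 1, 3, 1, 1, 3, 3, 1, 3, 1, 1, 3, 3, 1, 3, 1, 3, 0, 2, 1, 3, 3, 1, 3, 1, 1, 3, 3, 1, 3, 1, 1, 3, 3, 1, 3,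 1, 3])]

/-- The images of the 50 cosets under `x`, `x⁻¹`, `y`, `y⁻¹`, in lanes of 6 bits. -/
def tab50 : List ℕ :=
  [0xc6fc2eaaca6dae69287a77da65d8e581552285245071b3985d62d324c3c63441ca0880450c0, 0xc6fc2eaaca6dae69287a77da65d8e581552285245071b3985d62d324c3c63441ca0880450c0, 0xc31b6aaeebe8b27a6085c79b99895792389355f7563da64d48e50a44840c18b1420c91c0101, 0xc31aecbe9b6e9eaa217dd71b9666235e48944e079664f69134b55048a20e10c0c91c1146002]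

/-- The blocks of four points matching the 50 cosets. -/
def blocks50 : List (List ℕ) :=
  [[3, 5, 6, 9],
   [7, 10, 12, 22],
   [8, 11, 13, 23],
   [14, 15, 24, 25],
   [16, 26, 32, 53],
   [18, 19, 28, 29],
   [20, 30, 34, 55],
   [36, 38, 57, 59],
   [40, 41, 61, 62],
   [42, 63, 74, 115],
   [48, 49, 69, 70],
   [85, 88, 126, 129],
   [86, 89, 127, 130],
   [91, 92, 132, 133],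
   [104, 106, 145, 147],
   [178, 179, 270, 271],
   [180, 185, 272, 277],
   [190, 193, 282, 285],
   [191, 194, 283, 286],
   [226, 227, 318, 319],
   [370, 373, 517, 520],
   [371, 374, 518, 521],
   [376, 377, 523, 524],
   [394, 395, 537, 538],
   [397, 398, 540, 541],
   [460, 463, 597, 600],
   [461, 464, 598, 601],
   [661, 662, 868, 869],
   [664, 665, 871, 872],
   [700, 703, 900, 903],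
   [701, 704, 901, 904],
   [707, 710, 907, 910],
   [708, 711, 908, 911],
   [803, 804, 995, 996],
   [805, 806, 997, 998],
   [1062, 1063, 1098, 1102],
   [789, 790, 983, 984],
   [1096, 1097, 1107, 1110],
   [655, 656, 863, 864],
   [454, 458, 591, 595],
   [363, 369, 512, 516],
   [220, 224, 312, 316],
   [173, 177, 265, 269],
   [452, 453, 589, 590],
   [101, 142, 162, 254],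
   [358, 359, 507, 508],
   [110, 151, 165, 257],
   [428, 432, 566, 570],
   [386, 393, 531, 536],
   [421, 559, 632, 692]]

/-- The points of class 1. -/
def lowCover1 : List (ℕ × ℕ × Option ℕ) :=
  [(1, 1, none), (0, 3, none), (7, 7, none), (3, 1, some 4), (20, 1, some 6), (4, 1, some 7), (29, 7, some 6), (12, 7, some 7), (5, 3, some 6), (22, 3, some 7), (27, 20, some 4), (38, 20, some 6), (8, 4, some 4), (17, 4, some 7), (32, 29, some 4), (2, 5, some 4), (11, 5, some 6), (16, 22, some 4), (39, 27, some 6), (26, 27, some 7), (40, 38, some 4), (34, 8, some 6), (23, 17, some 4), (49, 32, some 6), (44, 32, some 7), (15, 11, some 4), (24, 16, some 7), (36, 39, some 4), (6, 39, some 6), (48, 40, some 6), (45, 40, some 7), (28, 23, some 6), (41,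 23, some 7), (46, 49, some 6), (21, 15, some 6), (43, 15, some 7), (18, 24, some 4), (31, 24, some 7), (33, 36, some 6), (42, 36, some 7), (10, 6, some 4), (30, 6, some 6), (47, 48, some 4), (13, 18, some 7), (35, 31, some 4), (37, 31, some 7), (25, 33, some 4), (19, 10, some 7), (9, 13, some 4), (14, 25, some 7)]

/-- The points of class 2. -/
def lowCover2 : List (ℕ × ℕ × Option ℕ) :=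
  [(1, 2, none), (0, 4, none), (2, 5, none), (9, 1, some 10), (22, 1, some 11), (11, 1, some 13), (45, 1, some 14), (28, 1, some 15), (17, 1, some 20), (42, 1, some 24), (24, 1, some 25), (31, 0, some 20), (41, 0, some 24), (3, 0, some 25), (44, 2, some 24), (14, 9, some 10), (47, 9, some 14), (34, 9, some 15), (30, 9, some 20), (39, 9, some 24), (37, 9, some 25), (15, 22, some 15), (26, 22, some 24), (18, 11, some 14), (6, 11, some 15), (16, 11, some 20), (25, 11, some 24), (21, 11, some 25), (43, 45, some 12), (13, 45, some 13), (36, 45, some 20), (49, 45, some 24), (8, 28, some 20), (40, 42, some 10), (33, 42, some 24), (4, 24, some 15), (32, 24, some 20), (20, 31, some 10), (35, 31, some 11), (27, 31, some 13), (48, 31, some 24), (38, 31,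 some 25), (23, 41, some 10), (5, 41, some 24), (10, 3, some 11), (29, 14, some 20), (19, 30, some 13), (46, 37, some 20), (12, 15, some 25), (7, 6, some 25)]

/-- The points of class 3. -/
def lowCover3 : List (ℕ × ℕ × Option ℕ) :=
  [(0, 6, none), (20, 0, some 22), (31, 0, some 23), (22, 0, some 26), (2, 0, some 27), (27, 20, some 18), (35, 20, some 22), (16, 20, some 26), (45, 20, some 27), (4, 31, some 26), (8, 22, some 18), (39, 22, some 22), (15, 22, some 23), (38, 22, some 26), (18, 2, some 27), (46, 27, some 27), (10, 35, some 26), (28, 16, some 22), (47, 16, some 26), (42, 45, some 18), (13, 45, some 19), (30, 45, some 22), (12, 45, some 23), (25, 45, some 27), (29, 4, some 22), (9, 4, some 23), (33, 8, some 23), (36, 8, some 26), (1,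 39, some 27), (34, 15, some 19), (26, 15, some 27), (3, 38, some 18), (48, 38, some 19), (21, 18, some 18), (11, 18, some 23), (32, 18, some 27), (14, 46, some 23), (41, 46, some 27), (7, 10, some 26), (24, 28, some 18), (37, 28, some 26), (17, 47, some 18), (40, 47, some 19), (5, 47, some 26), (49, 13, some 27), (6, 30, some 27), (23, 12, some 27), (19, 25, some 18), (44, 3, some 26), (43, 41, some 27)]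

end Cfsg.Agent.HNPresented
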