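import Cfsg.Agent.Lib.HNPresented.Action

/-!
# The lower bound for the index of `⟨x, y, z⟩` in HN

* `phi` : HN permutes the cosets of the nine class subgroups
* `phi_transitive` : transitively
* `natCard_Om` : there are 1539000 of them
* `hn_index` : the index
-/

set_option autoImplicit false
set_option maxRecDepth 100000
set_option Elab.async false

open Cfsg

namespace Cfsg.Agent.HNPresented

open Cfsg.Agent.StabCert

/-- Five steps. -/
def progT5 : List (Option (List ℕ)) := [none, none, none, none, none]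

/-- The relation with `x`. -/
def progX : List (Option (List ℕ)) := [none, none, some [0], none, some [1]]

/-- The relation with `z`. -/
def progZ : List (Option (List ℕ)) := [none, some [4], none, some [4], none, some [4]]

/-- Programs at the selected equations. -/
def repsOK (P : List (Option (List ℕ))) (D : List (ℕ × List LStep × List ℕ)) : Bool :=
  (List.range topFacts.length).all fun n =>
    let i := (topCfg.fact n).1
    !sel i n || D.any fun d => d.1 == n && returnsOK P i (topCfg.fact n).2.1 d.2.1 d.2.2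

theorem t5_ok : repsOK progT5 t5Data = true := by decide +kernel
theorem x_ok : repsOK progX xData = true := by decide +kernel

theorem class_lt : (topFacts.all fun f => Nat.blt f.1 9) = true := by decide +kernel

theorem reps_spec {P : List (Option (List ℕ))} {D : List (ℕ × List LStep × List ℕ)} (h : repsOK P D = true)
    {i n : ℕ} (hi : i < 9) (hn : sel i n = true) :
    runP P (om i (eb (topCfg.fact n).2.1)) = om i (eb (topCfg.fact n).2.1) := by
  obtain ⟨hn', hni, -⟩ := sel_spec hn
  simp only [repsOK, List.all_eq_true, List.mem_range, Bool.or_eq_true, Bool.not_eq_true',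
    List.any_eq_true, Bool.and_eq_true, beq_iff_eq] at h
  obtain ⟨d, -, -, hd⟩ := (h n hn').resolve_left (by simp [hni, hn])
  rw [hni] at hd
  exact returns_spec hi hd

theorem tMap_five (X : Om) : tMap (tMap (tMap (tMap (tMap X)))) = X := by
  obtain ⟨i, n, hi, hn, c, hc, rfl⟩ := exists_rep X
  simp only [tMap_comm hc]
  exact congrArg (c • ·) (reps_spec t5_ok hi hn)

/-- The permutation of `t`. -/
noncomputable def tPerm : Equiv.Perm Om where
  toFun := tMap
  invFun X := tMap (tMap (tMap (tMap X)))
  left_inv := tMap_five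
  right_inv := tMap_five

theorem tMap_x (X : Om) : (eb [0])⁻¹ • tMap (eb [0] • tMap (tMap X)) = X := by
  obtain ⟨i, n, hi, hn, c, hc, rfl⟩ := exists_rep X
  have h := reps_spec x_ok hi hn
  simp only [progX, runP, opL] at h
  have hx : (eb [0] * c * (eb [0])⁻¹) • pt 0 = pt 0 := by
    obtain ⟨k, hk, rfl⟩ := exists_fixGroup hc
    have e := fixGroup_fix (x_conj_fixGroup hk).1
    rw [show eb [0] = rb kx by simp [eb, wordEl, el], ← map_inv, ← map_mul, ← map_mul]
    exact e
  rw [tMap_comm hc, tMap_comm hc, ← mul_smul (eb [0]) c,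
    show eb [0] * c = eb [0] * c * (eb [0])⁻¹ * eb [0] by group, mul_smul _ (eb [0]), tMap_comm hx, ← mul_smul,
    show (eb [0])⁻¹ * (eb [0] * c * (eb [0])⁻¹) = c * (eb [0])⁻¹ by group, mul_smul, ← eb_winv]
  exact congrArg (c • ·) h

/-- The points reached by a tree. -/
def treeReach (i n : ℕ) : List (ℕ × ℕ × List ℕ) → ℕ → Option ℕ
  | [], seen => some seen
  | (v, u, e) :: r, seen =>
      if seen.testBit u && lok i e && ev 11 tab (lp e) (pN n) == pN n && Nat.blt u 1408 &&
        ev 11 tab ((topCfg.fact n).2.1 ++ lp e ++ winv (topCfg.fact n).2.1) u == v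
      then treeReach i n r (seen ||| 1 <<< v) else none

/-- The checks for the relation with `z` at one equation. -/
def cOK1 (i n : ℕ) (roots : List (ℕ × List ℕ × List LStep × List ℕ)) (tree : List (ℕ × ℕ × List ℕ)) : Bool :=
  (roots.all fun r => Nat.blt r.1 1408 && lok 1 r.2.1 && ev 11 tab (lp r.2.1) r.1 == ev 11 tab [4] 0 &&
    returnsOK progZ i (lp r.2.1 ++ (topCfg.fact n).2.1) r.2.2.1 r.2.2.2) &&
  match treeReach i n tree (maskL (roots.map Prod.fst)) with
  | some seen => (List.range 1408).all fun q => own 1 q != zOwn || seen.testBit q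
  | none => false

/-- The checks for the relation with `z`. -/
def cOK (i : ℕ) : Bool :=
  (List.range topFacts.length).all fun n => !sel i n || cData.any fun d => d.1 == n && cOK1 i n d.2.1 d.2.2

theorem c0 : cOK 0 = true := by decide +kernel
theorem c1 : cOK 1 = true := by decide +kernel
theorem c2 : cOK 2 = true := by decide +kernel
theorem c3 : cOK 3 = true := by decide +kernel
theorem c4 : cOK 4 = true := by decide +kernel
theorem c5 : cOK 5 = true := by decide +kernel
theorem c6 : cOK 6 = true := by decide +kernel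
theorem c7 : cOK 7 = true := by decide +kernel
theorem c8 : cOK 8 = true := by decide +kernel

theorem c_ok {i : ℕ} (hi : i < 9) : cOK i = true := by
  interval_cases i
  exacts [c0, c1, c2, c3, c4, c5, c6, c7, c8]

theorem zOwn_z : own 1 (ev 11 tab [4] 0) = zOwn := by decide +kernel

theorem treeReach_spec {i n : ℕ} (hn : n < topFacts.length) {R : List ℕ} :
    ∀ (tree : List (ℕ × ℕ × List ℕ)) (seen seen' : ℕ), treeReach i n tree seen = some seen' →
      (∀ v, seen.testBit v = true → v < 1408 ∧ ∃ r ∈ R, ∃ e ∈ cls i, e • pt (pN n) = pt (pN n) ∧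
        (eb (topCfg.fact n).2.1 * e * (eb (topCfg.fact n).2.1)⁻¹) • pt r = pt v) →
      ∀ v, seen'.testBit v = true → v < 1408 ∧ ∃ r ∈ R, ∃ e ∈ cls i, e • pt (pN n) = pt (pN n) ∧
        (eb (topCfg.fact n).2.1 * e * (eb (topCfg.fact n).2.1)⁻¹) • pt r = pt v
  | [], seen, seen', h, hh => by
    simp only [treeReach, Option.some.injEq] at h
    exact h ▸ hh
  | (v0, u, e0) :: r, seen, seen', h, hh => by
    simp only [treeReach] at h
    split at h
    case isFalse => simp at h
    case isTrue hc =>
      simp only [Bool.and_eq_true, beq_iff_eq, Nat.blt_eq] at hc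
      obtain ⟨⟨⟨⟨hu, hl⟩, hf⟩, hu'⟩, hev⟩ := hc
      refine treeReach_spec hn r _ seen' h fun v hv => ?_
      rw [Nat.testBit_or, Bool.or_eq_true, Nat.one_shiftLeft, Nat.testBit_two_pow, decide_eq_true_eq] at hv
      rcases hv with hv | rfl
      · exact hh v hv
      have hw := okW_append (okW_append (fact_okW hn).1 (lexp_okW hl)) (okW_winv (fact_okW hn).1)
      obtain ⟨-, r', hr', e, he, hfix, hr⟩ := hh u hu
      refine ⟨hev ▸ ev_lt hw hu', r', hr', eb (lp e0) * e, mul_mem (lexp_mem hl) he, ?_, ?_⟩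
      · rw [mul_smul, hfix, eb_smul (lexp_okW hl) (pN_lt hn), hf]
      · have h2 := eb_smul hw hu'
        rw [hev, eb_append, eb_append, eb_winv, ← hr, ← mul_smul] at h2
        rw [← h2]
        congr 1
        group

theorem tMap_z (X : Om) : eb [4] • tMap (eb [4] • tMap (eb [4] • tMap X)) = X := by
  obtain ⟨i, n, hi, hn, c, hc, rfl⟩ := exists_rep X
  obtain ⟨hn', -, -⟩ := sel_spec hn
  have h := c_ok hi
  simp only [cOK, List.all_eq_true, List.mem_range, Bool.or_eq_true, Bool.not_eq_true',
    List.any_eq_true, Bool.and_eq_true, beq_iff_eq] at h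
  obtain ⟨⟨d1, roots, tree⟩, -, -, hd⟩ := (h n hn').resolve_left (by simp [hn])
  simp only [cOK1, Bool.and_eq_true, List.all_eq_true, beq_iff_eq, Nat.blt_eq] at hd
  obtain ⟨hroots, hd⟩ := hd
  have hzz : eb [4] • pt 0 = pt (ev 11 tab [4] 0) := eb_smul (by decide) (show 0 < 1408 by omega)
  have hz0 : ev 11 tab [4] 0 < 1408 := ev_lt (by decide) (show 0 < 1408 by omega)
  split at hd
  case h_2 => simp at hd
  case h_1 seen hseen =>
    simp only [List.all_eq_true, List.mem_range, Bool.or_eq_true, bne_iff_ne] at hd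
    set ζ := c⁻¹ • eb [4] • pt 0
    have hown : own 1 ζ.val = zOwn := by
      rw [own_smul (by omega) (inv_mem ((mem_cls_one c).2 hc)), hzz, val_pt hz0, zOwn_z]
    have hbit := (hd ζ.val ζ.isLt).resolve_left (fun e => e hown)
    obtain ⟨-, r, hr, e, he, hfix, hre⟩ := treeReach_spec hn' (R := roots.map Prod.fst) tree _ seen hseen
      (fun v hv => by
        rw [testBit_maskL] at hv
        obtain ⟨⟨v', rest⟩, hv', rfl⟩ := List.mem_map.1 hv
        exact ⟨(hroots _ hv').1.1.1, v', hv, 1, one_mem _, one_smul _ _, by simp⟩) ζ.val hbit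
    rw [pt_val] at hre
    obtain ⟨⟨r', w, st, l⟩, hmem, rfl⟩ := List.mem_map.1 hr
    obtain ⟨⟨⟨hr', hw⟩, hw'⟩, hret⟩ := hroots _ hmem
    set a := eb (topCfg.fact n).2.1
    set cr := eb (lp w)
    set u := c * (a * e * a⁻¹) * cr⁻¹
    have hcr : cr • pt r' = eb [4] • pt 0 := by rw [eb_smul (lexp_okW hw) hr', hw', hzz]
    have hea : (a * e * a⁻¹) • pt 0 = pt 0 := by
      rw [← eb_src hn', ← mul_smul, inv_mul_cancel_right, mul_smul, hfix]
    have hcr0 : cr • pt 0 = pt 0 := (mem_cls_one cr).1 (lexp_mem hw)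
    have hu0 : u • pt 0 = pt 0 := by
      rw [mul_smul, mul_smul, inv_smul_eq_iff.2 hcr0.symm, hea, hc]
    have hu1 : u • eb [4] • pt 0 = eb [4] • pt 0 := by
      conv_lhs => rw [← hcr]
      rw [← mul_smul, inv_mul_cancel_right, mul_smul, hre, smul_inv_smul]
    have hzu := z_comm hu0 hu1
    have hX : c • om i a = u • om i (eb (lp w ++ (topCfg.fact n).2.1)) := by
      rw [smul_om, smul_om, eb_append,
        show u * (cr * a) = c * a * e by simp only [u]; group, om_mul_right hi _ he]
    rw [hX]
    have hcomm : ∀ Y, eb [4] • tMap (u • Y) = u • (eb [4] • tMap Y) := fun Y => by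
      rw [tMap_comm hu0, ← mul_smul, hzu, mul_smul]
    rw [hcomm, hcomm, hcomm]
    have hrun := returns_spec hi hret
    simp only [progZ, runP, opL] at hrun
    exact congrArg (u • ·) hrun

/-- The images of the generators. -/
noncomputable def phiGen : Spor.HN.Gen → Equiv.Perm Om
  | .x => MulAction.toPermHom Kb Om (rb kx)
  | .y => MulAction.toPermHom Kb Om (rb ky)
  | .z => MulAction.toPermHom Kb Om (rb kz)
  | .t => tPerm

theorem phiGen_rels3 {r : FreeGroup G3} (hr : r ∈ rels3) :
    FreeGroup.lift phiGen (FreeGroup.map incl r) = 1 := by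
  have h : (FreeGroup.lift phiGen).comp (FreeGroup.map incl) =
      ((MulAction.toPermHom Kb Om).comp rb).comp (PresentedGroup.mk {r | r ∈ rels3}) :=
    FreeGroup.ext_hom _ _ fun a => by cases a <;> rfl
  have h' := DFunLike.congr_fun h r
  simp only [MonoidHom.coe_comp, Function.comp_apply] at h'
  rw [h', rel_one hr, map_one, map_one]

theorem extra_cases : ∀ r ∈ Spor.HN.extra, r ∈ rels3.map (FreeGroup.map incl) ∨
    r ∈ [Spor.HN.t ^ 5, (Spor.HN.x⁻¹ * Spor.HN.t * Spor.HN.x) * (Spor.HN.t ^ 2),
      Spor.HN.t⁻¹ * Spor.HN.y⁻¹ * Spor.HN.t * Spor.HN.y, (Spor.HN.z * Spor.HN.t) ^ 3] := by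
  decide +kernel

theorem phiGen_ok : ∀ r ∈ hnRels, FreeGroup.lift phiGen r = 1 := by
  rintro r (⟨a, ha, -⟩ | hr)
  · simp [Spor.coxNodes, Spor.HN.edges] at ha
  rcases extra_cases r hr with h | h
  · obtain ⟨r', hr', rfl⟩ := List.mem_map.1 h
    exact phiGen_rels3 hr'
  have e0 : rb kx = eb [0] := by simp [eb, wordEl, el]
  have e2 : rb ky = eb [2] := by simp [eb, wordEl, el]
  have e4 : rb kz = eb [4] := by simp [eb, wordEl, el]
  simp only [List.mem_cons, List.not_mem_nil, or_false] at h
  rcases h with rfl | rfl | rfl | rfl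
  · simp only [map_pow, FreeGroup.lift_apply_of]
    exact Equiv.ext tMap_five
  · simp only [map_mul, map_inv, map_pow, FreeGroup.lift_apply_of]
    refine Equiv.ext fun X => ?_
    show (MulAction.toPerm (rb kx)).symm (tMap (rb kx • tMap (tMap X))) = X
    rw [MulAction.toPerm_symm_apply, e0]
    exact tMap_x X
  · simp only [map_mul, map_inv, FreeGroup.lift_apply_of]
    refine Equiv.ext fun X => ?_
    show tPerm.symm ((MulAction.toPerm (rb ky)).symm (tMap (rb ky • X))) = X
    have hy : eb [2] • pt 0 = pt 0 := by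
      rw [eb_smul (by decide) (show 0 < 1408 by omega), show ev 11 tab [2] 0 = 0 by decide +kernel]
    rw [MulAction.toPerm_symm_apply, e2, tMap_comm hy, inv_smul_smul]
    exact tPerm.symm_apply_apply X
  · simp only [map_mul, map_pow, FreeGroup.lift_apply_of]
    refine Equiv.ext fun X => ?_
    show rb kz • tMap (rb kz • tMap (rb kz • tMap X)) = X
    rw [e4]
    exact tMap_z X

/-- HN acting on the cosets. -/
noncomputable def phi : Spor.HN →* Equiv.Perm Om := PresentedGroup.toGroup phiGen_ok

theorem phi_toHN : ∀ k : K, phi (toHN k) = MulAction.toPermHom Kb Om (rb k) := by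
  have h : phi.comp toHN = (MulAction.toPermHom Kb Om).comp rb :=
    PresentedGroup.ext fun a => by
      show phi (toHN (PresentedGroup.of a)) = _
      rw [toHN_of]
      refine (PresentedGroup.toGroup.of phiGen_ok).trans ?_
      cases a <;> rfl
  exact DFunLike.congr_fun h

/-- The orbit of the base. -/
def orbPhi : Set Om := {Y | ∃ g : Spor.HN, phi g (om 0 1) = Y}

/-- Programs reaching the nine classes. -/
def defsReach : Bool :=
  (List.range 8).all fun j =>
    let f := topCfg.fact j
    let d := defData.getD j ([], [])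
    Nat.ble f.1 j && Nat.blt f.1 9 &&
      follow' [none] f.1 f.2.1 d.1 fun j' e => j' == j + 1 && lok (j + 1) d.2 && topCfg.eqB e (lp d.2)

theorem defs_reach : defsReach = true := by decide +kernel

theorem orbPhi_eq_univ (X : Om) : X ∈ orbPhi := by
  have h := defs_reach
  simp only [defsReach, List.all_eq_true, List.mem_range, Bool.and_eq_true, Nat.ble_eq, Nat.blt_eq] at h
  have hk : ∀ (k : Kb) Y, Y ∈ orbPhi → k • Y ∈ orbPhi := by
    rintro k Y ⟨g, rfl⟩
    obtain ⟨_, k, rfl⟩ := k
    exact ⟨toHN k * g, by rw [map_mul, phi_toHN]; rfl⟩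
  have key : ∀ j, j < 9 → ∀ k, om j k ∈ orbPhi := by
    intro j
    induction j using Nat.strong_induction_on with
    | _ j ih =>
      intro hj k
      suffices h1 : om j 1 ∈ orbPhi by
        have := hk k _ h1
        rwa [smul_om, mul_one] at this
      rcases j with _ | j
      · exact ⟨1, by rw [map_one]; rfl⟩
      obtain ⟨⟨h1, h2⟩, h3⟩ := h j (by omega)
      obtain ⟨j', e, he, hrun⟩ := follow'_spec _ _ _ _ _ h2 h3
      simp only [Bool.and_eq_true, beq_iff_eq] at he
      obtain ⟨⟨rfl, hl⟩, heq⟩ := he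
      obtain ⟨g, hg⟩ := ih (topCfg.fact j).1 (by omega) h2 (eb (topCfg.fact j).2.1)
      refine ⟨PresentedGroup.of Spor.HN.Gen.t * g, ?_⟩
      rw [map_mul, Equiv.Perm.mul_apply, hg,
        show phi (PresentedGroup.of Spor.HN.Gen.t) = tPerm from PresentedGroup.toGroup.of phiGen_ok]
      refine hrun.trans ?_
      rw [eb_eq heq]
      exact (om_eq (by omega) (by rw [inv_one, one_mul]; exact lexp_mem hl)).symm
  obtain ⟨i, hi, g, rfl⟩ := exists_om X
  exact key i hi g

noncomputable instance : Finite Om := inferInstanceAs (Finite (Σ i : Fin 9, Kb ⧸ cls i.val))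

theorem natCard_Om : Nat.card Om = 1539000 := by
  show Nat.card (Σ i : Fin 9, Kb ⧸ cls i.val) = 1539000
  rw [Nat.card_sigma]
  have h : ∀ i : Fin 9, Nat.card (Kb ⧸ cls i.val) = 177408000 / clsOrd' i.val := fun i => by
    have e := Subgroup.card_eq_card_quotient_mul_card_subgroup (cls i.val)
    rw [natCard_Kb, natCard_cls i.isLt] at e
    rw [e, Nat.mul_div_cancel]
    rw [← natCard_cls i.isLt]
    exact Nat.card_pos
  simp only [h]
  decide +kernel

/-- The map of the nine classes onto the cosets of `⟨x, y, z⟩`. -/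
noncomputable def toCoset (X : Om) : Spor.HN ⧸ hnH :=
  toHN (Function.surjInv rho.rangeRestrict_surjective X.2.out) • topPoint' X.1.val

theorem cls_fix {i : ℕ} (hi : i < 9) {h : Kb} (hh : h ∈ cls i) :
    ∀ k : K, rb k = h → toHN k • topPoint' i = topPoint' i := by
  have hker : ∀ k k' : K, rb k = rb k' → toHN k • topPoint' i = toHN k' • topPoint' i := fun k k' e => by
    have h1 : rho (k⁻¹ * k') = 1 := by
      rw [map_mul, map_inv, inv_mul_eq_one]
      exact congrArg Subtype.val e
    have h2 := ker_fix_point i hi _ h1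
    rw [topPoint'_eq hi]
    conv_lhs => rw [← h2, ← mul_smul, ← map_mul, mul_inv_cancel_left]
  induction hh using Subgroup.closure_induction with
  | mem h hh =>
    intro k hk
    obtain ⟨n, hn, hni, rfl⟩ := hh
    rw [hker k _ hk, ← wordEl_elH, ← hni]
    exact top_holds.2 n hn
  | one => intro k hk; rw [hker k 1 (by rw [hk, map_one]), map_one, one_smul]
  | mul a b _ _ ha hb =>
    intro k hk
    obtain ⟨a', rfl⟩ := rho.rangeRestrict_surjective a
    obtain ⟨b', rfl⟩ := rho.rangeRestrict_surjective b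
    rw [hker k (a' * b') (by rw [hk, map_mul]), map_mul, mul_smul, hb b' rfl, ha a' rfl]
  | inv a _ ha =>
    intro k hk
    obtain ⟨a', rfl⟩ := rho.rangeRestrict_surjective a
    rw [hker k a'⁻¹ (by rw [hk, map_inv]), map_inv, inv_smul_eq_iff, ha a' rfl]

theorem toCoset_surjective : Function.Surjective toCoset := by
  intro q
  obtain ⟨v, -, i, hi, rfl⟩ := topCosets_eq_univ q
  refine ⟨om i (eb v), ?_⟩
  have hi' : (Fin.ofNat 9 i).val = i := Nat.mod_eq_of_lt hi
  obtain ⟨h, hh⟩ := QuotientGroup.mk_out_eq_mul (cls (Fin.ofNat 9 i).val) (eb v)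
  have hout : (om i (eb v)).2.out = eb v * h := hh
  have hmem : (h : Kb) ∈ cls i := by
    have := h.2
    simpa only [hi'] using this
  show toHN (Function.surjInv rho.rangeRestrict_surjective (om i (eb v)).2.out) • topPoint' (Fin.ofNat 9 i).val = _
  rw [hi', hout]
  generalize hk : Function.surjInv rho.rangeRestrict_surjective (eb v * (h : Kb)) = k
  have hk' : rb k = eb v * h := hk ▸ Function.surjInv_eq _ _
  have e := cls_fix hi hmem ((wordEl el v)⁻¹ * k) (by
    rw [map_mul, map_inv, hk']; exact inv_mul_cancel_left _ _)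
  rw [wordEl_elH]
  conv_rhs => rw [← e]
  rw [map_mul, map_inv, mul_smul, smul_inv_smul]

theorem hnH_fix (g : Spor.HN) (hg : g ∈ hnH) : phi g (om 0 1) = om 0 1 := by
  obtain ⟨k, rfl⟩ := hg
  rw [phi_toHN]
  show rb k • om 0 1 = om 0 1
  rw [smul_om, mul_one]
  exact om_eq (by omega) (by rw [cls_zero]; trivial) |>.symm

/-- The index of `⟨x, y, z⟩` in HN. -/
theorem hn_index : hnH.index = 1539000 := by
  have hfin : Finite (Spor.HN ⧸ hnH) := Finite.of_surjective toCoset toCoset_surjective
  have hle : hnH.index ≤ 1539000 := natCard_Om ▸ Nat.card_le_card_of_surjective toCoset toCoset_surjective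
  refine le_antisymm hle (natCard_Om ▸ Nat.card_le_card_of_surjective
    (fun q : Spor.HN ⧸ hnH => Quotient.liftOn' q (fun g => phi g (om 0 1)) fun a b hab => ?_) fun X => ?_)
  · rw [QuotientGroup.leftRel_apply] at hab
    have := hnH_fix _ hab
    rw [map_mul, Equiv.Perm.mul_apply, map_inv, Equiv.Perm.inv_def, Equiv.symm_apply_eq] at this
    exact this.symm
  · obtain ⟨g, hg⟩ := orbPhi_eq_univ X
    exact ⟨QuotientGroup.mk g, hg⟩

end Cfsg.Agent.HNPresented
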