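import Cfsg.Agent.Lib.HNPresented.Engine

/-!
# Stabilisers of the orbits of the classes

Generated data.
-/

set_option autoImplicit false
set_option maxRecDepth 100000
set_option Elab.async false

namespace Cfsg.Agent.HNPresented

open Cfsg.Agent.StabCert

/-- Elements of the stabilisers, level by level. -/
def stabData : List (ℕ × List (ℕ × List (List ℕ × List ℕ))) :=
  [(0, [(0, [([2], [6]), ([1, 2, 0], [8]), ([0, 2, 1], [8]), ([0, 0, 0, 0], [])])]),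
   (1, [(36, [([], []), ([7, 8, 8, 8, 6], [13, 10, 10, 12, 12, 11, 11, 13, 10, 10, 10]), ([7, 9, 6, 6, 9, 6, 8, 8, 6], [10, 10, 12, 12, 11, 11, 13, 10, 10, 10]), ([8, 6, 6, 9, 6, 6, 9, 7, 8, 6, 8, 8, 6], [13, 11, 11, 12, 12, 11, 11, 12, 11]), ([6, 8, 6, 6, 9, 9, 6, 6, 8, 8, 7], [10, 10, 13, 11, 11, 13, 11]), ([8, 8, 7, 9, 6, 8, 8, 6, 6, 6, 8, 6], [11, 11, 12, 12, 11, 11, 12, 11]), ([8, 8, 6, 8, 7, 9, 7, 8, 6, 6, 8, 7, 7], [12, 12, 11, 11, 12, 12, 10])]), (42, [([], []), ([7, 9, 6, 8], [12]), ([8, 6, 6, 8], [10, 12, 11, 11, 12, 12, 10, 10, 12, 10]), ([9, 7, 8, 6, 9, 7, 8, 6], [12, 12]), ([7, 9, 6, 8, 8, 6, 6, 8], [10, 12, 11, 11, 13, 10, 12, 12, 10, 10]), ([9, 7, 8, 6], [13])]), (82, [([], []), ([9, 7, 9, 7, 8, 6, 8, 6], [10, 10, 12, 12, 11, 11]), ([6, 8, 8, 6, 6, 8, 8, 6], [12, 11,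 11, 13, 10, 12, 11, 11, 13, 11]), ([7, 9, 9, 7, 7, 9, 7, 8, 7, 9, 6, 6], [13, 11, 11, 12, 12, 11, 11]), ([6, 6, 9, 9, 6, 6], [11, 11, 12])]), (91, [([], []), ([7, 9, 6, 6, 9, 6, 8, 8, 6, 6, 9, 6], [10, 10, 12, 12, 11, 11, 13, 10, 10]), ([9, 9, 6, 6, 9, 6, 8, 8, 7, 7, 8, 7], [13, 11, 11, 12, 12, 10, 10, 12]), ([8, 6, 8, 8, 7, 9, 6, 6, 6, 8], [11, 13, 10, 10, 10, 13, 11])]), (7, [([], []), ([7, 9, 7, 8, 7, 9, 6, 6], [13, 10, 10, 12, 11, 11, 12, 10, 10]), ([7, 7, 8, 6, 9, 6, 8, 6], [11, 11, 12, 12, 10, 10, 12, 11, 11])])]),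
   (2, [(36, [([], []), ([7, 8, 8, 8, 6], [48, 14, 14, 14, 48]), ([7, 9, 6, 6, 9, 6, 8, 8, 6], [16, 48, 14, 14, 14, 48]), ([8, 6, 6, 9, 6, 6, 9, 7, 8, 6, 8, 8, 6], [17, 15, 49, 49, 16, 15]), ([6, 8, 6, 6, 9, 9, 6, 6, 8, 8, 7], [48, 48, 17, 14, 14, 16]), ([8, 8, 7, 9, 6, 8, 8, 6, 6, 6, 8, 6], [15, 49, 49, 16, 15]), ([8, 8, 6, 8, 7, 9, 7, 8, 6, 6, 8, 7, 7], [14, 49, 49, 16, 16, 14])]), (42, [([], []), ([7, 9, 6, 8], [16]), ([8, 6, 6, 8], [14, 49, 17, 48, 48, 16, 48, 14]), ([9, 7, 8, 6, 9, 7, 8, 6], [16, 16]), ([7, 9, 6, 8, 8, 6, 6, 8], [15, 15, 49, 15, 17, 15, 48]), ([9, 7, 8, 6], [17])]), (82, [([], []), ([9, 7, 9, 7, 8, 6, 8, 6], [48, 48, 14, 14, 14]), ([6, 8, 8, 6, 6, 8, 8, 6], [15, 15, 16, 48, 48, 14, 16]), ([7, 9, 9, 7, 7, 9, 7, 8, 7, 9, 6, 6], [17, 15, 49, 49]), ([6, 6, 9, 9,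 6, 6], [15, 15, 16])]), (91, [([], []), ([7, 9, 6, 6, 9, 6, 8, 8, 6, 6, 9, 6], [49, 49, 16, 15, 48, 48]), ([9, 9, 6, 6, 9, 6, 8, 8, 7, 7, 8, 7], [17, 14, 14, 48, 48, 14, 16]), ([8, 6, 8, 8, 7, 9, 6, 6, 6, 8], [48, 15, 48, 48, 14, 48, 14])]), (7, [([], []), ([7, 9, 7, 8, 7, 9, 6, 6], [49, 14, 16, 15, 15, 49, 14]), ([7, 7, 8, 6, 9, 6, 8, 6], [17, 14, 48, 14, 14, 14, 48])])]),
   (3, [(3, [([], []), ([6, 6, 8, 8, 8, 7, 7], [46, 22, 47]), ([8, 8, 7, 9, 9, 7, 7, 9, 7], [46, 46, 18, 21]), ([6, 8, 7, 7, 8, 6, 6, 8, 8, 8, 7, 7], [18, 46, 22, 46]), ([6, 6, 9, 6, 8, 6, 6, 6, 8, 7, 9, 6], [21, 22, 20]), ([7, 8, 7, 9, 7, 7, 8, 6, 8, 6, 6], [20, 22])]), (14, [([], []), ([9, 6, 6, 6, 8], [18, 50, 50, 18]), ([8, 8, 6, 8, 8, 6, 9, 7, 7, 8, 7, 7], [46, 46]), ([8, 8, 7, 9, 6, 8, 8, 6, 6, 9], [18,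 22, 20, 18]), ([8, 7, 7, 9, 9, 7, 8, 6, 9, 9], [18, 21, 22, 18])]), (461, [([], []), ([9, 6, 6, 9, 7], [50, 50, 18]), ([7, 9, 7, 7, 8, 8, 6, 8, 6, 9, 6, 6, 8, 6], [51, 18, 50]), ([6, 8, 7, 7, 8], [18, 50, 50])]), (8, [([], []), ([8, 6, 9, 9, 6], [46, 22, 47, 22]), ([7, 8, 8, 7, 9], [50, 46, 50, 46])])]),
   (4, [(3, [([], []), ([9, 7, 7, 8, 8, 6, 6], [29, 26, 25]), ([6, 8, 6, 6, 6, 8, 6, 6], [28, 27, 29, 25]), ([8, 7, 9, 9, 7, 9, 6, 8, 6, 9, 7, 8, 8], [26, 26]), ([9, 7, 9, 6, 8, 8, 6, 6, 9, 7, 8, 6], [24, 29, 29, 25]), ([9, 7, 7, 8, 6, 6, 6, 9, 7], [28, 24, 28, 25]), ([7, 8, 8, 6, 9, 9, 7, 8, 6, 9, 7, 7, 8, 6], [29, 24, 26]), ([8, 6, 9, 9, 7, 8, 8, 6, 6, 9, 7, 8], [28, 26, 29, 25]), ([9, 7, 7, 8, 7, 7, 8, 6, 6, 9, 6, 8, 6, 6], [28, 27, 25]), ([6, 9, 7, 8, 6, 6, 9, 6, 8, 8, 6, 8,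 6], [25, 25, 27]), ([8, 8, 6, 8, 6, 9], [28, 25, 27, 24]), ([7, 9, 6, 8, 6, 6, 6, 8, 6, 9, 7, 9, 7], [26, 24, 26, 24]), ([6, 6, 9, 7, 8, 7, 9, 6, 8, 8, 6, 6, 9, 7], [25, 29, 29, 24]), ([9, 9, 6, 8, 6, 9, 7, 8, 8, 6, 6, 9, 7], [24, 28, 25]), ([8, 7, 9, 6, 8, 8, 8, 6, 6, 9, 6, 6], [28, 28, 24, 24]), ([6, 9, 7, 9, 6, 8, 7, 9, 9, 6, 8, 8, 7], [24, 24, 29, 24]), ([7, 9, 9, 6, 8, 8, 6, 6, 8, 6, 6], [25, 29, 25, 29]), ([7, 7, 8, 6, 9, 7, 7, 9, 9, 6, 6], [24, 24, 28, 24]), ([7, 8, 6, 9, 6, 6, 6, 8, 7, 9, 6], [27, 28, 25]), ([9, 9, 6, 8, 8, 7, 7, 9, 6, 8, 6, 9], [25, 27, 24]), ([7, 7, 9, 7, 8, 6, 9, 7, 8, 7, 7, 8, 8], [29, 26, 28, 25]), ([9, 9, 6, 6, 9, 9, 7, 9, 9, 6, 8, 6], [60, 27, 29, 60]), ([9, 7, 8, 6, 6, 6, 8, 6, 9, 6, 6, 6], [28, 27, 28]), ([8, 6, 9, 7, 7, 9, 6, 6, 6, 8, 6, 6], [28,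 27, 29]), ([9, 7, 9, 6, 8, 6, 6, 6, 8, 6, 6, 8, 6], [27, 25, 27, 25])]), (7, [([], []), ([9, 6, 6, 8, 7, 9, 9, 6, 8, 8, 6, 6], [26, 28, 28, 24]), ([6, 6, 6, 8, 8, 8, 6, 6, 6], [29, 27, 28, 24, 24]), ([6, 8, 8, 6, 6, 8, 7, 9], [26, 26, 24]), ([8, 6, 9, 7, 7, 8, 7, 7, 8, 8, 8, 6], [27, 60, 24, 60, 24])]), (8, [([], []), ([8, 6, 9, 7, 8, 6, 9, 7], [29, 29, 26])])]),
   (8, [(3, [([], []), ([6], [0, 0, 2, 1, 1]), ([8], [0, 2, 1]), ([6, 6], [0, 0, 2, 2, 1, 1]), ([8, 6], [0, 2, 0, 2, 1, 1]), ([8, 8], [0, 2, 2, 1]), ([6, 6, 6], [0, 0, 2, 2, 2, 1, 1]), ([8, 6, 6], [0, 2, 0, 2, 2, 1, 1]), ([6, 8, 6], [0, 0, 2, 1, 2, 0, 2, 1, 1]), ([8, 8, 6], [0, 2, 2, 0, 2, 1, 1]), ([6, 8, 8], [0, 0, 2, 1, 2, 2, 1]), ([8, 8, 8], [0, 2, 2, 2, 1]), ([7, 7], [0, 0, 3, 3, 1, 1]), ([8, 6, 6, 6], [0, 2, 0, 2, 2,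 2, 1, 1]), ([6, 8, 6, 6], [0, 0, 2, 1, 2, 0, 2, 2, 1, 1]), ([8, 8, 6, 6], [0, 2, 2, 0, 2, 2, 1, 1]), ([6, 6, 8, 8], [0, 0, 2, 2, 1, 2, 2, 1]), ([8, 6, 8, 8], [0, 2, 0, 2, 1, 2, 2, 1]), ([6, 8, 8, 8], [0, 0, 2, 1, 2, 2, 2, 1]), ([9, 9], [0, 3, 3, 1]), ([8, 7, 7], [0, 2, 0, 3, 3, 1, 1]), ([6, 8, 6, 6, 6], [0, 0, 2, 1, 2, 0, 2, 2, 2, 1, 1]), ([8, 8, 6, 6, 6], [0, 2, 2, 0, 2, 2, 2, 1, 1]), ([6, 6, 8, 6, 6], [0, 0, 2, 2, 1, 2, 0, 2, 2, 1, 1]), ([8, 8, 8, 6, 6], [0, 2, 2, 2, 0, 2, 2, 1, 1]), ([6, 6, 6, 8, 8], [0, 0, 2, 2, 2, 1, 2, 2, 1]), ([9, 7, 9, 7, 8], [0, 3, 0, 3, 1, 3, 0, 3, 1, 2, 1]), ([6, 6, 8, 8, 8], [0, 0, 2, 2, 1, 2, 2, 2, 1]), ([8, 6, 8, 8, 8], [0, 2, 0, 2, 1, 2, 2, 2, 1]), ([6, 6, 8, 6, 6, 6], [0, 0, 2, 2, 1, 2, 0, 2, 2, 2, 1, 1]), ([6, 8, 8, 6, 6, 6], [0, 0, 2, 1, 2, 2, 0,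 2, 2, 2, 1, 1]), ([6, 8, 8, 8, 6, 6], [0, 0, 2, 1, 2, 2, 2, 0, 2, 2, 1, 1]), ([8, 6, 6, 6, 8, 8], [0, 2, 0, 2, 2, 2, 1, 2, 2, 1]), ([8, 6, 6, 8, 8, 8], [0, 2, 0, 2, 2, 1, 2, 2, 2, 1]), ([8, 8, 6, 8, 8, 8], [0, 2, 2, 0, 2, 1, 2, 2, 2, 1]), ([6, 6, 6, 8, 6, 6, 6], [0, 0, 2, 2, 2, 1, 2, 0, 2, 2, 2, 1, 1]), ([8, 6, 6, 8, 6, 6, 6], [0, 2, 0, 2, 2, 1, 2, 0, 2, 2, 2, 1, 1]), ([6, 6, 8, 8, 6, 6, 6], [0, 0, 2, 2, 1, 2, 2, 0, 2, 2, 2, 1, 1]), ([6, 6, 8, 8, 8, 6, 6], [0, 0, 2, 2, 1, 2, 2, 2, 0, 2, 2, 1, 1]), ([8, 6, 8, 8, 8, 6, 6], [0, 2, 0, 2, 1, 2, 2, 2, 0, 2, 2, 1, 1]), ([6, 8, 6, 6, 6, 8, 8], [0, 0, 2, 1, 2, 0, 2, 2, 2, 1, 2, 2, 1]), ([6, 8, 6, 6, 8, 8, 8], [0, 0, 2, 1, 2, 0, 2, 2, 1, 2, 2, 2, 1]), ([6, 8, 8, 6, 8, 8, 8], [0, 0, 2, 1, 2, 2, 0, 2, 1, 2, 2, 2, 1]), ([6, 8, 6, 6, 8, 6, 6,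 6], [0, 0, 2, 1, 2, 0, 2, 2, 1, 2, 0, 2, 2, 2, 1, 1]), ([8, 8, 6, 6, 8, 6, 6, 6], [0, 2, 2, 0, 2, 2, 1, 2, 0, 2, 2, 2, 1, 1]), ([8, 6, 8, 8, 6, 8, 8, 8], [0, 2, 0, 2, 1, 2, 2, 0, 2, 1, 2, 2, 2, 1]), ([9, 7, 7, 9, 7, 7, 9, 6], [0, 3, 0, 3, 3, 1, 3, 0, 3, 3, 1, 3, 0, 2, 1, 1]), ([8, 6, 8, 6, 6, 8, 6, 6, 6], [0, 2, 0, 2, 1, 2, 0, 2, 2, 1, 2, 0, 2, 2, 2, 1, 1]), ([6, 8, 8, 6, 6, 8, 6, 6, 6], [0, 0, 2, 1, 2, 2, 0, 2, 2, 1, 2, 0, 2, 2, 2, 1, 1]), ([7, 9, 9, 7, 9, 9, 7, 8], [0, 0, 3, 1, 3, 3, 0, 3, 1, 3, 3, 0, 3, 1, 2, 1])]), (36, [([], []), ([7, 8, 8, 8, 6], [0, 0, 3, 1, 2, 2, 2, 0, 2, 1, 1]), ([7, 9, 6, 6, 9, 6, 8, 8, 6], [0, 0, 3, 1, 3, 0, 2, 2, 1, 3, 0, 2, 1, 2, 2, 0, 2, 1, 1]), ([8, 6, 6, 9, 6, 6, 9, 7, 8, 6, 8, 8, 6], [0, 2, 0, 2, 2, 1, 3, 0, 2, 2, 1, 3, 0, 3, 1, 2, 0, 2, 1, 2, 2,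 0, 2, 1, 1]), ([6, 8, 6, 6, 9, 9, 6, 6, 8, 8, 7], [0, 0, 2, 1, 2, 0, 2, 2, 1, 3, 3, 0, 2, 2, 1, 2, 2, 0, 3, 1, 1]), ([8, 8, 7, 9, 6, 8, 8, 6, 6, 6, 8, 6], [0, 2, 2, 0, 3, 1, 3, 0, 2, 1, 2, 2, 0, 2, 2, 2, 1, 2, 0, 2, 1, 1]), ([8, 8, 6, 8, 7, 9, 7, 8, 6, 6, 8, 7, 7], [0, 2, 2, 0, 2, 1, 2, 0, 3, 1, 3, 0, 3, 1, 2, 0, 2, 2, 1, 2, 0, 3, 3, 1, 1])]), (42, [([], []), ([7, 9, 6, 8], [0, 0, 3, 1, 3, 0, 2, 1, 2, 1]), ([8, 6, 6, 8], [0, 2, 0, 2, 2, 1, 2, 1]), ([9, 7, 8, 6, 9, 7, 8, 6], [0, 3, 0, 3, 1, 2, 0, 2, 1, 3, 0, 3, 1, 2, 0, 2, 1, 1]), ([7, 9, 6, 8, 8, 6, 6, 8], [0, 0, 3, 1, 3, 0, 2, 1, 2, 2, 0, 2, 2, 1, 2, 1]), ([9, 7, 8, 6], [0, 3, 0, 3, 1, 2, 0, 2, 1, 1])]), (82, [([], []), ([9, 7, 9, 7, 8, 6, 8, 6], [0, 3, 0, 3, 1, 3, 0, 3, 1, 2, 0, 2, 1, 2, 0, 2, 1, 1]), ([6, 8, 8, 6, 6, 8, 8, 6],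 [0, 0, 2, 1, 2, 2, 0, 2, 2, 1, 2, 2, 0, 2, 1, 1]), ([7, 9, 9, 7, 7, 9, 7, 8, 7, 9, 6, 6], [0, 0, 3, 1, 3, 3, 0, 3, 3, 1, 3, 0, 3, 1, 2, 0, 3, 1, 3, 0, 2, 2, 1, 1]), ([6, 6, 9, 9, 6, 6], [0, 0, 2, 2, 1, 3, 3, 0, 2, 2, 1, 1])]), (91, [([], []), ([7, 9, 6, 6, 9, 6, 8, 8, 6, 6, 9, 6], [0, 0, 3, 1, 3, 0, 2, 2, 1, 3, 0, 2, 1, 2, 2, 0, 2, 2, 1, 3, 0, 2, 1, 1]), ([9, 9, 6, 6, 9, 6, 8, 8, 7, 7, 8, 7], [0, 3, 3, 0, 2, 2, 1, 3, 0, 2, 1, 2, 2, 0, 3, 3, 1, 2, 0, 3, 1, 1]), ([8, 6, 8, 8, 7, 9, 6, 6, 6, 8], [0, 2, 0, 2, 1, 2, 2, 0, 3, 1, 3, 0, 2, 2, 2, 1, 2, 1])]), (7, [([], []), ([7, 9, 7, 8, 7, 9, 6, 6], [0, 0, 3, 1, 3, 0, 3, 1, 2, 0, 3, 1, 3, 0, 2, 2, 1, 1]), ([7, 7, 8, 6, 9, 6, 8, 6], [0, 0, 3, 3, 1, 2, 0, 2, 1, 3, 0, 2, 1, 2, 0, 2, 1, 1])])]),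
   (9, [(3, [([], []), ([6], [6]), ([8], [8]), ([6, 6], [6, 6]), ([8, 6], [8, 6]), ([8, 8], [8, 8]), ([6, 6, 6], [6, 6, 6]), ([8, 6, 6], [8, 6, 6]), ([6, 8, 6], [6, 8, 6]), ([8, 8, 6], [8, 8, 6]), ([6, 8, 8], [6, 8, 8]), ([8, 8, 8], [8, 8, 8]), ([7, 7], [7, 7]), ([8, 6, 6, 6], [8, 6, 6, 6]), ([6, 8, 6, 6], [6, 8, 6, 6]), ([8, 8, 6, 6], [8, 8, 6, 6]), ([6, 6, 8, 8], [6, 6, 8, 8]), ([8, 6, 8, 8], [8, 6, 8, 8]), ([6, 8, 8, 8], [6, 8, 8, 8]), ([9, 9], [9, 9]), ([8, 7, 7], [8, 7, 7]), ([6, 8, 6, 6, 6], [6, 8, 6, 6, 6]), ([8, 8, 6, 6, 6], [8, 8, 6, 6, 6]), ([6, 6, 8, 6, 6], [6, 6, 8, 6, 6]), ([8, 8, 8, 6, 6], [8, 8, 8, 6, 6]), ([6, 6, 6, 8, 8], [6, 6, 6, 8, 8]), ([9, 7, 9, 7, 8], [9, 7, 9, 7, 8]), ([6, 6, 8, 8, 8], [6, 6, 8, 8, 8]), ([8, 6, 8, 8, 8], [8, 6, 8, 8, 8]), ([6, 6, 8, 6, 6,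 6], [6, 6, 8, 6, 6, 6]), ([6, 8, 8, 6, 6, 6], [6, 8, 8, 6, 6, 6]), ([6, 8, 8, 8, 6, 6], [6, 8, 8, 8, 6, 6]), ([8, 6, 6, 6, 8, 8], [8, 6, 6, 6, 8, 8]), ([8, 6, 6, 8, 8, 8], [8, 6, 6, 8, 8, 8]), ([8, 8, 6, 8, 8, 8], [8, 8, 6, 8, 8, 8]), ([6, 6, 6, 8, 6, 6, 6], [6, 6, 6, 8, 6, 6, 6]), ([8, 6, 6, 8, 6, 6, 6], [8, 6, 6, 8, 6, 6, 6]), ([6, 6, 8, 8, 6, 6, 6], [6, 6, 8, 8, 6, 6, 6]), ([6, 6, 8, 8, 8, 6, 6], [6, 6, 8, 8, 8, 6, 6]), ([8, 6, 8, 8, 8, 6, 6], [8, 6, 8, 8, 8, 6, 6]), ([6, 8, 6, 6, 6, 8, 8], [6, 8, 6, 6, 6, 8, 8]), ([6, 8, 6, 6, 8, 8, 8], [6, 8, 6, 6, 8, 8, 8]), ([6, 8, 8, 6, 8, 8, 8], [6, 8, 8, 6, 8, 8, 8]), ([6, 8, 6, 6, 8, 6, 6, 6], [6, 8, 6, 6, 8, 6, 6, 6]), ([8, 8, 6, 6, 8, 6, 6, 6], [8, 8, 6, 6, 8, 6, 6, 6]), ([8, 6, 8, 8, 6, 8, 8, 8], [8, 6, 8, 8, 6, 8, 8, 8]), ([9, 7, 7,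 9, 7, 7, 9, 6], [9, 7, 7, 9, 7, 7, 9, 6]), ([8, 6, 8, 6, 6, 8, 6, 6, 6], [8, 6, 8, 6, 6, 8, 6, 6, 6]), ([6, 8, 8, 6, 6, 8, 6, 6, 6], [6, 8, 8, 6, 6, 8, 6, 6, 6]), ([7, 9, 9, 7, 9, 9, 7, 8], [7, 9, 9, 7, 9, 9, 7, 8])]), (36, [([], []), ([7, 8, 8, 8, 6], [7, 8, 8, 8, 6]), ([7, 9, 6, 6, 9, 6, 8, 8, 6], [7, 9, 6, 6, 9, 6, 8, 8, 6]), ([8, 6, 6, 9, 6, 6, 9, 7, 8, 6, 8, 8, 6], [8, 6, 6, 9, 6, 6, 9, 7, 8, 6, 8, 8, 6]), ([6, 8, 6, 6, 9, 9, 6, 6, 8, 8, 7], [6, 8, 6, 6, 9, 9, 6, 6, 8, 8, 7]), ([8, 8, 7, 9, 6, 8, 8, 6, 6, 6, 8, 6], [8, 8, 7, 9, 6, 8, 8, 6, 6, 6, 8, 6]), ([8, 8, 6, 8, 7, 9, 7, 8, 6, 6, 8, 7, 7], [8, 8, 6, 8, 7, 9, 7, 8, 6, 6, 8, 7, 7])]), (42, [([], []), ([7, 9, 6, 8], [7, 9, 6, 8]), ([8, 6, 6, 8], [8, 6, 6, 8]), ([9, 7, 8, 6, 9, 7, 8, 6], [9, 7, 8, 6, 9, 7, 8, 6]), ([7, 9, 6,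 8, 8, 6, 6, 8], [7, 9, 6, 8, 8, 6, 6, 8]), ([9, 7, 8, 6], [9, 7, 8, 6])]), (82, [([], []), ([9, 7, 9, 7, 8, 6, 8, 6], [9, 7, 9, 7, 8, 6, 8, 6]), ([6, 8, 8, 6, 6, 8, 8, 6], [6, 8, 8, 6, 6, 8, 8, 6]), ([7, 9, 9, 7, 7, 9, 7, 8, 7, 9, 6, 6], [7, 9, 9, 7, 7, 9, 7, 8, 7, 9, 6, 6]), ([6, 6, 9, 9, 6, 6], [6, 6, 9, 9, 6, 6])]), (91, [([], []), ([7, 9, 6, 6, 9, 6, 8, 8, 6, 6, 9, 6], [7, 9, 6, 6, 9, 6, 8, 8, 6, 6, 9, 6]), ([9, 9, 6, 6, 9, 6, 8, 8, 7, 7, 8, 7], [9, 9, 6, 6, 9, 6, 8, 8, 7, 7, 8, 7]), ([8, 6, 8, 8, 7, 9, 6, 6, 6, 8], [8, 6, 8, 8, 7, 9, 6, 6, 6, 8])]), (7, [([], []), ([7, 9, 7, 8, 7, 9, 6, 6], [7, 9, 7, 8, 7, 9, 6, 6]), ([7, 7, 8, 6, 9, 6, 8, 6], [7, 7, 8, 6, 9, 6, 8, 6])])]),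
   (10, [(3, [([], []), ([6], [8]), ([8], [6]), ([6, 6], [8, 8]), ([8, 6], [6, 8]), ([8, 8], [6, 6]), ([6, 6, 6], [8, 8, 8]), ([8, 6, 6], [6, 8, 8]), ([6, 8, 6], [8, 6, 8]), ([8, 8, 6], [6, 6, 8]), ([6, 8, 8], [8, 6, 6]), ([8, 8, 8], [6, 6, 6]), ([7, 7], [9, 9]), ([8, 6, 6, 6], [6, 8, 8, 8]), ([6, 8, 6, 6], [8, 6, 8, 8]), ([8, 8, 6, 6], [6, 6, 8, 8]), ([6, 6, 8, 8], [8, 8, 6, 6]), ([8, 6, 8, 8], [6, 8, 6, 6]), ([6, 8, 8, 8], [8, 6, 6, 6]), ([9, 9], [7, 7]), ([8, 7, 7], [6, 9, 9]), ([6, 8, 6, 6, 6], [8, 6, 8, 8, 8]), ([8, 8, 6, 6, 6], [6, 6, 8, 8, 8]), ([6, 6, 8, 6, 6], [8, 8, 6, 8, 8]), ([8, 8, 8, 6, 6], [6, 6, 6, 8, 8]), ([6, 6, 6, 8, 8], [8, 8, 8, 6, 6]), ([9, 7, 9, 7, 8], [8, 6, 8, 6, 6]), ([6, 6, 8, 8, 8], [8, 8, 6, 6, 6]), ([8, 6, 8, 8, 8], [6, 8, 6, 6, 6]), ([6, 6, 8, 6, 6,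 6], [8, 8, 6, 8, 8, 8]), ([6, 8, 8, 6, 6, 6], [8, 6, 6, 8, 8, 8]), ([6, 8, 8, 8, 6, 6], [8, 6, 6, 6, 8, 8]), ([8, 6, 6, 6, 8, 8], [6, 8, 8, 8, 6, 6]), ([8, 6, 6, 8, 8, 8], [6, 8, 8, 6, 6, 6]), ([8, 8, 6, 8, 8, 8], [6, 6, 8, 6, 6, 6]), ([6, 6, 6, 8, 6, 6, 6], [8, 8, 8, 6, 8, 8, 8]), ([8, 6, 6, 8, 6, 6, 6], [6, 8, 8, 6, 8, 8, 8]), ([6, 6, 8, 8, 6, 6, 6], [8, 8, 6, 6, 8, 8, 8]), ([6, 6, 8, 8, 8, 6, 6], [8, 8, 6, 6, 6, 8, 8]), ([8, 6, 8, 8, 8, 6, 6], [6, 8, 6, 6, 6, 8, 8]), ([6, 8, 6, 6, 6, 8, 8], [8, 6, 8, 8, 8, 6, 6]), ([6, 8, 6, 6, 8, 8, 8], [8, 6, 8, 8, 6, 6, 6]), ([6, 8, 8, 6, 8, 8, 8], [8, 6, 6, 8, 6, 6, 6]), ([6, 8, 6, 6, 8, 6, 6, 6], [8, 6, 8, 8, 6, 8, 8, 8]), ([8, 8, 6, 6, 8, 6, 6, 6], [6, 6, 8, 8, 6, 8, 8, 8]), ([8, 6, 8, 8, 6, 8, 8, 8], [6, 8, 6, 6, 8, 6, 6, 6]), ([9, 7, 7,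 9, 7, 7, 9, 6], [7, 9, 9, 7, 9, 9, 7, 8]), ([8, 6, 8, 6, 6, 8, 6, 6, 6], [9, 7, 9, 7, 8, 6, 8, 8, 8]), ([6, 8, 8, 6, 6, 8, 6, 6, 6], [8, 6, 6, 8, 8, 6, 8, 8, 8]), ([7, 9, 9, 7, 9, 9, 7, 8], [9, 7, 7, 9, 7, 7, 9, 6])]), (36, [([], []), ([7, 8, 8, 8, 6], [9, 6, 6, 6, 8]), ([7, 9, 6, 6, 9, 6, 8, 8, 6], [9, 7, 8, 6, 9, 6, 6, 6, 8]), ([8, 6, 6, 9, 6, 6, 9, 7, 8, 6, 8, 8, 6], [8, 8, 7, 7, 9, 9, 7, 9, 6, 8, 8, 8, 6]), ([6, 8, 6, 6, 9, 9, 6, 6, 8, 8, 7], [8, 6, 8, 8, 7, 7, 8, 8, 6, 6, 9]), ([8, 8, 7, 9, 6, 8, 8, 6, 6, 6, 8, 6], [6, 6, 9, 7, 8, 6, 6, 8, 8, 8, 6, 8]), ([8, 8, 6, 8, 7, 9, 7, 8, 6, 6, 8, 7, 7], [8, 8, 6, 8, 7, 9, 7, 8, 6, 6, 8, 7, 7])]), (42, [([], []), ([7, 9, 6, 8], [9, 7, 8, 6]), ([8, 6, 6, 8], [6, 8, 8, 6]), ([9, 7, 8, 6, 9, 7, 8, 6], [9, 7, 8, 6, 9, 7, 8, 6]), ([7, 9, 6,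 8, 8, 6, 6, 8], [9, 7, 8, 6, 6, 8, 8, 6]), ([9, 7, 8, 6], [7, 9, 6, 8])]), (82, [([], []), ([9, 7, 9, 7, 8, 6, 8, 6], [9, 7, 9, 7, 8, 6, 8, 6]), ([6, 8, 8, 6, 6, 8, 8, 6], [8, 6, 6, 8, 8, 6, 6, 8]), ([7, 9, 9, 7, 7, 9, 7, 8, 7, 9, 6, 6], [7, 8, 7, 9, 6, 6, 6, 8, 8, 6, 8, 6]), ([6, 6, 9, 9, 6, 6], [8, 8, 7, 7, 8, 8])]), (91, [([], []), ([7, 9, 6, 6, 9, 6, 8, 8, 6, 6, 9, 6], [8, 6, 6, 8, 8, 6, 9, 7, 8, 6, 8, 6]), ([9, 9, 6, 6, 9, 6, 8, 8, 7, 7, 8, 7], [6, 9, 6, 8, 6, 6, 6, 8, 7, 9, 6, 6]), ([8, 6, 8, 8, 7, 9, 6, 6, 6, 8], [6, 8, 8, 8, 7, 9, 6, 6, 8, 6])]), (7, [([], []), ([7, 9, 7, 8, 7, 9, 6, 6], [9, 7, 7, 8, 7, 7, 8, 8]), ([7, 7, 8, 6, 9, 6, 8, 6], [9, 9, 6, 6, 9, 6, 6, 8])])]),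
   (11, [(3, [([], []), ([6], [8]), ([8], [6]), ([6, 6], [8, 8]), ([8, 6], [6, 8]), ([8, 8], [6, 6]), ([6, 6, 6], [8, 8, 8]), ([8, 6, 6], [6, 8, 8]), ([6, 8, 6], [8, 6, 8]), ([8, 8, 6], [6, 6, 8]), ([6, 8, 8], [8, 6, 6]), ([8, 8, 8], [6, 6, 6]), ([7, 7], [9, 9]), ([8, 6, 6, 6], [6, 8, 8, 8]), ([6, 8, 6, 6], [8, 6, 8, 8]), ([8, 8, 6, 6], [6, 6, 8, 8]), ([6, 6, 8, 8], [8, 8, 6, 6]), ([8, 6, 8, 8], [6, 8, 6, 6]), ([6, 8, 8, 8], [8, 6, 6, 6]), ([9, 9], [7, 7]), ([8, 7, 7], [6, 9, 9]), ([6, 8, 6, 6, 6], [8, 6, 8, 8, 8]), ([8, 8, 6, 6, 6], [6, 6, 8, 8, 8]), ([6, 6, 8, 6, 6], [8, 8, 6, 8, 8]), ([8, 8, 8, 6, 6], [6, 6, 6, 8, 8]), ([6, 6, 6, 8, 8], [8, 8, 8, 6, 6]), ([9, 7, 9, 7, 8], [8, 6, 8, 6, 6]), ([6, 6, 8, 8, 8], [8, 8, 6, 6, 6]), ([8, 6, 8, 8, 8], [6, 8, 6, 6, 6]), ([6, 6, 8, 6, 6,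 6], [8, 8, 6, 8, 8, 8]), ([6, 8, 8, 6, 6, 6], [8, 6, 6, 8, 8, 8]), ([6, 8, 8, 8, 6, 6], [8, 6, 6, 6, 8, 8]), ([8, 6, 6, 6, 8, 8], [6, 8, 8, 8, 6, 6]), ([8, 6, 6, 8, 8, 8], [6, 8, 8, 6, 6, 6]), ([8, 8, 6, 8, 8, 8], [6, 6, 8, 6, 6, 6]), ([6, 6, 6, 8, 6, 6, 6], [8, 8, 8, 6, 8, 8, 8]), ([8, 6, 6, 8, 6, 6, 6], [6, 8, 8, 6, 8, 8, 8]), ([6, 6, 8, 8, 6, 6, 6], [8, 8, 6, 6, 8, 8, 8]), ([6, 6, 8, 8, 8, 6, 6], [8, 8, 6, 6, 6, 8, 8]), ([8, 6, 8, 8, 8, 6, 6], [6, 8, 6, 6, 6, 8, 8]), ([6, 8, 6, 6, 6, 8, 8], [8, 6, 8, 8, 8, 6, 6]), ([6, 8, 6, 6, 8, 8, 8], [8, 6, 8, 8, 6, 6, 6]), ([6, 8, 8, 6, 8, 8, 8], [8, 6, 6, 8, 6, 6, 6]), ([6, 8, 6, 6, 8, 6, 6, 6], [8, 6, 8, 8, 6, 8, 8, 8]), ([8, 8, 6, 6, 8, 6, 6, 6], [6, 6, 8, 8, 6, 8, 8, 8]), ([8, 6, 8, 8, 6, 8, 8, 8], [6, 8, 6, 6, 8, 6, 6, 6]), ([9, 7, 7,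 9, 7, 7, 9, 6], [7, 9, 9, 7, 9, 9, 7, 8]), ([8, 6, 8, 6, 6, 8, 6, 6, 6], [9, 7, 9, 7, 8, 6, 8, 8, 8]), ([6, 8, 8, 6, 6, 8, 6, 6, 6], [8, 6, 6, 8, 8, 6, 8, 8, 8]), ([7, 9, 9, 7, 9, 9, 7, 8], [9, 7, 7, 9, 7, 7, 9, 6])]), (36, [([], []), ([7, 8, 8, 8, 6], [9, 6, 6, 6, 8]), ([7, 9, 6, 6, 9, 6, 8, 8, 6], [9, 7, 8, 6, 9, 6, 6, 6, 8]), ([8, 6, 6, 9, 6, 6, 9, 7, 8, 6, 8, 8, 6], [8, 8, 7, 7, 9, 9, 7, 9, 6, 8, 8, 8, 6]), ([6, 8, 6, 6, 9, 9, 6, 6, 8, 8, 7], [8, 6, 8, 8, 7, 7, 8, 8, 6, 6, 9]), ([8, 8, 7, 9, 6, 8, 8, 6, 6, 6, 8, 6], [6, 6, 9, 7, 8, 6, 6, 8, 8, 8, 6, 8]), ([8, 8, 6, 8, 7, 9, 7, 8, 6, 6, 8, 7, 7], [8, 8, 6, 8, 7, 9, 7, 8, 6, 6, 8, 7, 7])]), (42, [([], []), ([7, 9, 6, 8], [9, 7, 8, 6]), ([8, 6, 6, 8], [6, 8, 8, 6]), ([9, 7, 8, 6, 9, 7, 8, 6], [9, 7, 8, 6, 9, 7, 8, 6]), ([7, 9, 6,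 8, 8, 6, 6, 8], [9, 7, 8, 6, 6, 8, 8, 6]), ([9, 7, 8, 6], [7, 9, 6, 8])]), (82, [([], []), ([9, 7, 9, 7, 8, 6, 8, 6], [9, 7, 9, 7, 8, 6, 8, 6]), ([6, 8, 8, 6, 6, 8, 8, 6], [8, 6, 6, 8, 8, 6, 6, 8]), ([7, 9, 9, 7, 7, 9, 7, 8, 7, 9, 6, 6], [7, 8, 7, 9, 6, 6, 6, 8, 8, 6, 8, 6]), ([6, 6, 9, 9, 6, 6], [8, 8, 7, 7, 8, 8])]), (91, [([], []), ([7, 9, 6, 6, 9, 6, 8, 8, 6, 6, 9, 6], [8, 6, 6, 8, 8, 6, 9, 7, 8, 6, 8, 6]), ([9, 9, 6, 6, 9, 6, 8, 8, 7, 7, 8, 7], [6, 9, 6, 8, 6, 6, 6, 8, 7, 9, 6, 6]), ([8, 6, 8, 8, 7, 9, 6, 6, 6, 8], [6, 8, 8, 8, 7, 9, 6, 6, 8, 6])]), (7, [([], []), ([7, 9, 7, 8, 7, 9, 6, 6], [9, 7, 7, 8, 7, 7, 8, 8]), ([7, 7, 8, 6, 9, 6, 8, 6], [9, 9, 6, 6, 9, 6, 6, 8])])]),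
   (30, [(36, [([], []), ([7, 8, 8, 8, 6], [12, 10, 10, 12, 12, 11, 11, 12, 10, 10, 10]), ([7, 9, 6, 6, 9, 6, 8, 8, 6], [10, 10, 12, 12, 11, 11, 12, 10, 10, 10]), ([8, 6, 6, 9, 6, 6, 9, 7, 8, 6, 8, 8, 6], [13, 10, 10, 12, 12, 10, 10, 12, 11]), ([6, 8, 6, 6, 9, 9, 6, 6, 8, 8, 7], [10, 10, 12, 11, 11, 12, 11]), ([8, 8, 7, 9, 6, 8, 8, 6, 6, 6, 8, 6], [11, 11, 12, 12, 11, 11, 13, 11]), ([8, 8, 6, 8, 7, 9, 7, 8, 6, 6, 8, 7, 7], [12, 12, 11, 11, 12, 12, 10])]), (42, [([], []), ([7, 9, 6, 8], [13]), ([8, 6, 6, 8], [10, 13, 11, 11, 12, 12, 10, 10, 13, 10]), ([9, 7, 8, 6, 9, 7, 8, 6], [12, 12]), ([7, 9, 6, 8, 8, 6, 6, 8], [11, 13, 10, 10, 10, 13, 10, 12, 10, 10]), ([9, 7, 8, 6], [12])]), (82, [([], []), ([9, 7, 9, 7, 8, 6, 8, 6], [10, 10, 12, 12, 11, 11]), ([6, 8, 8, 6, 6, 8, 8, 6], [13,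 11, 11, 12, 10, 13, 11, 11, 12, 11]), ([7, 9, 9, 7, 7, 9, 7, 8, 7, 9, 6, 6], [12, 11, 11, 12, 12, 11, 11]), ([6, 6, 9, 9, 6, 6], [11, 11, 13])]), (91, [([], []), ([7, 9, 6, 6, 9, 6, 8, 8, 6, 6, 9, 6], [10, 10, 12, 12, 11, 11, 12, 10, 10]), ([9, 9, 6, 6, 9, 6, 8, 8, 7, 7, 8, 7], [12, 11, 11, 12, 12, 10, 10, 13]), ([8, 6, 8, 8, 7, 9, 6, 6, 6, 8], [11, 12, 10, 10, 10, 12, 11])]), (7, [([], []), ([7, 9, 7, 8, 7, 9, 6, 6], [10, 10, 12, 11, 11, 12, 12, 10, 10]), ([7, 7, 8, 6, 9, 6, 8, 6], [11, 11, 12, 12, 10, 10, 13, 11, 11])])]),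
   (33, [(36, [([], []), ([7, 8, 8, 8, 6], [7, 8, 8, 8, 6]), ([7, 9, 6, 6, 9, 6, 8, 8, 6], [7, 9, 6, 6, 9, 6, 8, 8, 6]), ([8, 6, 6, 9, 6, 6, 9, 7, 8, 6, 8, 8, 6], [8, 6, 6, 9, 6, 6, 9, 7, 8, 6, 8, 8, 6]), ([6, 8, 6, 6, 9, 9, 6, 6, 8, 8, 7], [6, 8, 6, 6, 9, 9, 6, 6, 8, 8, 7]), ([8, 8, 7, 9, 6, 8, 8, 6, 6, 6, 8, 6], [8, 8, 7, 9, 6, 8, 8, 6, 6, 6, 8, 6]), ([8, 8, 6, 8, 7, 9, 7, 8, 6, 6, 8, 7, 7], [8, 8, 6, 8, 7, 9, 7, 8, 6, 6, 8, 7, 7])]), (42, [([], []), ([7, 9, 6, 8], [7, 9, 6, 8]), ([8, 6, 6, 8], [8, 6, 6, 8]), ([9, 7, 8, 6, 9, 7, 8, 6], [9, 7, 8, 6, 9, 7, 8, 6]), ([7, 9, 6, 8, 8, 6, 6, 8], [7, 9, 6, 8, 8, 6, 6, 8]), ([9, 7, 8, 6], [9, 7, 8, 6])]), (82, [([], []), ([9, 7, 9, 7, 8, 6, 8, 6], [9, 7, 9, 7, 8, 6, 8, 6]), ([6, 8, 8, 6, 6, 8, 8, 6], [6, 8, 8, 6, 6, 8, 8, 6]), ([7, 9, 9,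 7, 7, 9, 7, 8, 7, 9, 6, 6], [7, 9, 9, 7, 7, 9, 7, 8, 7, 9, 6, 6]), ([6, 6, 9, 9, 6, 6], [6, 6, 9, 9, 6, 6])]), (91, [([], []), ([7, 9, 6, 6, 9, 6, 8, 8, 6, 6, 9, 6], [7, 9, 6, 6, 9, 6, 8, 8, 6, 6, 9, 6]), ([9, 9, 6, 6, 9, 6, 8, 8, 7, 7, 8, 7], [9, 9, 6, 6, 9, 6, 8, 8, 7, 7, 8, 7]), ([8, 6, 8, 8, 7, 9, 6, 6, 6, 8], [8, 6, 8, 8, 7, 9, 6, 6, 6, 8])]), (7, [([], []), ([7, 9, 7, 8, 7, 9, 6, 6], [7, 9, 7, 8, 7, 9, 6, 6]), ([7, 7, 8, 6, 9, 6, 8, 6], [7, 7, 8, 6, 9, 6, 8, 6])])]),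
   (50, [(42, [([], []), ([8, 6, 6, 8], [10, 13, 11, 11, 12, 12, 10, 10, 13, 10]), ([7, 9, 6, 8], [13, 10, 10, 12, 10, 10, 12, 12, 10, 10]), ([8, 6, 6, 8, 8, 6, 6, 8], [12, 11, 11, 13, 10, 12, 11, 11, 13, 11]), ([8, 6, 6, 8, 7, 9, 6, 8], [11, 13, 10, 10, 10, 13, 10, 12, 10, 10]), ([6, 8, 7, 9, 9, 6, 6, 6, 8, 6, 9, 6], [12, 12, 11, 11, 12, 10, 10, 12, 11, 11])]), (82, [([], []), ([9, 7, 7, 8, 7, 7, 8, 8, 6, 8, 8, 6], [10, 12, 12, 11, 11, 13, 10, 12, 11, 13, 10]), ([8, 6, 6, 9, 6, 6, 9, 9], [11, 11, 12, 12, 10, 10, 12, 11, 11]), ([6, 8, 8, 6, 6, 6, 9, 7, 8, 7, 9, 7], [13, 10, 10, 12, 12]), ([6, 8, 6, 6, 9, 9, 6, 6, 6, 8], [12, 11, 11, 12, 10, 10, 12, 12, 10, 10])]), (91, [([], []), ([6, 9, 6, 6, 8, 8, 6, 9, 6, 6, 8, 6], [11, 11, 12, 11, 11, 12, 12]), ([9, 6, 8, 8, 6, 6, 6, 9, 9, 7,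 8], [13, 11, 11, 12, 10, 10]), ([7, 9, 6, 6, 9, 6, 8, 8, 6, 6, 9, 6], [12, 12, 10, 10, 13, 10, 10])]), (7, [([], []), ([7, 9, 7, 8, 7, 9, 6, 6], [13, 11, 11, 13, 11, 11, 13]), ([7, 7, 8, 6, 9, 6, 8, 6], [12, 10, 10, 12, 10, 10, 12])])]),
   (5, [(14, [([], []), ([10, 12, 11, 13, 11, 11], [30]), ([12, 12, 11, 11, 13, 10, 12], [33, 33]), ([10, 13, 11, 12, 12, 11], [31]), ([10, 10, 12, 12, 10, 10, 12, 11, 11], [33, 33, 30])]), (461, [([], []), ([11, 12, 12, 10], [33, 33, 31]), ([11, 11, 12, 10], [31, 32]), ([11, 12, 10, 13, 10, 10], [32, 31, 33])]), (8, [([], []), ([11, 11, 13, 10], [31, 33, 31]), ([11, 12, 10, 10], [30, 32, 30])])]),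
   (13, [(36, [([], []), ([10], [7, 8, 7]), ([12, 10], [7, 9, 6, 6, 9]), ([12, 12, 10], [9, 9, 6, 8, 7, 9, 6]), ([10, 12, 10], [7, 8, 7, 7, 9, 6, 6, 9]), ([10, 12, 12, 10], [9, 6, 8, 8, 8, 6, 8, 7, 9, 6]), ([11, 13, 11, 12, 10], [9, 6, 8, 7, 7, 8, 6, 6, 9, 9, 6])]), (42, [([], []), ([12], [7, 9, 6, 8]), ([11, 11, 12, 10, 10, 12, 12, 11, 11], [6, 9, 6, 6, 8, 8, 6, 9, 6, 6, 8, 6]), ([12, 12], [9, 7, 8, 6, 9, 7, 8, 6]), ([12, 11, 11, 12, 10, 10, 12, 12, 11, 11], [7, 8, 7, 9, 6, 6, 8, 6, 9, 7, 8, 6]), ([13], [9, 7, 8, 6])]), (82, [([], []), ([11, 11, 12, 12, 10, 10, 12, 11, 11], [7, 7, 8, 6, 9, 6, 8, 6]), ([13, 10, 10, 12, 11, 11], [6, 8, 8, 8, 7, 9, 7, 7, 9, 7, 8, 7]), ([13, 10, 10, 12, 11, 11, 12, 10, 10], [7, 9, 7, 8, 7, 9, 6, 6]), ([10, 13, 10, 10, 10, 13, 10, 12, 10, 10], [9, 7,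 7, 8, 8, 8, 6, 6, 9, 6, 6, 8])]), (91, [([], []), ([10, 13, 10, 10, 10, 13, 10], [7, 9, 7, 7, 8, 6, 8, 8, 8, 7]), ([12, 11, 11, 12, 12, 10, 10, 13], [6, 9, 6, 8, 6, 6, 6, 8, 7, 9, 6, 6]), ([11, 12, 10, 10, 10, 12, 11], [6, 8, 8, 8, 7, 9, 6, 6, 8, 6])]), (7, [([], []), ([10, 10, 12, 11, 11, 12, 12, 10, 10], [9, 7, 7, 8, 7, 7, 8, 8]), ([11, 11, 12, 12, 10, 10, 13, 11, 11], [9, 9, 6, 6, 9, 6, 6, 8])])]),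
   (18, [(36, [([], []), ([10], [14]), ([12, 10], [16, 14]), ([12, 12, 10], [16, 16, 14]), ([10, 12, 10], [14, 16, 14]), ([10, 12, 12, 10], [15, 48, 48]), ([11, 13, 11, 12, 10], [16, 15, 48, 48])]), (42, [([], []), ([12], [16]), ([11, 11, 12, 10, 10, 12, 12, 11, 11], [49, 49, 14, 17, 48, 48]), ([12, 12], [16, 16]), ([12, 11, 11, 12, 10, 10, 12, 12, 11, 11], [49, 49, 14, 16, 48, 48, 16]), ([13], [17])]), (82, [([], []), ([11, 11, 12, 12, 10, 10, 12, 11, 11], [17, 14, 48, 14, 14, 14, 48]), ([13, 10, 10, 12, 11, 11], [17, 14, 14, 16, 15, 15]), ([13, 10, 10, 12, 11, 11, 12, 10, 10], [49, 14, 16, 15, 15, 49, 14]), ([10, 13, 10, 10, 10, 13, 10, 12, 10, 10], [17, 15, 16, 15, 49, 49, 16, 14])]), (91, [([], []), ([10, 13, 10, 10, 10, 13, 10], [14, 17, 14, 14, 14, 17, 14]), ([12, 11, 11, 12,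 12, 10, 10, 13], [14, 49, 14, 14, 14, 48, 15]), ([11, 12, 10, 10, 10, 12, 11], [15, 16, 14, 14, 14, 16, 15])]), (7, [([], []), ([10, 10, 12, 11, 11, 12, 12, 10, 10], [17, 48, 14, 14, 14, 49, 14, 14]), ([11, 11, 12, 12, 10, 10, 13, 11, 11], [49, 14, 16, 14, 48, 17, 14, 14])])]),
   (26, [(36, [([], []), ([10], [7, 8, 7]), ([12, 10], [9, 7, 8, 8, 7]), ([12, 12, 10], [9, 9, 6, 8, 7, 9, 6]), ([10, 12, 10], [7, 8, 7, 9, 7, 8, 8, 7]), ([10, 12, 12, 10], [9, 6, 8, 8, 8, 6, 8, 7, 9, 6]), ([11, 13, 11, 12, 10], [6, 9, 9, 6, 8, 8, 7, 7, 8, 8, 7])]), (42, [([], []), ([12], [9, 7, 8, 6]), ([11, 11, 12, 10, 10, 12, 12, 11, 11], [8, 8, 7, 7, 8, 7, 9, 7, 8, 6, 8, 6]), ([12, 12], [9, 7, 8, 6, 9, 7, 8, 6]), ([12, 11, 11, 12, 10, 10, 12, 12, 11, 11], [6, 6, 9, 7, 8, 7, 7, 9, 6, 8, 8, 6]), ([13], [7,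 9, 6, 8])]), (82, [([], []), ([11, 11, 12, 12, 10, 10, 12, 11, 11], [9, 9, 6, 6, 9, 6, 6, 8]), ([13, 10, 10, 12, 11, 11], [8, 7, 7, 8, 6, 8, 6, 9, 7, 7, 8, 7]), ([13, 10, 10, 12, 11, 11, 12, 10, 10], [9, 7, 7, 8, 7, 7, 8, 8]), ([10, 13, 10, 10, 10, 13, 10, 12, 10, 10], [7, 9, 9, 6, 6, 6, 8, 6, 9, 6, 8, 6])]), (91, [([], []), ([10, 13, 10, 10, 10, 13, 10], [9, 7, 9, 9, 6, 8, 6, 6, 6, 9]), ([12, 11, 11, 12, 12, 10, 10, 13], [9, 9, 6, 6, 9, 6, 8, 8, 7, 7, 8, 7]), ([11, 12, 10, 10, 10, 12, 11], [8, 6, 8, 8, 7, 9, 6, 6, 6, 8])]), (7, [([], []), ([10, 10, 12, 11, 11, 12, 12, 10, 10], [7, 9, 7, 8, 7, 9, 6, 6]), ([11, 11, 12, 12, 10, 10, 13, 11, 11], [7, 7, 8, 6, 9, 6, 8, 6])])]),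
   (28, [(36, [([], []), ([10], [10]), ([12, 10], [13, 10]), ([12, 12, 10], [12, 12, 10]), ([10, 12, 10], [10, 13, 10]), ([10, 12, 12, 10], [10, 12, 12, 10]), ([11, 13, 11, 12, 10], [13, 10, 12, 12, 10])]), (42, [([], []), ([12], [13]), ([11, 11, 12, 10, 10, 12, 12, 11, 11], [13, 11, 11, 12, 10, 10, 12, 11, 11]), ([12, 12], [12, 12]), ([12, 11, 11, 12, 10, 10, 12, 12, 11, 11], [12, 12, 11, 11, 12, 10, 10, 12, 11, 11]), ([13], [12])]), (82, [([], []), ([11, 11, 12, 12, 10, 10, 12, 11, 11], [11, 11, 12, 12, 10, 10, 13, 11, 11]), ([13, 10, 10, 12, 11, 11], [12, 10, 10, 13, 11, 11]), ([13, 10, 10, 12, 11, 11, 12, 10, 10], [10, 10, 12, 11, 11, 12, 12, 10, 10]), ([10, 13, 10, 10, 10, 13, 10, 12, 10, 10], [13, 11, 11, 12, 11, 11, 12, 12, 10, 10])]), (91, [([], []), ([10, 13, 10, 10, 10,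 13, 10], [10, 12, 10, 10, 10, 12, 10]), ([12, 11, 11, 12, 12, 10, 10, 13], [13, 11, 11, 12, 12, 10, 10, 12]), ([11, 12, 10, 10, 10, 12, 11], [11, 13, 10, 10, 10, 13, 11])]), (7, [([], []), ([10, 10, 12, 11, 11, 12, 12, 10, 10], [13, 10, 10, 12, 11, 11, 12, 10, 10]), ([11, 11, 12, 12, 10, 10, 13, 11, 11], [11, 11, 12, 12, 10, 10, 12, 11, 11])])]),
   (48, [(36, [([], []), ([12, 11, 11, 12, 11], [6, 8, 8, 6, 8, 8, 7, 7, 8, 8]), ([10, 10, 12, 11, 11, 12, 11], [8, 6, 6, 9, 6, 8, 6, 6, 6, 9, 9, 7]), ([12, 11, 13, 11, 12, 11], [8, 8, 7, 7, 8, 7, 7, 9, 6, 8, 8, 6]), ([12, 10, 10, 10, 13, 10, 10, 10, 12, 11], [9, 7, 7, 9, 6, 8, 6, 6, 9, 7, 8, 7]), ([10, 13, 10, 10, 13], [9, 9, 6, 6, 9, 9, 7, 9, 9, 7])]), (45, [([], []), ([10, 10], [6, 6, 9, 9, 6, 6, 6, 8, 7, 9]), ([11, 11], [8, 6, 9, 6,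 6, 6, 8, 8, 7, 7]), ([12, 12, 11, 11, 13, 11, 11, 13], [7, 9, 9, 7, 8, 6, 6, 8]), ([13, 10, 10, 12, 12, 11, 11, 12, 10, 10], [8, 6, 6, 8])]), (51, [([], []), ([10, 12, 11, 11, 13, 10, 12], [9, 6, 6, 9, 7, 9, 7, 8, 8, 7]), ([13, 10, 12, 11, 11, 13, 10], [6, 8, 8, 8, 7, 9, 6, 6, 6, 8]), ([12, 10, 13, 11, 11, 12, 10, 13, 11, 11], [6, 8, 8, 8, 7, 9, 7, 7, 9, 7, 8, 7])]), (7, [([], []), ([12, 12, 10, 10, 13, 10, 10, 13], [9, 7, 8, 6, 6, 6, 9, 9, 6, 6]), ([12, 11, 11, 12, 11, 11, 12, 12], [7, 7, 8, 8, 6, 6, 6, 9, 6, 8])])]),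
   (51, [(42, [([], []), ([12], [11, 12, 10, 10, 12, 11, 13, 11, 12]), ([10, 10], [13, 10, 12, 11, 11, 12, 10, 13, 11, 11]), ([12, 12], [10, 13, 11, 11, 12, 12, 10, 10, 13, 10, 10]), ([11, 11], [13, 11, 11, 13, 10, 12, 12, 10, 10, 12]), ([10, 10, 12, 12], [11, 12, 12, 10, 10, 10, 13, 10, 10, 10])]), (82, [([], []), ([12, 12, 10, 10, 12], [11, 12, 10, 13, 11, 11, 12, 11]), ([12, 12, 10, 10, 12, 12, 10, 10], [10, 12, 12, 11, 11, 12, 12, 10, 10, 13, 10]), ([12, 11, 13, 10, 10, 10, 13, 11], [13, 10, 12, 11, 11, 12, 12]), ([13, 11, 11, 12, 10, 13, 11, 11, 12, 11], [10, 12, 12, 11, 11, 13, 10, 12, 11])]), (91, [([], []), ([12, 10, 10, 12, 12, 10, 10, 12], [12, 12, 10, 10, 12, 12, 11, 11, 12, 11, 11]), ([10, 10, 12, 12, 11, 11, 12, 10, 10], [12, 11, 11, 12, 11, 11, 12, 12]), ([13, 10, 10,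 13, 10, 10, 13], [12, 12, 10, 10, 12, 10, 10, 12])]), (7, [([], []), ([10, 10, 12, 11, 11, 12, 12, 10, 10], [13, 11, 11, 12, 12, 10, 10, 13]), ([11, 11, 12, 12, 10, 10, 13, 11, 11], [12, 11, 11, 12, 12, 10, 10, 12])])]),
   (53, [(42, [([], []), ([12], [51, 20, 18, 51, 20]), ([10, 10], [21, 50, 50]), ([12, 12], [50, 50, 22, 20, 18]), ([11, 11], [50, 50, 20]), ([10, 10, 12, 12], [21, 22, 20, 18])]), (82, [([], []), ([12, 12, 10, 10, 12], [50, 22, 18, 51, 18]), ([12, 12, 10, 10, 12, 12, 10, 10], [22, 18, 22, 18]), ([12, 11, 13, 10, 10, 10, 13, 11], [20, 22, 18, 20, 18]), ([13, 11, 11, 12, 10, 13, 11, 11, 12, 11], [51, 20, 20, 50])]), (91, [([], []), ([12, 10, 10, 12, 12, 10, 10, 12], [50, 20, 50, 20]), ([10, 10, 12, 12, 11, 11, 12, 10, 10], [51, 21, 18, 51, 18]), ([13, 10, 10, 13,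 10, 10, 13], [21, 22, 46, 46])]), (7, [([], []), ([10, 10, 12, 11, 11, 12, 12, 10, 10], [22, 18, 50, 50]), ([11, 11, 12, 12, 10, 10, 13, 11, 11], [50, 50, 18, 22])])]),
   (54, [(42, [([], []), ([12], [18, 21, 18, 22, 18]), ([10, 10], [22, 47, 22, 46]), ([12, 12], [46, 22, 47]), ([11, 11], [47, 22, 46, 22]), ([10, 10, 12, 12], [46, 46, 22])]), (82, [([], []), ([12, 12, 10, 10, 12], [51, 21, 18, 50]), ([12, 12, 10, 10, 12, 12, 10, 10], [46, 46]), ([12, 11, 13, 10, 10, 10, 13, 11], [47, 22, 47, 18]), ([13, 11, 11, 12, 10, 13, 11, 11, 12, 11], [46, 46, 18, 21, 18])]), (91, [([], []), ([12, 10, 10, 12, 12, 10, 10, 12], [21, 18, 20]), ([10, 10, 12, 12, 11, 11, 12, 10, 10], [18, 20, 50, 50, 18]), ([13, 10, 10, 13, 10, 10, 13], [51, 20, 18, 51])]), (7, [([], []), ([10, 10, 12, 11, 11, 12,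 12, 10, 10], [18, 50, 20, 50, 18]), ([11, 11, 12, 12, 10, 10, 13, 11, 11], [18, 51, 21, 51, 18])])]),
   (56, [(42, [([], []), ([12, 12], [12, 10, 13, 11, 11, 12, 10, 13]), ([11, 12, 10, 10, 13, 10, 12], [13, 10, 10, 10, 12, 11, 11, 12, 12]), ([12, 11, 11, 12, 12, 10, 10, 13, 11, 11], [13, 11, 12, 12, 10, 10, 10, 13]), ([13, 11, 11, 12, 12, 10, 10, 13, 11, 11], [10, 12, 12, 11, 11, 13, 10, 12, 11])]), (82, [([], []), ([12, 12, 11, 11, 13, 11, 11], [11, 13, 10, 10]), ([12, 10, 13, 11, 11, 12, 10, 13, 11, 11], [11, 12, 10, 13, 10, 12, 10, 10]), ([10, 10, 12, 12, 10, 10, 13], [11, 13, 10, 12, 12, 10])]), (7, [([], []), ([13, 10, 10, 13, 10, 10, 13], [11, 11, 13, 11, 12, 10]), ([12, 11, 11, 12, 11, 11, 12], [11, 13, 10, 12, 10, 10])])]),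
   (58, [(14, [([], []), ([10, 12, 11, 13, 11, 11], [32, 31]), ([12, 12, 11, 11, 13, 10, 12], [52, 32, 52, 31]), ([10, 13, 11, 12, 12, 11], [30, 33]), ([10, 10, 12, 12, 10, 10, 12, 11, 11], [31, 33, 30])]), (461, [([], []), ([11, 12, 12, 10], [52, 52, 32]), ([11, 11, 12, 10], [31]), ([11, 12, 10, 13, 10, 10], [52, 52, 32, 31])]), (8, [([], []), ([11, 11, 13, 10], [33, 31, 32, 30]), ([11, 12, 10, 10], [52, 52, 32, 30])])]),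
   (61, [(14, [([], []), ([10, 12, 11, 13, 11, 11], [47, 22, 46, 22]), ([12, 12, 11, 11, 13, 10, 12], [47, 22, 46, 22, 18]), ([10, 13, 11, 12, 12, 11], [22, 47, 22, 46]), ([10, 10, 12, 12, 10, 10, 12, 11, 11], [18, 21, 22, 18])]), (461, [([], []), ([11, 12, 12, 10], [50, 21, 51, 20]), ([11, 11, 12, 10], [46, 46, 22, 20]), ([11, 12, 10, 13, 10, 10], [46, 22, 47, 22])]), (8, [([], []), ([11, 11, 13, 10], [21, 47, 22, 46]), ([11, 12, 10, 10], [51, 18, 51, 18])])]),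
   (65, [(8, [([], []), ([11, 11, 12, 12, 10, 10, 13, 10, 10], [30, 33, 31]), ([12, 12, 11, 11, 12, 12, 10, 10, 13, 10, 10], [32, 30, 32]), ([11, 11, 13, 11, 12, 10, 10, 10, 12, 10], [31, 32, 32]), ([10, 13, 11, 12, 10, 13, 11, 11, 12, 12, 10], [33, 30, 32, 30])]), (7, [([], []), ([12, 12], [52, 32, 52])])]),
   (70, [(16, [([], []), ([12, 12, 10], [29, 25]), ([12, 11, 13, 11, 12, 10], [29, 25, 29, 25]), ([10, 10, 12, 12, 11, 11, 12, 12, 10, 10], [28, 26, 29, 24]), ([11, 12, 10, 13, 10, 12], [24, 28, 24, 28])]), (7, [([], []), ([11, 11, 12, 10, 13, 10, 12, 10, 10, 10], [28, 25, 27, 24])])]),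
   (12, [(36, [([], []), ([48, 48], [7, 8, 7, 9, 6, 8, 8, 8, 6, 8, 7, 9, 6]), ([16, 48, 48], [9, 9, 6, 6, 8, 8, 6, 8, 7, 9, 6]), ([49, 49], [9, 6, 8, 7, 9, 6, 6, 6, 9, 6, 6, 9, 6]), ([16, 49, 49], [8, 7, 7, 9, 7, 8, 7, 7, 9, 7]), ([14, 14, 16, 48, 48, 16], [6, 8, 6, 9, 7, 7, 9, 6, 6, 8, 8]), ([49, 15, 16, 15, 49, 15], [8, 6, 9, 6, 8, 8, 6, 8, 8, 6, 6])]), (42, [([], []), ([49, 49, 16, 16, 48, 48], [6, 8, 6, 6, 9, 7, 8, 7, 9, 7, 8, 6]), ([16, 14, 14, 16, 48, 48, 15], [7, 9, 9, 7, 9, 9, 6, 8, 7, 7]), ([48, 48, 14, 16], [8, 6, 8, 6, 9, 7, 7, 8, 7, 9, 6, 6]), ([48, 48, 16, 49, 49, 17, 14], [6, 6, 9, 9, 6, 6, 8, 6, 6, 8]), ([16, 14, 17, 48, 48, 16, 14], [8, 8, 7, 9, 6, 6, 6, 8, 8, 6])]), (82, [([], []), ([49, 15, 17, 15, 48, 15, 15], [8, 6, 6, 8, 8, 8, 7, 7, 8, 7, 7, 9]), ([17, 14, 14,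 16, 15, 15], [6, 8, 8, 8, 7, 9, 7, 7, 9, 7, 8, 7]), ([15, 15, 17, 15, 15, 17], [8, 8, 7, 7, 9, 9, 7, 7, 8, 8]), ([49, 14, 16, 15, 15, 49, 14], [7, 9, 7, 8, 7, 9, 6, 6])]), (91, [([], []), ([49, 49, 17, 15, 48, 48], [8, 6, 6, 8, 8, 6, 9, 7, 8, 6, 8, 6]), ([14, 16, 49, 49, 14, 16, 14], [8, 8, 7, 9, 7, 7, 9, 7, 8, 7, 7, 9]), ([49, 49, 14, 16, 48, 48], [8, 8, 7, 7, 8, 7, 9, 7, 8, 6, 8, 6])]), (7, [([], []), ([17, 48, 14, 14, 14, 49, 14, 14], [9, 7, 7, 8, 7, 7, 8, 8]), ([49, 14, 16, 14, 48, 17, 14, 14], [9, 9, 6, 6, 9, 6, 6, 8])])]),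
   (16, [(36, [([], []), ([48, 48], [10, 10, 12, 12, 10]), ([16, 48, 48], [12, 10, 10, 12, 12, 10]), ([49, 49], [11, 12, 12, 11, 11]), ([16, 49, 49], [10, 13, 10, 12, 11, 11]), ([14, 14, 16, 48, 48, 16], [10, 10, 12, 10, 10, 12, 11, 13, 11]), ([49, 15, 16, 15, 49, 15], [11, 11, 13, 10, 10, 10, 12, 12])]), (42, [([], []), ([49, 49, 16, 16, 48, 48], [12, 12, 10, 10, 12, 12, 11, 11, 12, 12]), ([16, 14, 14, 16, 48, 48, 15], [12, 10, 10, 12, 10, 10, 12, 12]), ([48, 48, 14, 16], [10, 10, 12, 12, 10, 10, 12]), ([48, 48, 16, 49, 49, 17, 14], [13, 10, 10, 12, 10, 10, 12, 12, 10, 10]), ([16, 14, 17, 48, 48, 16, 14], [12, 12, 11, 11, 13, 11, 11, 13])]), (82, [([], []), ([49, 15, 17, 15, 48, 15, 15], [13, 11, 11, 12, 11, 11, 12, 12]), ([17, 14, 14, 16, 15, 15], [13, 10, 10, 12, 11, 11]), ([15,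 15, 17, 15, 15, 17], [11, 11, 13, 11, 11, 13]), ([49, 14, 16, 15, 15, 49, 14], [13, 10, 10, 12, 11, 11, 12, 10, 10])]), (91, [([], []), ([49, 49, 17, 15, 48, 48], [10, 10, 12, 12, 11, 11, 12, 10, 10]), ([14, 16, 49, 49, 14, 16, 14], [12, 11, 11, 12, 11, 11, 12]), ([49, 49, 14, 16, 48, 48], [13, 11, 11, 12, 10, 10, 12, 11, 11])]), (7, [([], []), ([17, 48, 14, 14, 14, 49, 14, 14], [10, 10, 12, 11, 11, 12, 12, 10, 10]), ([49, 14, 16, 14, 48, 17, 14, 14], [11, 11, 12, 12, 10, 10, 13, 11, 11])])]),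
   (39, [(0, [([], []), ([14, 49, 49, 16, 16, 48, 40], [22, 18, 21, 50])]), (14, [([], []), ([16, 16, 48, 48, 16, 15, 15], [51, 21, 18, 50, 18]), ([48, 48, 17, 15, 15, 16], [21, 18, 20, 22]), ([14, 17, 49, 49, 16, 14, 14], [22, 18, 21, 22]), ([48, 15, 17, 14, 14, 49], [51, 18, 21, 51])]), (461, [([], []), ([15, 16, 15, 48, 48], [20, 18, 50, 50]), ([49, 49, 14, 17, 14], [50, 50, 18, 21]), ([15, 15, 16, 14], [18, 50, 50, 21, 18])]), (8, [([], []), ([15, 16, 14, 14], [18, 50, 20, 50, 18]), ([15, 15, 17, 14], [18, 51, 21, 51, 18])])]),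
   (44, [(0, [([], []), ([17, 49, 49, 16, 48, 40], [31, 52])]), (7, [([], []), ([14, 16, 49, 49, 14], [31]), ([49, 15, 15, 16, 14, 48], [52, 52, 33, 31]), ([15, 48, 48, 17, 15], [30]), ([49, 15, 17, 15, 48, 14, 17, 14], [52, 30, 52])]), (461, [([], []), ([49, 49, 14, 16, 14], [32, 31, 33, 30]), ([15, 17, 15, 48, 48], [52, 52, 33, 30]), ([15, 17, 14, 14], [33, 30])]), (8, [([], []), ([15, 15, 17, 14], [30, 33]), ([15, 16, 14, 14], [32, 31])])]),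
   (6, [(0, [([], []), ([21, 51, 18, 21, 18], [54, 34])]), (16, [([], []), ([46, 20, 46, 22], [34])])]),
   (14, [(3, [([], []), ([22], [6, 8, 7, 9, 9, 6, 6, 6, 8, 8, 6, 9, 7]), ([51, 18, 20, 51, 18], [6, 9, 7, 8, 6, 6, 9, 6, 6, 9]), ([22, 47, 18, 47], [7, 9, 7, 7, 9, 9, 7, 9, 6, 6, 6]), ([18, 46, 22, 46], [8, 6, 8, 6, 6, 6, 8, 6, 6, 8, 7, 7, 8]), ([46, 46, 18, 21], [6, 9, 6, 6, 9, 7, 7, 9, 6, 8, 7])]), (8, [([], []), ([47, 20, 46, 20], [6, 9, 7, 8, 8, 8, 6, 8, 7]), ([50, 18, 51, 18], [8, 7, 7, 9, 9, 7, 7, 9, 6, 8, 7]), ([18, 21, 22, 18], [8, 6, 8, 8, 7, 7, 8, 8, 6]), ([47, 22, 47, 22], [7, 8, 6, 9, 9, 7, 8, 7, 7])]), (370, [([], []), ([51, 18, 51, 18], [8, 7, 7, 9, 9, 7, 7, 8, 8, 6, 8, 7]), ([21, 47, 22, 46], [6, 9, 7, 9, 9, 6, 6, 8, 8, 6, 6, 9]), ([46, 22, 47, 22], [7, 8, 6, 8,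 8, 8, 7, 7, 9, 7])]), (7, [([], []), ([50, 50, 18], [8, 8, 8, 6, 6, 9, 6, 6, 8, 8]), ([18, 50, 50], [9, 9, 7, 7, 8, 7, 7, 8, 8, 8])])]),
   (19, [(3, [([], []), ([22], [50, 18, 50, 21]), ([51, 18, 20, 51, 18], [18, 20, 20, 22, 20]), ([22, 47, 18, 47], [22, 46, 46, 22, 18]), ([18, 46, 22, 46], [50, 21, 18, 51]), ([46, 46, 18, 21], [46, 46, 20])]), (8, [([], []), ([47, 20, 46, 20], [50, 50, 22, 20]), ([50, 18, 51, 18], [22, 21, 22, 21]), ([18, 21, 22, 18], [20, 20, 50, 50]), ([47, 22, 47, 22], [20, 20, 22])]), (370, [([], []), ([51, 18, 51, 18], [50, 20, 51, 20]), ([21, 47, 22, 46], [20, 20, 22, 20]), ([46, 22, 47, 22], [50, 20, 50])]), (7, [([], []), ([50, 50, 18], [21, 21, 22]), ([18, 50, 50], [22, 20, 20])])]),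
   (38, [(0, [([], []), ([50, 22], [48, 16, 49, 49, 40, 14, 16])]), (7, [([], []), ([21, 22, 20], [17, 49, 49, 16, 14, 17, 14]), ([51, 21, 51, 20], [17, 49, 49, 16, 14, 14, 14]), ([21, 21, 22], [15, 16, 14, 14]), ([50, 50, 21, 21], [14, 16, 15, 17, 48, 48, 14])]), (20, [([], []), ([21, 21, 22, 21], [48, 15, 48, 48, 17, 15, 49]), ([22], [14, 48, 15, 17, 15, 49, 14, 14]), ([18, 20, 50, 50, 18], [15, 15, 16, 14])]), (3, [([], []), ([47, 21, 47, 20, 18], [49, 14, 16, 14, 49]), ([47, 22, 20, 46, 18], [48, 15, 17, 15, 48])])]),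
   (40, [(0, [([], []), ([50, 22], [50, 22])]), (20, [([], []), ([18, 47, 18, 47], [18, 47, 18, 47]), ([20, 18], [20, 18]), ([47, 21, 47], [47, 21, 47]), ([18, 51, 20, 50], [18, 51, 20, 50])]), (172, [([], []), ([47, 22, 20, 46, 18], [47, 22, 20, 46, 18]), ([22, 20, 18, 20, 18], [22, 20, 18, 20, 18]), ([47, 21, 47, 20, 18], [47, 21, 47, 20, 18])]), (3, [([], []), ([22, 47, 18, 46], [22, 47, 18, 46]), ([50, 50, 20, 18], [50, 50, 20, 18])])]),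
   (42, [(0, [([], []), ([50, 22], [52, 32, 30, 32])]), (20, [([], []), ([18, 47, 18, 47], [31, 32, 32]), ([20, 18], [33, 31]), ([47, 21, 47], [30, 32, 31]), ([18, 51, 20, 50], [31, 32, 31])]), (172, [([], []), ([47, 22, 20, 46, 18], [32, 31, 33, 30]), ([22, 20, 18, 20, 18], [31]), ([47, 21, 47, 20, 18], [52, 52, 33, 30])]), (3, [([], []), ([22, 47, 18, 46], [52, 31, 52, 30]), ([50, 50, 20, 18], [52, 52, 33, 31])])]),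
   (43, [(0, [([], []), ([50, 22], [52, 32, 30, 32])]), (20, [([], []), ([18, 47, 18, 47], [31, 32, 32]), ([20, 18], [33, 31]), ([47, 21, 47], [30, 32, 31]), ([18, 51, 20, 50], [31, 32, 31])]), (172, [([], []), ([47, 22, 20, 46, 18], [32, 31, 33, 30]), ([22, 20, 18, 20, 18], [31]), ([47, 21, 47, 20, 18], [52, 52, 33, 30])]), (3, [([], []), ([22, 47, 18, 46], [52, 31, 52, 30]), ([50, 50, 20, 18], [52, 52, 33, 31])])]),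
   (49, [(3, [([], []), ([22], [12, 12, 11, 11, 12, 12, 10, 10, 12, 12]), ([51, 18, 20, 51, 18], [13, 11, 11, 12, 12]), ([22, 47, 18, 47], [13, 11, 11, 12, 11, 11, 12, 10, 10]), ([18, 46, 22, 46], [11, 11, 12, 12, 11, 11, 13, 10, 10]), ([46, 46, 18, 21], [13, 11, 11, 13, 11, 11])]), (8, [([], []), ([47, 20, 46, 20], [10, 13, 11, 12, 10, 13, 11, 11, 12, 12, 10]), ([50, 18, 51, 18], [12, 11, 11, 12, 12, 10, 10, 13, 11, 11]), ([18, 21, 22, 18], [11, 11, 13, 11, 11]), ([47, 22, 47, 22], [11, 12, 10, 10, 13, 10, 12])]), (370, [([], []), ([51, 18, 51, 18], [10, 10, 12, 12, 10, 10, 13]), ([21, 47, 22, 46], [12, 11, 11, 12, 12, 11, 11]), ([46, 22, 47, 22], [13, 11, 11, 13, 10, 10])]), (7, [([], []), ([50, 50, 18], [12, 12, 11, 11, 13, 11, 11]), ([18, 50, 50], [10, 10, 12, 10, 10, 12, 12])])]),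
   (52, [(3, [([], []), ([22], [12, 12, 10, 10, 12, 12, 11, 11, 12, 12]), ([51, 18, 20, 51, 18], [10, 10, 13, 11, 12, 10, 10, 10, 12, 10]), ([22, 47, 18, 47], [13, 10, 10, 13, 10, 10]), ([18, 46, 22, 46], [13, 11, 11, 12, 11, 11, 12, 12]), ([46, 46, 18, 21], [10, 12, 11, 11, 13, 10, 12, 12, 10, 10])]), (8, [([], []), ([47, 20, 46, 20], [10, 12, 11, 11, 13, 10]), ([50, 18, 51, 18], [12, 11, 13, 10, 10, 12, 10]), ([18, 21, 22, 18], [10, 10, 12, 10, 10, 12, 12, 11, 11, 13]), ([47, 22, 47, 22], [12, 12, 11, 11, 12, 12, 10, 10])]), (370, [([], []), ([51, 18, 51, 18], [13, 11, 12, 10, 10, 13, 10, 12]), ([21, 47, 22, 46], [12, 12, 10, 10, 12, 10, 10, 12]), ([46, 22, 47, 22], [10, 10, 12, 12, 11, 11, 12, 12])]), (7, [([], []), ([50, 50, 18], [10, 12, 11, 11, 13, 11]), ([18, 50, 50], [13,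 11, 11, 12, 11, 11])])]),
   (60, [(3, [([], []), ([22], [12, 12, 10, 10, 12, 12, 11, 11, 12, 11, 11]), ([51, 18, 20, 51, 18], [12, 10, 13, 10, 10, 13, 11, 11, 13]), ([18, 46, 22, 46], [12, 10, 10, 13, 10, 10, 13, 11]), ([51, 21, 18, 51, 18], [12, 11, 13, 10, 12, 10, 10, 10, 12, 12])]), (370, [([], []), ([21, 47, 22, 46], [11, 13, 10, 12, 10, 10]), ([51, 18, 51, 18], [11, 11, 13, 11, 12, 10]), ([21, 22, 46, 46], [11, 13, 10, 12, 12, 10])]), (7, [([], []), ([18, 50, 50], [11, 11, 13, 10]), ([50, 50, 18], [11, 12, 10, 10])])]),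
   (63, [(8, [([], []), ([50, 50], [52, 52, 33]), ([47, 20, 22, 46], [30, 32, 31]), ([51, 21, 51, 20, 18], [31, 32]), ([46, 20, 22, 47], [52, 33, 52, 30])]), (370, [([], []), ([21, 47, 22, 46], [33, 31, 32]), ([46, 20, 46, 22], [52, 33, 52]), ([51, 18, 51, 18], [33, 30, 32])]), (7, [([], []), ([50, 50, 18], [30, 33]), ([18, 50, 50], [32, 31])])]),
   (76, [(3, [([], []), ([47, 22, 47, 18], [31, 32, 32]), ([51, 18, 20, 50], [30, 32, 31]), ([51, 21, 18, 50], [30, 33, 31]), ([18, 22, 18], [52, 31, 52])]), (16, [([], []), ([46, 20, 46, 22], [33, 30, 32, 30])])]),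
   (77, [(3, [([], []), ([47, 22, 47, 18], [51, 21, 18, 50]), ([51, 18, 20, 50], [47, 22, 47, 18]), ([51, 21, 18, 50], [18, 46, 22, 46]), ([18, 22, 18], [46, 20, 46, 22])]), (16, [([], []), ([46, 20, 46, 22], [50, 20, 50, 20])])]),
   (79, [(3, [([], []), ([47, 22, 47, 18], [26, 24, 24, 26]), ([51, 18, 20, 50], [26, 26, 24]), ([51, 21, 18, 50], [27, 27, 25]), ([18, 22, 18], [29, 29, 27, 25])]), (16, [([], []), ([46, 20, 46, 22], [26, 28, 28, 24])])]),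
   (81, [(3, [([], []), ([47, 22, 47, 18], [26, 26, 24]), ([51, 18, 20, 50], [27, 25, 25, 27]), ([51, 21, 18, 50], [26, 24, 24, 26]), ([18, 22, 18], [29, 29, 26])]), (16, [([], []), ([46, 20, 46, 22], [29, 29, 27, 25])])]),
   (87, [(0, [([], []), ([50, 21, 21], [53, 31, 32, 32])]), (7, [([], []), ([50, 21, 51, 20], [32, 31, 33, 31])])]),
   (15, [(3, [([], []), ([28, 26], [9, 7, 9, 9, 6, 6, 8, 6, 9, 7, 8, 8, 6]), ([26, 24, 26], [8, 8, 8, 7, 9, 9, 6, 6, 9, 9, 6]), ([27, 28, 24], [8, 7, 9, 7, 8, 6, 6, 9, 9, 7, 8, 8]), ([27, 27], [8, 7, 9, 9, 7, 9, 6, 8, 6, 9, 7, 8, 8]), ([26, 29, 24], [6, 8, 8, 6, 8, 7, 9, 6, 8, 8, 6, 6, 6]), ([28, 28, 25, 28], [6, 6, 9, 6, 8, 7, 9, 9, 7, 9]), ([29, 27], [9, 7, 7, 8, 6, 6, 9, 6, 8, 7, 9]), ([28, 28, 24], [7, 7, 8, 8, 6, 6, 8, 7, 9, 6, 6]), ([27, 28,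 24, 24], [6, 8, 7, 9, 6, 6, 8, 7, 7, 9, 6]), ([27, 24, 28], [6, 9, 7, 9, 9, 7, 7, 9, 9, 6, 8, 8, 6]), ([26, 26, 24], [9, 7, 7, 9, 6, 8, 6, 6, 9, 7, 8, 7]), ([28, 27, 24, 24], [7, 8, 8, 6, 9, 9, 7, 8, 6, 9, 7, 7, 8, 6]), ([25, 29, 29, 24], [9, 6, 8, 8, 6, 8, 7, 7, 8, 7]), ([29, 29, 26, 25], [6, 6, 8, 6, 9, 7, 8, 7, 7, 8, 8, 8]), ([25, 25, 29, 29], [7, 8, 8, 7, 9, 9, 7, 9, 7, 8, 8, 6]), ([25, 28, 28, 24], [6, 8, 7, 9, 6, 6, 8, 6, 9, 6]), ([60, 26, 29, 60], [8, 7, 9, 9, 7, 8, 7, 7, 9, 9, 6, 6, 6, 8]), ([28, 28, 24, 24], [7, 8, 8, 8, 7, 9, 7, 8, 6, 9, 9, 6]), ([27, 28, 25, 25], [7, 9, 9, 6, 8, 8, 7, 9, 7]), ([28, 24, 28], [9, 7, 9, 6, 8, 7, 9, 7, 8, 6, 9, 9, 7]), ([27, 25, 27, 24], [9, 9, 7, 7, 9, 9, 6, 6, 8, 6, 9, 7, 7]), ([29, 29, 24], [6, 9, 7, 7, 8, 7, 9, 7, 8, 6, 9, 7]), ([60, 26,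 60, 28], [8, 7, 9, 7, 7, 8, 8, 7, 7, 9, 6]), ([27, 60, 25, 60], [6, 6, 6, 9, 6, 8, 6, 6, 9, 6, 6, 6, 8])]), (8, [([], []), ([24, 28, 24, 28], [6, 6, 8, 8, 8, 7, 7, 9, 6, 6, 9, 7]), ([28, 25, 27, 24], [7, 8, 6, 9, 6, 6, 6, 8, 7, 9, 6]), ([29, 25], [7, 7, 9, 7, 8, 8, 6, 6, 9, 6, 8, 6]), ([27, 28, 25], [9, 7, 9, 6, 8, 8, 6, 8, 8, 7, 9, 6])]), (7, [([], []), ([29, 29, 26], [8, 6, 9, 7, 8, 6, 9, 7])])]),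
   (21, [(3, [([], []), ([28, 26], [28, 26, 29]), ([26, 24, 26], [27, 27, 24, 24]), ([27, 28, 24], [27, 29, 25, 25]), ([27, 27], [26, 26]), ([26, 29, 24], [60, 24, 60, 27]), ([28, 28, 25, 28], [24, 24, 29]), ([29, 27], [28, 26]), ([28, 28, 24], [25, 25, 28]), ([27, 28, 24, 24], [28, 26, 24]), ([27, 24, 28], [26, 29, 25, 25]), ([26, 26, 24], [26, 24, 24, 26]), ([28, 27, 24, 24], [28, 27, 29, 24]), ([25, 29, 29, 24], [25, 29, 24]), ([29, 29, 26, 25], [60, 25, 60, 26]), ([25, 25, 29, 29], [25, 25, 29, 24]), ([25, 28, 28, 24], [25, 28, 24]), ([60, 26, 29, 60], [25, 27]), ([28, 28, 24, 24], [25, 28, 24, 24]), ([27, 28, 25, 25], [28, 27, 25]), ([28, 24, 28], [24, 24, 28, 24]), ([27, 25, 27, 24], [24]), ([29, 29, 24], [24, 29, 24, 24]), ([60, 26, 60, 28], [29, 27, 28, 25]), ([27, 60, 25,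 60], [24, 24, 26, 24])]), (8, [([], []), ([24, 28, 24, 28], [24, 28]), ([28, 25, 27, 24], [28, 26, 29, 24]), ([29, 25], [24, 28, 24, 28]), ([27, 28, 25], [28, 25, 27, 24])]), (7, [([], []), ([29, 29, 26], [29, 29, 26])])]),
   (22, [(3, [([], []), ([28, 26], [28, 27, 24, 24]), ([26, 24, 26], [29, 29, 25, 25]), ([27, 28, 24], [27, 60, 24, 60]), ([27, 27], [26, 24, 26, 24]), ([26, 29, 24], [29, 27, 25]), ([28, 28, 25, 28], [28, 25, 28, 24]), ([29, 27], [24, 26, 24]), ([28, 28, 24], [25, 29, 29, 24]), ([27, 28, 24, 24], [26, 29, 25]), ([27, 24, 28], [60, 25, 60, 27]), ([26, 26, 24], [28, 28, 24, 24]), ([28, 27, 24, 24], [28, 28, 26, 24]), ([25, 29, 29, 24], [25, 29, 25, 25]), ([29, 29, 26, 25], [27, 28, 24, 24]), ([25, 25, 29, 29], [25, 25]), ([25, 28, 28, 24], [24, 24, 28, 24]), ([60,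 26, 29, 60], [27, 24, 24]), ([28, 28, 24, 24], [24, 24]), ([27, 28, 25, 25], [27, 28, 24]), ([28, 24, 28], [29, 29]), ([27, 25, 27, 24], [25, 29]), ([29, 29, 24], [26, 29, 26, 25]), ([60, 26, 60, 28], [28, 27]), ([27, 60, 25, 60], [29, 26, 28, 25])]), (8, [([], []), ([24, 28, 24, 28], [26, 26, 24, 24]), ([28, 25, 27, 24], [28, 26, 29, 24]), ([29, 25], [26, 24, 26]), ([27, 28, 25], [60, 28, 26, 60, 24])]), (7, [([], []), ([29, 29, 26], [28, 27, 29, 25])])]),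
   (23, [(3, [([], []), ([28, 26], [29, 27, 28, 25, 25]), ([26, 24, 26], [29, 25]), ([27, 28, 24], [27, 28, 25, 25]), ([27, 27], [27, 25, 27, 25]), ([26, 29, 24], [28, 28, 27, 25]), ([28, 28, 25, 28], [26, 29, 26]), ([29, 27], [25, 25, 27]), ([28, 28, 24], [27, 28, 26]), ([27, 28, 24, 24], [29, 29, 26, 25]), ([27, 24, 28], [60, 26, 60]), ([26, 26, 24], [28, 24]), ([28, 27, 24, 24], [28, 26]), ([25, 29, 29, 24], [28, 28, 24]), ([29, 29, 26, 25], [60, 24, 60, 26]), ([25, 25, 29, 29], [27, 27, 25]), ([25, 28, 28, 24], [25, 29, 29]), ([60, 26, 29, 60], [26, 25, 25]), ([28, 28, 24, 24], [26, 26, 24]), ([27, 28, 25, 25], [28, 26, 29]), ([28, 24, 28], [24, 29, 25]), ([27, 25, 27, 24], [24, 24, 28, 28]), ([29, 29, 24], [29, 24, 29, 24]), ([60, 26, 60, 28], [60, 25, 60, 26]), ([27, 60, 25,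 60], [26, 28, 25])]), (8, [([], []), ([24, 28, 24, 28], [24]), ([28, 25, 27, 24], [28, 25, 27, 25]), ([29, 25], [24, 24]), ([27, 28, 25], [28, 25, 27])]), (7, [([], []), ([29, 29, 26], [28, 25, 27, 25, 25])])]),
   (67, [(8, [([], []), ([27, 28, 27, 25], [12, 12, 10]), ([26, 25], [10, 12, 11, 13, 11, 12, 11, 11]), ([60, 25, 60], [12, 11, 13, 11, 12, 10]), ([29, 24, 26, 24], [10, 12, 12, 11, 11, 12, 12, 10, 10, 10])]), (3, [([], []), ([26, 28, 28, 24], [12, 12, 11, 11, 12, 12, 10, 10, 12, 12, 11])])]),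
   (71, [(8, [([], []), ([29, 25, 29, 25], [33, 33, 30]), ([27, 28, 25], [52, 52, 30]), ([28, 26, 29, 24], [52, 32, 52]), ([25, 27, 24, 24], [33, 30, 32, 30])]), (7, [([], []), ([29, 29, 26], [52, 31, 52])])]),
   (72, [(8, [([], []), ([29, 25, 29, 25], [30, 32, 31]), ([27, 28, 25], [52, 52, 30]), ([28, 26, 29, 24], [52, 31, 52]), ([25, 27, 24, 24], [52, 32, 52])]), (7, [([], []), ([29, 29, 26], [32, 30, 32])])]),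
   (73, [(8, [([], []), ([29, 25, 29, 25], [29, 25]), ([27, 28, 25], [27, 28, 25]), ([28, 26, 29, 24], [29, 29, 26]), ([25, 27, 24, 24], [28, 26, 29, 24])]), (7, [([], []), ([29, 29, 26], [28, 25, 27, 24])])]),
   (78, [(8, [([], []), ([29, 25, 29, 25], [51, 21, 18, 50]), ([27, 28, 25], [50, 20, 50, 20]), ([28, 26, 29, 24], [50, 18, 50, 21]), ([25, 27, 24, 24], [18, 22, 18])]), (7, [([], []), ([29, 29, 26], [22, 20, 18, 20])])]),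
   (82, [(3, [([], []), ([27, 25, 25, 27], [30, 33, 31]), ([26, 28, 28, 24], [52, 31, 52]), ([29, 29, 27, 25], [52, 52, 30]), ([29, 27, 28, 24, 24], [33, 30, 32, 30])]), (7, [([], []), ([29, 29, 26], [32, 30, 32])])]),
   (83, [(3, [([], []), ([27, 25, 25, 27], [51, 18, 20, 50]), ([26, 28, 28, 24], [50, 20, 50, 20]), ([29, 29, 27, 25], [46, 20, 46, 22]), ([29, 27, 28, 24, 24], [22, 20, 18, 20])]), (7, [([], []), ([29, 29, 26], [18, 22, 18])])]),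
   (84, [(3, [([], []), ([27, 25, 25, 27], [26, 26, 24]), ([26, 28, 28, 24], [29, 27, 28, 24, 24]), ([29, 29, 27, 25], [26, 28, 28, 24]), ([29, 27, 28, 24, 24], [29, 29, 26])]), (7, [([], []), ([29, 29, 26], [29, 29, 27, 25])])]),
   (98, [(3, [([], []), ([29, 29, 27, 25], [34])])]),
   (102, [(3, [([], []), ([26, 28, 25, 25], [52, 32, 52])])]),
   (103, [(7, [([], []), ([28, 26, 29, 24], [52, 32, 52])])]),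
   (104, [(7, [([], []), ([28, 26, 29, 24], [26, 28, 25, 25])])]),
   (7, [(0, [([], []), ([31, 52, 32], [56, 36])]), (370, [([], []), ([33, 31, 32, 30], [37, 38]), ([52, 52, 32, 30], [39, 36]), ([33, 33, 31], [38, 36])]), (7, [([], []), ([33, 30], [37]), ([31, 32], [36])])]),
   (17, [(8, [([], []), ([32], [10, 12, 11, 13, 10, 10, 12, 10]), ([32, 32], [13, 11, 12, 10, 10, 12, 12]), ([33, 33], [12, 12, 11, 11, 13, 10, 12]), ([33], [12, 10, 10, 13, 10, 10, 13, 11])]), (370, [([], []), ([32, 31, 33], [11, 12, 10, 13, 10, 10]), ([32, 30, 33], [11, 13, 10, 12, 12, 10]), ([52, 52, 32, 30], [11, 11, 13, 11, 12, 10])]), (7, [([], []), ([31, 32], [11, 11, 12, 10]), ([33, 30], [11, 13, 10, 10])])]),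
   (41, [(0, [([], []), ([52, 32], [17, 14, 14, 16, 48, 40])]), (8, [([], []), ([33, 33, 30], [14, 16, 48, 48, 15, 15]), ([30, 33, 31], [17, 14, 48, 48, 17]), ([30, 32, 31], [16, 49, 49, 15, 16]), ([31, 32, 32], [14, 14, 49, 49, 17, 15])]), (370, [([], []), ([31, 33, 31], [49, 15, 15, 17, 14, 48]), ([33, 31, 32, 30], [49, 17, 49, 17, 49, 15, 48, 14]), ([30, 32, 30], [49, 15, 16, 14, 14, 48])]), (7, [([], []), ([33, 30], [15, 17, 14, 14]), ([31, 32], [15, 15, 16, 14])])]),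
   (45, [(0, [([], []), ([52, 32], [50, 22, 20, 18])]), (8, [([], []), ([33, 33, 30], [46, 18, 46, 18]), ([30, 33, 31], [46, 20, 46]), ([30, 32, 31], [47, 21, 47]), ([31, 32, 32], [18, 47, 18, 47])]), (370, [([], []), ([31, 33, 31], [18, 51, 21, 51, 18]), ([33, 31, 32, 30], [50, 50, 18, 21]), ([30, 32, 30], [18, 50, 20, 50, 18])]), (7, [([], []), ([33, 30], [18, 20, 50, 50, 18]), ([31, 32], [18, 50, 50, 21, 18])])]),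
   (46, [(0, [([], []), ([52, 32], [50, 22, 20, 18])]), (8, [([], []), ([33, 33, 30], [46, 18, 46, 18]), ([30, 33, 31], [46, 20, 46]), ([30, 32, 31], [47, 21, 47]), ([31, 32, 32], [18, 47, 18, 47])]), (370, [([], []), ([31, 33, 31], [18, 51, 21, 51, 18]), ([33, 31, 32, 30], [50, 50, 18, 21]), ([30, 32, 30], [18, 50, 20, 50, 18])]), (7, [([], []), ([33, 30], [18, 20, 50, 50, 18]), ([31, 32], [18, 50, 50, 21, 18])])]),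
   (47, [(0, [([], []), ([52, 32], [52, 32])]), (8, [([], []), ([33, 33, 30], [33, 33, 30]), ([30, 33, 31], [30, 33, 31]), ([30, 32, 31], [30, 32, 31]), ([31, 32, 32], [31, 32, 32])]), (370, [([], []), ([31, 33, 31], [31, 33, 31]), ([33, 31, 32, 30], [33, 31, 32, 30]), ([30, 32, 30], [30, 32, 30])]), (7, [([], []), ([33, 30], [33, 30]), ([31, 32], [31, 32])])]),
   (57, [(8, [([], []), ([32], [13, 11, 12, 12, 10, 10, 10, 13]), ([32, 32], [12, 11, 11, 13, 11, 12, 11]), ([33, 33], [10, 12, 12, 11, 11, 12, 11]), ([33], [12, 11, 11, 13, 10, 12, 12, 11])]), (370, [([], []), ([32, 31, 33], [12, 11, 11, 12, 10, 10, 12, 11, 13]), ([32, 30, 33], [12, 10, 13, 11, 11, 13, 10, 10, 13]), ([52, 52, 32, 30], [11, 12, 10, 10])]), (7, [([], []), ([31, 32], [12, 10, 13, 11, 12, 10, 10, 10, 12, 12]),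 ([33, 30], [12, 12, 10, 10, 12, 11, 13, 10, 12, 10])])]),
   (59, [(8, [([], []), ([32], [30, 33, 30]), ([32, 32], [52, 33, 52, 31]), ([33, 33], [52, 32, 52, 30]), ([33], [31, 32, 31])]), (370, [([], []), ([32, 31, 33], [32, 31]), ([32, 30, 33], [30, 33]), ([52, 52, 32, 30], [30, 32, 30])]), (7, [([], []), ([31, 32], [52, 52, 33, 31]), ([33, 30], [52, 31, 52, 30])])]),
   (62, [(8, [([], []), ([32], [21, 22, 46, 46, 18]), ([32, 32], [22, 20, 18]), ([33, 33], [18, 21, 22]), ([33], [47, 22, 46, 22, 18])]), (370, [([], []), ([32, 31, 33], [22, 46, 22, 46]), ([32, 30, 33], [47, 22, 47, 22]), ([52, 52, 32, 30], [50, 18, 50])]), (7, [([], []), ([31, 32], [51, 21, 51, 20, 18]), ([33, 30], [22, 46, 46, 20, 18])])]),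
   (64, [(7, [([], []), ([30, 32], [11, 13, 10, 10, 10, 13, 10, 12, 10, 10]), ([52, 52, 31], [13, 10, 12, 11, 11, 13, 10, 12, 10, 10]), ([52, 33, 52, 30], [11, 11, 12, 12, 10, 10, 13, 10, 10]), ([52, 52, 32], [12, 12, 11, 11, 12, 12, 10, 10, 13, 10, 10])]), (8, [([], []), ([52, 31, 52], [12, 12])])]),
   (66, [(8, [([], []), ([31, 32, 32], [30, 33, 31]), ([52, 31, 52], [32, 30, 32]), ([30, 32, 31], [31, 32, 32]), ([33, 30, 32, 30], [52, 32, 52])]), (16, [([], []), ([52, 32, 52], [52, 31, 52])])]),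
   (68, [(8, [([], []), ([31, 32, 32], [29, 25]), ([52, 31, 52], [28, 26, 29, 24]), ([30, 32, 31], [29, 25, 29, 25]), ([33, 30, 32, 30], [28, 25, 27, 24])]), (16, [([], []), ([52, 32, 52], [25, 27, 24, 24])])]),
   (69, [(8, [([], []), ([31, 32, 32], [24, 28, 24, 28]), ([52, 31, 52], [29, 29, 26]), ([30, 32, 31], [29, 25]), ([33, 30, 32, 30], [25, 27, 24, 24])]), (16, [([], []), ([52, 32, 52], [28, 26, 29, 24])])]),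
   (75, [(8, [([], []), ([31, 32, 32], [47, 22, 47, 18]), ([52, 31, 52], [18, 22, 18]), ([30, 32, 31], [51, 18, 20, 50]), ([33, 30, 32, 30], [46, 20, 46, 22])]), (16, [([], []), ([52, 32, 52], [50, 18, 50, 21])])]),
   (80, [(8, [([], []), ([31, 32, 32], [26, 24, 24, 26]), ([52, 31, 52], [29, 29, 27, 25]), ([30, 32, 31], [26, 26, 24]), ([33, 30, 32, 30], [26, 28, 28, 24])]), (16, [([], []), ([52, 32, 52], [27, 60, 24, 60, 24])])]),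
   (85, [(0, [([], []), ([53, 32, 31], [50, 21, 21])]), (16, [([], []), ([52, 32, 52], [50, 21, 51, 20])])]),
   (89, [(0, [([], []), ([53, 32, 31], [54, 34])]), (16, [([], []), ([52, 32, 52], [34])])]),
   (90, [(0, [([], []), ([53, 32, 31], [54])]), (16, [([], []), ([52, 32, 52], [34])])]),
   (91, [(0, [([], []), ([53, 32, 31], [32, 52, 31])]), (16, [([], []), ([52, 32, 52], [52, 32, 52])])]),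
   (95, [(8, [([], []), ([52, 52, 30], [34])])]),
   (97, [(7, [([], []), ([32, 31, 33, 31], [52, 32, 52])])]),
   (99, [(7, [([], []), ([32, 31, 33, 31], [26, 28, 25, 25])])]),
   (101, [(7, [([], []), ([32, 31, 33, 31], [28, 26, 29, 24])])]),
   (106, [(0, [([], []), ([33, 52, 30], [52, 30, 33])]), (8, [([], []), ([31], [32, 31, 33]), ([30], [32, 30, 33]), ([52, 31, 52, 30], [52, 52, 32, 30])]), (7, [([], []), ([32, 30, 33], [31, 32]), ([32, 31, 33], [33, 30])])]),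
   (109, [(0, [([], []), ([32, 52], [31, 52, 30])]), (8, [([], []), ([52, 30, 52], [33, 33, 31]), ([52, 52, 32, 31], [31, 32]), ([30], [52, 52, 32, 30])]), (7, [([], []), ([33, 31, 32, 30], [31, 33, 31]), ([52, 52, 32, 30], [30, 32, 30])])]),
   (111, [(0, [([], []), ([31, 52, 32], [31, 53, 30])]), (370, [([], []), ([33, 31, 32, 30], [31, 33, 31]), ([52, 52, 32, 30], [30, 32, 30]), ([33, 33, 31], [52, 52, 31])]), (7, [([], []), ([33, 30], [33, 30]), ([31, 32], [31, 32])])]),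
   (113, [(0, [([], []), ([53, 32, 30, 32], [52, 31, 32])])]),
   (114, [(0, [([], []), ([52, 31, 32], [52, 31, 32])])]),
   (115, [(0, [([], []), ([52, 31, 32], [52, 31, 32])])]),
   (116, [(0, [([], []), ([52, 31, 32], [52, 31, 32])])]),
   (20, [(3, [([], []), ([54, 34], [20, 51, 20])]), (7, [([], []), ([34], [46, 20, 46, 22])])]),
   (25, [(3, [([], []), ([54, 34], [54])]), (7, [([], []), ([34], [34])])]),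
   (86, [(3, [([], []), ([54, 34], [32, 52, 31])]), (7, [([], []), ([34], [52, 32, 52])])]),
   (88, [(3, [([], []), ([54, 34], [53, 32, 31])]), (7, [([], []), ([34], [52, 32, 52])])]),
   (96, [(7, [([], []), ([34], [32, 31, 33, 31])])]),
   (100, [(7, [([], []), ([34], [26, 28, 25, 25])])]),
   (105, [(0, [([], []), ([62, 34, 66, 64], [66, 64, 62]), ([62, 66, 66, 64, 54], [54, 66, 66, 54, 34]), ([54, 67, 67, 54, 34], [54, 34, 67, 67, 54]), ([64, 67, 62, 34], [67, 62, 64])])]),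
   (24, [(3, [([], []), ([56], [31, 52, 30])]), (461, [([], []), ([36, 39], [32, 30, 33]), ([38, 37], [32, 31, 33]), ([37], [33, 30])]), (8, [([], []), ([38], [30, 32, 30]), ([39], [31, 33, 31])])]),
   (112, [(211, [([], []), ([76, 37, 75, 36], [76, 37, 75, 36]), ([77, 57, 75, 36], [77, 57, 75, 36]), ([77, 74, 77, 39, 74], [77, 74, 77, 39, 74]), ([77, 70, 77, 74, 73, 36], [77, 70, 77, 74, 73, 36]), ([77, 71, 76, 74, 73, 36], [77, 71, 76, 74, 73, 36]), ([77, 75, 75, 39, 76, 36], [77, 75, 75, 39, 76, 36]), ([56, 76, 56, 77], [56, 76, 56, 77]), ([37, 77, 36, 77, 56], [37, 77, 36, 77, 56]), ([38, 77, 74, 56, 38], [38, 77, 74, 56, 38])]), (427, [([], []), ([39, 76, 37, 75, 36], [39, 76, 37, 75, 36]), ([38, 77, 57, 75, 36], [38, 77, 57, 75, 36])]), (443, [([], []), ([77, 56, 76, 71, 75],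 [77, 56, 76, 71, 75])]), (0, [([], []), ([70, 56, 70, 36], [70, 56, 70, 36])]), (3, [([], []), ([57, 36], [57, 36])])])]

end Cfsg.Agent.HNPresented
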