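import Cfsg.Agent.Lib.HNPresented.Upper
import Cfsg.Agent.Lib.HNPresented.LowerData
import Cfsg.Agent.Lib.HNPresented.LowerStabData
import Cfsg.Agent.Lib.HNPresented.LowerChainData

/-!
# The stabilisers of the nine cosets in the image on 1408 points

* `Kb`, `eb`, `cls` : the image, its letters, the subgroups of the classes
* `natCard_cls` : their orders, from stabiliser chains
* `own`, `exists_path`, `own_smul` : their orbits
* `stab_le` : the stabilisers of the selected points respect the equations
-/

set_option autoImplicit false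
set_option maxRecDepth 100000
set_option Elab.async false

open Cfsg

namespace Cfsg.Agent.HNPresented

open Cfsg.Agent.StabCert

/-- The image of `K` on 1408 points. -/
noncomputable abbrev Kb : Subgroup (Equiv.Perm (Fin 1408)) := rho.range

/-- The map onto it. -/
noncomputable abbrev rb : K →* Kb := rho.rangeRestrict

/-- The element of a word. -/
noncomputable def eb (v : List ℕ) : Kb := rb (wordEl el v)

theorem eb_append (v w : List ℕ) : eb (v ++ w) = eb v * eb w := by
  rw [eb, wordEl_append, map_mul]; rfl

theorem eb_nil : eb [] = 1 := by rw [eb, wordEl_nil, map_one]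

theorem eb_winv (v : List ℕ) : eb (winv v) = (eb v)⁻¹ := by
  rw [eb, wordEl_winv el_inv, map_inv]; rfl

theorem smul_def' (g : Kb) (p : Fin 1408) : g • p = (g : Equiv.Perm (Fin 1408)) p := rfl

theorem eb_smul {v : List ℕ} (hv : topCfg.okW v = true) {i : ℕ} (hi : i < 1408) :
    eb v • pt i = pt (ev 11 tab v i) := (rho_word (okW_spec hv) hi).2

theorem ev_lt {v : List ℕ} (hv : topCfg.okW v = true) {i : ℕ} (hi : i < 1408) :
    ev 11 tab v i < 1408 := (rho_word (okW_spec hv) hi).1

theorem eb_eq {v w : List ℕ} (h : topCfg.eqB v w = true) : eb v = eb w := by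
  simp only [Cfg.eqB, Bool.and_eq_true, List.all_eq_true, beq_iff_eq] at h
  exact Subtype.ext (rho_eq_of_base (okW_spec h.1.1) (okW_spec h.1.2) h.2)

theorem eq_of_smul_base {g : Kb} (h : ∀ b ∈ basePts, g • pt b = pt b) : g = 1 := by
  obtain ⟨_, k, rfl⟩ := g
  exact Subtype.ext (rho_eq_one h)

theorem exists_eb (g : Kb) : ∃ v, topCfg.okW v = true ∧ eb v = g := by
  obtain ⟨_, k, rfl⟩ := g
  obtain ⟨v, hv, rfl⟩ := wordEl_top k
  exact ⟨v, okW_of fun a ha => show a < 8 from (hv a ha).trans (by omega), rfl⟩

/-- The selected equation of a point. -/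
def own (i q : ℕ) : ℕ := look 11 (ownTabs.getD i 0) q

/-- The source point of an equation. -/
def pN (n : ℕ) : ℕ := ev 11 tab (winv (topCfg.fact n).2.1) 0

/-- An equation is selected for a class. -/
def sel (i n : ℕ) : Bool :=
  Nat.blt n topFacts.length && (topCfg.fact n).1 == i && own i (pN n) == n

/-- The subgroup of a class. -/
noncomputable def cls (i : ℕ) : Subgroup Kb :=
  Subgroup.closure {g | ∃ n < topFixes.length, (topCfg.fixer n).1 = i ∧ g = eb (topCfg.fixer n).2}

/-- The words of the fixing elements. -/
def lp (l : List ℕ) : List ℕ := topCfg.lexp l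

/-- Signed fixing elements of a class. -/
def lok (i : ℕ) (l : List ℕ) : Bool := topCfg.lOK topFixes.length i l

theorem fixes_okW : (topFixes.all fun f => topCfg.okW f.2) = true := by decide +kernel

theorem facts_okW : (topFacts.all fun f => topCfg.okW f.2.1 && topCfg.okW f.2.2.2) = true := by
  decide +kernel

theorem okW_append {v w : List ℕ} (hv : topCfg.okW v = true) (hw : topCfg.okW w = true) :
    topCfg.okW (v ++ w) = true := by
  simp only [Cfg.okW, List.all_append, Bool.and_eq_true] at hv hw ⊢
  exact ⟨hv, hw⟩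

theorem okW_winv {v : List ℕ} (hv : topCfg.okW v = true) : topCfg.okW (winv v) = true :=
  okW_of (winv_lt rfl (okW_spec hv))

theorem fact_okW {n : ℕ} (hn : n < topFacts.length) :
    topCfg.okW (topCfg.fact n).2.1 = true ∧ topCfg.okW (topCfg.fact n).2.2.2 = true :=
  Bool.and_eq_true_iff.1 (List.all_eq_true.1 facts_okW _ (getD_mem hn))

theorem lexp_okW {i : ℕ} : ∀ {l : List ℕ}, lok i l = true → topCfg.okW (lp l) = true
  | [], _ => rfl
  | g :: l, h => by
    simp only [lok, Cfg.lOK, List.all_cons, Bool.and_eq_true, Nat.blt_eq, beq_iff_eq] at h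
    have h1 : topCfg.okW (topCfg.fixer (g / 2)).2 = true :=
      List.all_eq_true.1 fixes_okW _ (getD_mem h.1.1)
    show topCfg.okW ((if g % 2 == 0 then _ else _) ++ lp l) = true
    refine okW_append ?_ (lexp_okW h.2)
    split
    exacts [h1, okW_winv h1]

theorem fixer_mem {n : ℕ} (hn : n < topFixes.length) : eb (topCfg.fixer n).2 ∈ cls (topCfg.fixer n).1 :=
  Subgroup.subset_closure ⟨n, hn, rfl, rfl⟩

theorem lexp_mem {i : ℕ} : ∀ {l : List ℕ}, lok i l = true → eb (lp l) ∈ cls i
  | [], _ => by rw [show lp [] = [] from rfl, eb_nil]; exact one_mem _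
  | g :: l, h => by
    simp only [lok, Cfg.lOK, List.all_cons, Bool.and_eq_true, Nat.blt_eq, beq_iff_eq] at h
    show eb ((if g % 2 == 0 then _ else _) ++ lp l) ∈ cls i
    rw [eb_append]
    refine mul_mem ?_ (lexp_mem h.2)
    rw [← h.1.2]
    split
    · exact fixer_mem h.1.1
    · rw [eb_winv]; exact inv_mem (fixer_mem h.1.1)

/-! ### Class `0` -/

theorem fixers_head : ((List.range 3).all fun n =>
    topCfg.fixer n == (0, [2 * n])) = true := by decide +kernel

theorem cls_zero : cls 0 = ⊤ := by
  refine (Subgroup.eq_top_iff' _).2 fun g => ?_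
  obtain ⟨_, k, rfl⟩ := g
  obtain ⟨v, hv, rfl⟩ := wordEl_top k
  show eb v ∈ cls 0
  induction v with
  | nil => rw [eb_nil]; exact one_mem _
  | cons a v ih =>
    rw [show a :: v = [a] ++ v from rfl, eb_append]
    refine mul_mem ?_ (ih fun b hb => hv b (List.mem_cons_of_mem a hb))
    have ha := hv a List.mem_cons_self
    have h : ∀ n < 3, eb [2 * n] ∈ cls 0 := fun n hn => by
      have e := beq_iff_eq.1 (List.all_eq_true.1 fixers_head n (List.mem_range.2 hn))
      have := fixer_mem (show n < topFixes.length from lt_of_lt_of_le hn (by decide))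
      rwa [e] at this
    rcases Nat.mod_two_eq_zero_or_one a with e | e
    · have := h (a / 2) (by omega)
      rwa [show 2 * (a / 2) = a by omega] at this
    · have e1 : eb [a] = (eb [2 * (a / 2)])⁻¹ := by
        rw [← eb_winv]
        congr 1
        simp only [winv, List.map_cons, List.map_nil, List.reverse_singleton, Nat.mul_mod_right,
          beq_self_eq_true, if_true, List.cons.injEq, and_true]
        omega
      rw [e1]; exact inv_mem (h _ (by omega))

/-- The generators of the stabiliser of the point `0`. -/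
def fixWords : List (List ℕ) := [[2], [1, 2, 0], [0, 2, 1], [0, 0, 0, 0]]

theorem exists_fixGroup {g : Kb} (h : g • pt 0 = pt 0) : ∃ k ∈ fixGroup, rb k = g := by
  obtain ⟨_, k, rfl⟩ := g
  exact ⟨k, mem_fixGroup_of_fix h, rfl⟩

theorem fixGroup_image_le {S : Subgroup Kb} (h : ∀ e ∈ fixWords, eb e ∈ S) :
    ∀ g : Kb, g • pt 0 = pt 0 → g ∈ S := by
  intro g hg
  obtain ⟨k, hk, rfl⟩ := exists_fixGroup hg
  clear hg
  induction hk using Subgroup.closure_induction with
  | mem g hg =>
    rcases hg with rfl | rfl | rfl | rfl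
    · simpa [eb, wordEl, el] using h [2] (by simp [fixWords])
    · simpa [eb, wordEl, el, mul_assoc] using h [1, 2, 0] (by simp [fixWords])
    · simpa [eb, wordEl, el, mul_assoc] using h [0, 2, 1] (by simp [fixWords])
    · simpa [eb, wordEl, el, pow_succ, mul_assoc] using h [0, 0, 0, 0] (by simp [fixWords])
  | one => rw [map_one]; exact one_mem _
  | mul a b _ _ ha hb => rw [map_mul]; exact mul_mem ha hb
  | inv a _ ha => rw [map_inv]; exact inv_mem ha

/-- Witnesses for the stabiliser of the point `0`. -/
def cls1OK : Bool :=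
  ((stabData.head!).2.all fun L => fixWords.all fun e => L.2.any fun w =>
      lok 1 w.2 && topCfg.eqB e (lp w.2)) &&
    ((stabData.head!).2.length == 1) &&
    (List.range topFixes.length).all fun n =>
      (topCfg.fixer n).1 != 1 || ev 11 tab (topCfg.fixer n).2 0 == 0

theorem cls1_ok : cls1OK = true := by decide +kernel

/-- The subgroup of class `1` is the stabiliser of the point `0`. -/
theorem mem_cls_one (g : Kb) : g ∈ cls 1 ↔ g • pt 0 = pt 0 := by
  have h := cls1_ok
  simp only [cls1OK, Bool.and_eq_true, List.all_eq_true, List.any_eq_true, beq_iff_eq,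
    List.mem_range, Bool.or_eq_true, bne_iff_ne] at h
  refine ⟨fun hg => ?_, fixGroup_image_le (fun e he => ?_) g⟩
  · induction hg using Subgroup.closure_induction with
    | mem g hg =>
      obtain ⟨n, hn, e, rfl⟩ := hg
      have hw : topCfg.okW (topCfg.fixer n).2 = true :=
        List.all_eq_true.1 fixes_okW _ (getD_mem (d := (0, [])) hn)
      rw [eb_smul hw (show 0 < 1408 by omega), (h.2 n hn).resolve_left (fun c => c e)]
    | one => exact one_smul _ _
    | mul a b _ _ ha hb => rw [mul_smul, hb, ha]
    | inv a _ ha => exact inv_smul_eq_iff.2 ha.symm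
  · obtain ⟨L, hL⟩ : ∃ L, L ∈ (stabData.head!).2 := List.exists_mem_of_length_pos (by rw [h.1.2]; omega)
    obtain ⟨w, -, hw, hw'⟩ := h.1.1 L hL e he
    rw [eb_eq hw']; exact lexp_mem hw

/-! ### Orbits -/

/-- The selected orbit invariants. -/
def invOK (i : ℕ) : Bool :=
  (List.range topFixes.length).all fun n => (topCfg.fixer n).1 != i ||
    (List.range 1408).all fun q => own i (ev 11 tab (topCfg.fixer n).2 q) == own i q

/-- Equations that are not selected are moved out of the way. -/
def selCfg (i : ℕ) : Cfg :=
  { topCfg with facts := (List.range topFacts.length).map fun n =>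
      (if sel i n then i else 99, (topCfg.fact n).2) }

/-- The covers. -/
def lowerCovers : List (List (ℕ × ℕ × Option ℕ)) :=
  [lowerCover0, topCover1, topCover2, topCover3, topCover4, topCover5, topCover6, topCover7, topCover8]

/-- The checks on the orbits of a class. -/
def orbitsOK (i : ℕ) : Bool :=
  invOK i && (selCfg i).coverGo tab 11 1408 i (lowerCovers.getD i []) 0

theorem orbits0 : orbitsOK 0 = true := by decide +kernel
theorem orbits1 : orbitsOK 1 = true := by decide +kernel
theorem orbits2 : orbitsOK 2 = true := by decide +kernel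
theorem orbits3 : orbitsOK 3 = true := by decide +kernel
theorem orbits4 : orbitsOK 4 = true := by decide +kernel
theorem orbits5 : orbitsOK 5 = true := by decide +kernel
theorem orbits6 : orbitsOK 6 = true := by decide +kernel
theorem orbits7 : orbitsOK 7 = true := by decide +kernel
theorem orbits8 : orbitsOK 8 = true := by decide +kernel

theorem orbits_ok {i : ℕ} (hi : i < 9) : orbitsOK i = true := by
  interval_cases i
  exacts [orbits0, orbits1, orbits2, orbits3, orbits4, orbits5, orbits6, orbits7, orbits8]

theorem sel_spec {i n : ℕ} (h : sel i n = true) :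
    n < topFacts.length ∧ (topCfg.fact n).1 = i ∧ own i (pN n) = n := by
  simp only [sel, Bool.and_eq_true, Nat.blt_eq, beq_iff_eq] at h
  exact ⟨h.1.1, h.1.2, h.2⟩

theorem pN_lt {n : ℕ} (hn : n < topFacts.length) : pN n < 1408 :=
  ev_lt (okW_winv (fact_okW hn).1) (by omega)

theorem eb_src {n : ℕ} (hn : n < topFacts.length) :
    eb (topCfg.fact n).2.1 • pt (pN n) = pt 0 := by
  rw [← inv_smul_smul (eb (topCfg.fact n).2.1)⁻¹ (pt 0), inv_inv, ← eb_winv,
    eb_smul (okW_winv (fact_okW hn).1) (show 0 < 1408 by omega)]
  rfl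

/-- Every point is reached from a selected one. -/
theorem exists_path {i : ℕ} (hi : i < 9) (q : Fin 1408) :
    ∃ n, sel i n = true ∧ ∃ e ∈ cls i, e • pt (pN n) = q := by
  have h := orbits_ok hi
  simp only [orbitsOK, Bool.and_eq_true] at h
  obtain ⟨n, l, hn, hni, -, hl, hlw, hev⟩ := coverGo_spec _ 0 h.2 (by simp) q.val q.isLt
  have hn' : n < topFacts.length := by simpa [selCfg] using hn
  have e : (selCfg i).fact n = (if sel i n then i else 99, (topCfg.fact n).2) := by
    simp only [Cfg.fact, selCfg]
    rw [List.getD_eq_getElem _ _ (by simpa using hn')]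
    simp
  rw [e] at hni hev
  have hs : sel i n = true := by
    by_contra hs
    rw [if_neg hs] at hni
    simp at hni
    omega
  refine ⟨n, hs, eb (lp l), lexp_mem hl, ?_⟩
  rw [eb_smul (lexp_okW (i := i) hl) (pN_lt hn')]
  exact (congrArg pt hev).trans (pt_val q)

/-- The subgroup of a class preserves the selected equation. -/
theorem own_smul {i : ℕ} (hi : i < 9) {g : Kb} (hg : g ∈ cls i) :
    ∀ q : Fin 1408, own i (g • q).val = own i q.val := by
  have h := orbits_ok hi
  simp only [orbitsOK, invOK, Bool.and_eq_true, List.all_eq_true, List.mem_range, Bool.or_eq_true,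
    bne_iff_ne, beq_iff_eq] at h
  induction hg using Subgroup.closure_induction with
  | mem g hg =>
    intro q
    obtain ⟨n, hn, e, rfl⟩ := hg
    have hw := List.all_eq_true.1 fixes_okW _ (getD_mem (d := (0, [])) hn)
    have e' := eb_smul hw q.isLt
    rw [pt_val] at e'
    change eb (topCfg.fixer n).2 • q = _ at e'
    rw [e', val_pt (ev_lt hw q.isLt)]
    exact (h.1 n hn).resolve_left (fun c => c e) q.val q.isLt
  | one => simp
  | mul a b _ _ ha hb => intro q; rw [mul_smul, ha, hb]
  | inv a _ ha => intro q; rw [← ha (a⁻¹ • q), smul_inv_smul]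

/-- A selected point is determined by its orbit. -/
theorem sel_unique {i n : ℕ} (hi : i < 9) (h : sel i n = true) {e : Kb} (he : e ∈ cls i) :
    own i (e • pt (pN n)).val = n := by
  obtain ⟨hn, -, ho⟩ := sel_spec h
  rw [own_smul hi he, val_pt (pN_lt hn)]
  exact ho

end Cfsg.Agent.HNPresented
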