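import Cfsg.Agent.Lib.HNPresented.LowerGroups

/-!
# Orders of the class subgroups and their point stabilisers

* `natCard_cls`, `natCard_Kb` : the orders
* `stab_le` : the stabiliser of a selected point respects its equation
* `z_comm` : the stabiliser of `0` and of its image under `z` centralises `z`
-/

set_option autoImplicit false
set_option maxRecDepth 100000
set_option Elab.async false

open Cfsg

namespace Cfsg.Agent.HNPresented

open Cfsg.Agent.StabCert

/-! ### Orders -/

/-- The words of the chain generators. -/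
def gw (i k : ℕ) : List ℕ := (chWords.getD i []).getD k []

/-- The checks for the chain of a class. -/
def chainsOK (i : ℕ) : Bool :=
  let ws := chWords.getD i []
  ((List.range ws.length).all fun k => lok i (gw i k) &&
    (List.range 1408).all fun p => look 11 ((chTabs.getD i []).getD k 0) p == ev 11 tab (lp (gw i k)) p) &&
  chainOK 11 1408 ws.length (chTabs.getD i []) basePts (chLevs.getD i []) &&
  ((List.range topFixes.length).all fun n => (topCfg.fixer n).1 != i ||
    (nextGens (chLevs.getD i [])).any fun k => topCfg.eqB (topCfg.fixer n).2 (lp (gw i k)))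

/-- The orders of the classes `1` to `8`. -/
def clsOrd (i : ℕ) : ℕ := ((chLevs.getD i []).map fun L => L.words.length).prod

theorem chains1 : chainsOK 1 = true := by decide +kernel
theorem chains2 : chainsOK 2 = true := by decide +kernel
theorem chains3 : chainsOK 3 = true := by decide +kernel
theorem chains4 : chainsOK 4 = true := by decide +kernel
theorem chains5 : chainsOK 5 = true := by decide +kernel
theorem chains6 : chainsOK 6 = true := by decide +kernel
theorem chains7 : chainsOK 7 = true := by decide +kernel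
theorem chains8 : chainsOK 8 = true := by decide +kernel

theorem chains_ok {i : ℕ} (h1 : 1 ≤ i) (h9 : i < 9) : chainsOK i = true := by
  interval_cases i
  exacts [chains1, chains2, chains3, chains4, chains5, chains6, chains7, chains8]

theorem natCard_cls_pos {i : ℕ} (h1 : 1 ≤ i) (h9 : i < 9) : Nat.card (cls i) = clsOrd i := by
  have h := chains_ok h1 h9
  simp only [chainsOK, Bool.and_eq_true, List.all_eq_true, List.mem_range, beq_iff_eq, Bool.or_eq_true,
    bne_iff_ne, List.any_eq_true] at h
  obtain ⟨⟨hw, hch⟩, hfix⟩ := h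
  have hact : TablesSound Kb.subtype (fun k => eb (lp (gw i k))) pt 11 1408
      (chWords.getD i []).length (chTabs.getD i []) := by
    intro k hk p hp
    rw [(hw k hk).2 p hp]
    exact rho_word (okW_spec (lexp_okW (hw k hk).1)) hp
  have hB : ∀ β ∈ basePts, β < 1408 := by decide
  obtain ⟨hlt, hcard, -⟩ := chain_spec hact pt_injOn hB (fun g _ hg => eq_of_smul_base hg) _ hch
  have e : sub (fun k => eb (lp (gw i k))) (nextGens (chLevs.getD i [])) = cls i := by
    refine le_antisymm ((Subgroup.closure_le _).2 ?_) ((Subgroup.closure_le _).2 ?_)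
    · rintro _ ⟨k, hk, rfl⟩
      exact lexp_mem (hw k (hlt k hk)).1
    · rintro _ ⟨n, hn, e, rfl⟩
      obtain ⟨k, hk, hk'⟩ := (hfix n hn).resolve_left (fun c => c e)
      rw [eb_eq hk']
      exact gen_mem_sub _ hk
  rw [← e]
  exact hcard

theorem clsOrd_vals : ((List.range 9).map fun i => if i == 0 then 0 else clsOrd i) =
    [0, 126000, 5040, 80640, 1440, 500, 240, 640, 30720] := by decide +kernel

theorem natCard_Kb : Nat.card Kb = 177408000 := by
  have horb : (MulAction.stabilizer Kb (pt 0)).index = 1408 := by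
    rw [MulAction.index_stabilizer, show MulAction.orbit Kb (pt 0) = Set.univ from
      Set.eq_univ_of_forall fun q => ?_, Set.ncard_univ, Nat.card_fin]
    obtain ⟨n, hn, e, -, he⟩ := exists_path (show 0 < 9 by omega) q
    refine ⟨e * (eb (topCfg.fact n).2.1)⁻¹, ?_⟩
    show (e * (eb (topCfg.fact n).2.1)⁻¹) • pt 0 = q
    rw [← eb_src (sel_spec hn).1, mul_smul, inv_smul_smul]
    exact he
  have h1 : MulAction.stabilizer Kb (pt 0) = cls 1 := Subgroup.ext fun g =>
    MulAction.mem_stabilizer_iff.trans (mem_cls_one g).symm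
  rw [← Subgroup.card_mul_index (MulAction.stabilizer Kb (pt 0)), horb, h1, natCard_cls_pos le_rfl (by omega),
    show clsOrd 1 = 126000 by decide +kernel]

/-- The orders of all nine class subgroups. -/
def clsOrd' (i : ℕ) : ℕ := if i == 0 then 177408000 else clsOrd i

theorem natCard_cls {i : ℕ} (hi : i < 9) : Nat.card (cls i) = clsOrd' i := by
  rcases Nat.eq_zero_or_pos i with rfl | h
  · rw [cls_zero, Subgroup.card_top, natCard_Kb]; rfl
  · rw [natCard_cls_pos h hi, clsOrd', if_neg (by simp; omega)]

/-! ### Point stabilisers -/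

/-- Levels of elements fixing the earlier points, with a test on each element. -/
def levsOK (i : ℕ) (good : List ℕ → List ℕ → Bool) :
    List ℕ → List (ℕ × List (List ℕ × List ℕ)) → Bool
  | _, [] => true
  | fx, L :: r => Nat.blt L.1 1408 &&
      (L.2.all fun w => lok i w.1 && good w.1 w.2 && fx.all fun β => ev 11 tab (lp w.1) β == β) &&
      distinctFrom (L.2.map fun w => ev 11 tab (lp w.1) L.1) 0 && levsOK i good (L.1 :: fx) r

/-- The product of the sizes of the levels. -/
def levsCard (r : List (ℕ × List (List ℕ × List ℕ))) : ℕ := (r.map fun L => L.2.length).prod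

/-- The number of points of an orbit. -/
def orbSize (i n : ℕ) : ℕ := ((List.range 1408).filter fun q => own i q == n).length

theorem levs_card {i : ℕ} {good : List ℕ → List ℕ → Bool} :
    ∀ (r : List (ℕ × List (List ℕ × List ℕ))) (fx : List ℕ) (S : Subgroup Kb),
      levsOK i good fx r = true → (∀ β ∈ fx, β < 1408) →
      (∀ l l', lok i l = true → good l l' = true →
        (∀ β ∈ fx, eb (lp l) • pt β = pt β) → eb (lp l) ∈ S) →
      levsCard r ≤ Nat.card S
  | [], _, S, _, _, _ => by
    show 1 ≤ Nat.card S
    exact Nat.card_pos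
  | L :: r, fx, S, h, hfx, hS => by
    simp only [levsOK, Bool.and_eq_true, List.all_eq_true, beq_iff_eq, Nat.blt_eq] at h
    obtain ⟨⟨⟨hb, hw⟩, hd⟩, hr⟩ := h
    have ih := levs_card r (L.1 :: fx) (S ⊓ MulAction.stabilizer Kb (pt L.1)) hr
      (by simpa [hb] using hfx) (fun l l' hl hg hf => Subgroup.mem_inf.2
        ⟨hS l l' hl hg fun β hβ => hf β (List.mem_cons_of_mem _ hβ),
          MulAction.mem_stabilizer_iff.2 (hf L.1 List.mem_cons_self)⟩)
    have hmem : ∀ w ∈ L.2, eb (lp w.1) ∈ S := fun w hw' => by
      obtain ⟨⟨h1, h2⟩, h3⟩ := hw w hw'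
      exact hS w.1 w.2 h1 h2 fun β hβ => by rw [eb_smul (lexp_okW h1) (hfx β hβ), h3 β hβ]
    have hcount : L.2.length * Nat.card (S ⊓ MulAction.stabilizer Kb (pt L.1) : Subgroup Kb) ≤ Nat.card S := by
      have hin : Function.Injective fun p : Fin L.2.length × (S ⊓ MulAction.stabilizer Kb (pt L.1) : Subgroup Kb) =>
          (⟨eb (lp L.2[p.1.val].1) * p.2.1,
            mul_mem (hmem _ (List.getElem_mem p.1.isLt)) p.2.2.1⟩ : S) := by
        intro p q e
        have e' : eb (lp L.2[p.1.val].1) * p.2.1 = eb (lp L.2[q.1.val].1) * q.2.1 := congrArg Subtype.val e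
        have ev' : ∀ p : Fin L.2.length × (S ⊓ MulAction.stabilizer Kb (pt L.1) : Subgroup Kb),
            (eb (lp L.2[p.1.val].1) * p.2.1) • pt L.1 = pt (ev 11 tab (lp L.2[p.1.val].1) L.1) := fun p => by
          rw [mul_smul, MulAction.mem_stabilizer_iff.1 p.2.2.2,
            eb_smul (lexp_okW (hw _ (List.getElem_mem p.1.isLt)).1.1) hb]
        have e2 := congrArg (fun g : Kb => g • pt L.1) e'
        simp only [ev'] at e2
        have e3 := pt_injOn (ev_lt (lexp_okW (hw _ (List.getElem_mem p.1.isLt)).1.1) hb)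
          (ev_lt (lexp_okW (hw _ (List.getElem_mem q.1.isLt)).1.1) hb) e2
        have hnd := (distinctFrom_spec _ _ hd).1
        have e4 : p.1 = q.1 := Fin.ext ((hnd.getElem_inj_iff (i := p.1.val) (j := q.1.val)
          (hi := by simp) (hj := by simp)).1 (by simpa using e3))
        obtain ⟨p1, p2⟩ := p
        obtain ⟨q1, q2⟩ := q
        obtain rfl : p1 = q1 := e4
        exact Prod.ext rfl (Subtype.ext (mul_left_cancel e'))
      simpa using Nat.card_le_card_of_injective _ hin
    exact le_trans (show levsCard (L :: r) ≤ _ from by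
      simpa [levsCard] using Nat.mul_le_mul_left L.2.length ih) hcount

/-- Enough good elements give the whole stabiliser. -/
theorem stab_of_levs {i n : ℕ} (hi : i < 9) (hn : sel i n = true) {good : List ℕ → List ℕ → Bool}
    {r : List (ℕ × List (List ℕ × List ℕ))} (hr : levsOK i good [pN n] r = true)
    (hc : clsOrd' i ≤ orbSize i n * levsCard r) (S : Subgroup Kb)
    (hS : ∀ l l', lok i l = true → good l l' = true → eb (lp l) • pt (pN n) = pt (pN n) → eb (lp l) ∈ S) :
    ∀ e ∈ cls i, e • pt (pN n) = pt (pN n) → e ∈ S := by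
  obtain ⟨hn', -, -⟩ := sel_spec hn
  set St := cls i ⊓ MulAction.stabilizer Kb (pt (pN n)) with hSt
  have h1 : levsCard r ≤ Nat.card (St ⊓ S : Subgroup Kb) :=
    levs_card r [pN n] _ hr (by simpa using pN_lt hn') fun l l' hl hg hf => by
      have h := hf (pN n) (List.mem_singleton.2 rfl)
      exact ⟨⟨lexp_mem hl, MulAction.mem_stabilizer_iff.2 h⟩, hS l l' hl hg h⟩
  have h2 : orbSize i n * Nat.card St ≤ Nat.card (cls i) := by
    have hmem : ∀ q : Fin (orbSize i n), ∃ e ∈ cls i,
        e • pt (pN n) = pt (((List.range 1408).filter fun q => own i q == n)[q.val]'q.isLt) := by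
      intro q
      have hq := List.getElem_mem (l := (List.range 1408).filter fun q => own i q == n) (n := q.val) q.isLt
      simp only [List.mem_filter, List.mem_range, beq_iff_eq] at hq
      obtain ⟨n', hn'', e, he, hq'⟩ := exists_path hi (pt _)
      have := sel_unique hi hn'' he
      rw [hq', val_pt hq.1, hq.2] at this
      exact ⟨e, he, this ▸ hq'⟩
    choose f hf hf' using hmem
    have hin : Function.Injective fun p : Fin (orbSize i n) × St =>
        (⟨f p.1 * p.2.1, mul_mem (hf p.1) p.2.2.1⟩ : cls i) := by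
      intro p q e
      have e' : f p.1 * p.2.1 = f q.1 * q.2.1 := congrArg Subtype.val e
      have e2 := congrArg (fun g : Kb => g • pt (pN n)) e'
      simp only [mul_smul, MulAction.mem_stabilizer_iff.1 p.2.2.2, MulAction.mem_stabilizer_iff.1 q.2.2.2,
        hf'] at e2
      have hlt : ∀ q : Fin (orbSize i n),
          (((List.range 1408).filter fun q => own i q == n)[q.val]'q.isLt) < 1408 := fun q => by
        have hq := List.getElem_mem (l := (List.range 1408).filter fun q => own i q == n) (n := q.val) q.isLt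
        simp only [List.mem_filter, List.mem_range] at hq
        exact hq.1
      have e3 := pt_injOn (hlt _) (hlt _) e2
      have e4 : p.1 = q.1 :=
        Fin.ext (((List.nodup_range.filter _).getElem_inj_iff).1 e3)
      rw [e4] at e'
      exact Prod.ext e4 (Subtype.ext (mul_left_cancel e'))
    simpa using Nat.card_le_card_of_injective _ hin
  rw [natCard_cls hi] at h2
  have hpos : 0 < orbSize i n := by
    rcases Nat.eq_zero_or_pos (orbSize i n) with h | h
    · rw [h, zero_mul] at hc
      have := natCard_cls hi ▸ (Nat.card_pos : 0 < Nat.card (cls i))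
      omega
    · exact h
  have h3 : Nat.card St ≤ levsCard r :=
    Nat.le_of_mul_le_mul_left (h2.trans hc) hpos
  have e : St ⊓ S = St := Subgroup.eq_of_le_of_card_ge inf_le_left (h3.trans h1)
  intro e' he hfix
  exact (e.ge ⟨he, MulAction.mem_stabilizer_iff.2 hfix⟩).2

/-- The test for the equation `n`. -/
def goodFact (n : ℕ) (l l' : List ℕ) : Bool :=
  lok (topCfg.fact n).2.2.1 l' &&
    topCfg.eqB ((topCfg.fact n).2.1 ++ lp l ++ winv (topCfg.fact n).2.1 ++ (topCfg.fact n).2.2.2)
      ((topCfg.fact n).2.2.2 ++ lp l')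

/-- The checks of the stabilisers in a class. -/
def stabsOK (i : ℕ) : Bool :=
  (List.range topFacts.length).all fun n => !sel i n || stabData.any fun d => d.1 == n &&
    levsOK i (goodFact n) [pN n] d.2 && Nat.ble (clsOrd' i) (orbSize i n * levsCard d.2)

theorem stabs1 : stabsOK 1 = true := by decide +kernel
theorem stabs2 : stabsOK 2 = true := by decide +kernel
theorem stabs3 : stabsOK 3 = true := by decide +kernel
theorem stabs4 : stabsOK 4 = true := by decide +kernel
theorem stabs5 : stabsOK 5 = true := by decide +kernel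
theorem stabs6 : stabsOK 6 = true := by decide +kernel
theorem stabs7 : stabsOK 7 = true := by decide +kernel
theorem stabs8 : stabsOK 8 = true := by decide +kernel

theorem stabs_ok {i : ℕ} (h1 : 1 ≤ i) (h9 : i < 9) : stabsOK i = true := by
  interval_cases i
  exacts [stabs1, stabs2, stabs3, stabs4, stabs5, stabs6, stabs7, stabs8]

theorem sel_zero : ((List.range topFacts.length).all fun n => !sel 0 n || n == 0) = true := by
  decide +kernel

theorem fact_zero : topCfg.fact 0 = (0, [], 1, []) := by decide +kernel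

/-- The stabiliser of a selected point respects its equation. -/
theorem stab_le {i n : ℕ} (hi : i < 9) (hn : sel i n = true) {e : Kb} (he : e ∈ cls i)
    (hfix : e • pt (pN n) = pt (pN n)) :
    (eb (topCfg.fact n).2.2.2)⁻¹ *
      (eb (topCfg.fact n).2.1 * e * (eb (topCfg.fact n).2.1)⁻¹) * eb (topCfg.fact n).2.2.2 ∈
        cls (topCfg.fact n).2.2.1 := by
  rcases Nat.eq_zero_or_pos i with rfl | hpos
  · have h := sel_zero
    simp only [List.all_eq_true, List.mem_range, Bool.or_eq_true, Bool.not_eq_true', beq_iff_eq] at h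
    obtain rfl := (h n (sel_spec hn).1).resolve_left (by simp [hn])
    have hp : pN 0 = 0 := by rw [pN, fact_zero]; rfl
    rw [hp] at hfix
    rw [fact_zero]
    simpa [eb_nil] using (mem_cls_one e).2 hfix
  have h := stabs_ok hpos hi
  simp only [stabsOK, List.all_eq_true, List.mem_range, Bool.or_eq_true, Bool.not_eq_true',
    List.any_eq_true, Bool.and_eq_true, beq_iff_eq, Nat.ble_eq] at h
  obtain ⟨d, -, ⟨-, hr⟩, hc⟩ := (h n (sel_spec hn).1).resolve_left (by simp [hn])
  set a := eb (topCfg.fact n).2.1
  set b := eb (topCfg.fact n).2.2.2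
  have key := stab_of_levs hi hn hr hc
    ((cls (topCfg.fact n).2.2.1).comap ((MulAut.conj b⁻¹).toMonoidHom.comp (MulAut.conj a).toMonoidHom))
    (fun l l' hl hg _ => by
      simp only [goodFact, Bool.and_eq_true] at hg
      have e := eb_eq hg.2
      simp only [eb_append, eb_winv] at e
      show b⁻¹ * (a * eb (lp l) * a⁻¹) * b⁻¹⁻¹ ∈ cls (topCfg.fact n).2.2.1
      rw [inv_inv, mul_assoc, e, inv_mul_cancel_left]
      exact lexp_mem hg.1) e he hfix
  have k' : b⁻¹ * (a * e * a⁻¹) * b⁻¹⁻¹ ∈ cls (topCfg.fact n).2.2.1 := key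
  rwa [inv_inv] at k'

/-- The image of `z`. -/
noncomputable abbrev zb : Kb := eb [4]

/-- The test for `z`. -/
def goodZ (l _l' : List ℕ) : Bool :=
  let w := lp zPath ++ lp l ++ winv (lp zPath)
  topCfg.eqB (4 :: w) (w ++ [4])

/-- The checks for `z`. -/
def zStabOK : Bool :=
  sel 1 zOwn && lok 1 zPath && ev 11 tab (lp zPath) (pN zOwn) == ev 11 tab [4] 0 &&
    stabData.any fun d => d.1 == zOwn && levsOK 1 goodZ [pN zOwn] d.2 &&
      Nat.ble (clsOrd' 1) (orbSize 1 zOwn * levsCard d.2)

theorem zStab_ok : zStabOK = true := by decide +kernel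

/-- The stabiliser of `0` and of its image under `z` centralises `z`. -/
theorem z_comm {u : Kb} (h0 : u • pt 0 = pt 0) (h1 : u • zb • pt 0 = zb • pt 0) :
    zb * u = u * zb := by
  have h := zStab_ok
  simp only [zStabOK, Bool.and_eq_true, beq_iff_eq, List.any_eq_true, Nat.ble_eq] at h
  obtain ⟨⟨⟨hs, hl⟩, hev⟩, d, -, ⟨-, hr⟩, hc⟩ := h
  set z' := eb (lp zPath)
  have ez : z' • pt (pN zOwn) = zb • pt 0 := by
    rw [eb_smul (lexp_okW hl) (pN_lt (sel_spec hs).1), hev, eb_smul (by decide) (show 0 < 1408 by omega)]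
  have hu : z'⁻¹ * u * z' ∈ cls 1 := mul_mem (mul_mem (inv_mem (lexp_mem hl)) ((mem_cls_one u).2 h0)) (lexp_mem hl)
  have hfix : (z'⁻¹ * u * z') • pt (pN zOwn) = pt (pN zOwn) := by
    rw [mul_smul, mul_smul, ez, h1, ← ez, inv_smul_smul]
  have key := stab_of_levs (show 1 < 9 by omega) hs hr hc
    ((Subgroup.centralizer {zb}).comap (MulAut.conj z').toMonoidHom)
    (fun l l' _ hg _ => by
      simp only [goodZ] at hg
      have e := eb_eq hg
      rw [show ∀ w : List ℕ, (4 : ℕ) :: w = [4] ++ w from fun _ => rfl] at e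
      simp only [eb_append, eb_winv] at e
      show z' * eb (lp l) * z'⁻¹ ∈ Subgroup.centralizer {zb}
      exact Subgroup.mem_centralizer_singleton_iff.2 e.symm) _ hu hfix
  have k' : z' * (z'⁻¹ * u * z') * z'⁻¹ ∈ Subgroup.centralizer {zb} := key
  rw [show z' * (z'⁻¹ * u * z') * z'⁻¹ = u by group] at k'
  exact (Subgroup.mem_centralizer_singleton_iff.1 k').symm

end Cfsg.Agent.HNPresented
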