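import Cfsg.Agent.Lib.HNPresented.HSide
import Cfsg.Agent.Lib.HNPresented.FixedData
import Cfsg.Prelude.Def_Sporadic

/-!
# The presented Harada–Norton group is simple

* `natCard_hn`, `phi_injective` : the order; the action on the cosets is faithful
* `hnH_isCoatom` : it is primitive, by the sizes of the nine suborbits
* `centraliser_trivial` : only the identity commutes with the image of a point stabiliser on the hundred vertices
* `isSimpleGroup_hn`, `isHN_hn` : simplicity
-/

set_option autoImplicit false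
set_option maxRecDepth 100000
set_option Elab.async false

open Cfsg

open scoped commutatorElement

namespace Cfsg.Agent.HNPresented

open Cfsg.Agent.StabCert

/-! ### Order and faithfulness -/

theorem hn_finite : Finite Spor.HN := by
  refine Nat.finite_of_card_ne_zero ?_
  rw [← hnH.card_mul_index, natCard_hnH, hn_index]
  norm_num

theorem natCard_hn : Nat.card Spor.HN = 273030912000000 := by
  rw [← hnH.card_mul_index, natCard_hnH, hn_index]

/-- The stabiliser of the base. -/
noncomputable def baseStab : Subgroup Spor.HN :=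
  (MulAction.stabilizer (Equiv.Perm Om) (om 0 1)).comap phi

theorem mem_baseStab {g : Spor.HN} : g ∈ baseStab ↔ phi g (om 0 1) = om 0 1 := Iff.rfl

theorem phi_pretransitive (X Y : Om) : ∃ g, phi g X = Y := by
  obtain ⟨a, rfl⟩ := orbPhi_eq_univ X
  obtain ⟨b, rfl⟩ := orbPhi_eq_univ Y
  exact ⟨b * a⁻¹, by rw [← Equiv.Perm.mul_apply, ← map_mul, inv_mul_cancel_right]⟩

theorem hnH_eq_baseStab : hnH = baseStab := by
  have := hn_finite
  refine Subgroup.eq_of_le_of_card_ge (fun g hg => hnH_fix g hg) ?_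
  have h1 : Nat.card Om ≤ baseStab.index := by
    rw [Subgroup.index]
    refine Nat.card_le_card_of_surjective
      (fun q : Spor.HN ⧸ baseStab => Quotient.liftOn' q (fun g => phi g (om 0 1)) fun a b hab => ?_) fun X => ?_
    · rw [QuotientGroup.leftRel_apply, mem_baseStab, map_mul, Equiv.Perm.mul_apply, map_inv,
        Equiv.Perm.inv_def, Equiv.symm_apply_eq] at hab
      exact hab.symm
    · obtain ⟨g, hg⟩ := orbPhi_eq_univ X
      exact ⟨QuotientGroup.mk g, hg⟩
  have h2 := baseStab.card_mul_index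
  rw [← hnH.card_mul_index, hn_index] at h2
  rw [natCard_Om] at h1
  exact Nat.le_of_mul_le_mul_right (le_trans (Nat.mul_le_mul_left _ h1) h2.le) (by norm_num)

theorem phi_injective : Function.Injective phi := by
  rw [← MonoidHom.ker_eq_bot_iff, eq_bot_iff]
  intro g hg
  have hg' : g ∈ hnH := hnH_eq_baseStab ▸ (show phi g (om 0 1) = om 0 1 by rw [MonoidHom.mem_ker.1 hg]; rfl)
  obtain ⟨k, rfl⟩ := hg'
  have h1 : ∀ X : Om, rb k • X = X := fun X => by
    have e := DFunLike.congr_fun (phi_toHN k) X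
    rw [MonoidHom.mem_ker.1 hg] at e
    exact e.symm
  have h2 : rb k = 1 := by
    refine Subtype.ext (Equiv.ext fun q => ?_)
    obtain ⟨n, hn, e, -, he⟩ := exists_path (show 0 < 9 by omega) q
    set c := e * (eb (topCfg.fact n).2.1)⁻¹
    have hq : c • pt 0 = q := by
      rw [← eb_src (sel_spec hn).1, mul_smul, inv_smul_smul]
      exact he
    have e1 : om 1 (rb k * c) = om 1 c := h1 (om 1 c)
    have e2 := (mem_cls_one _).1 (om_inj (show 1 < 9 by omega) (show 1 < 9 by omega) e1).2
    rw [mul_smul, inv_smul_eq_iff, mul_smul] at e2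
    show rb k • q = q
    rw [← hq]
    exact e2.symm.trans rfl
  have h3 : toH k = 1 := beta_bijective.1 (by rw [beta_apply, h2, map_one])
  exact Subgroup.mem_bot.2 (congrArg Subtype.val h3)

/-! ### Primitivity -/

/-- The sizes of the suborbits. -/
def subSize (i : Fin 9) : ℕ := 177408000 / clsOrd' i.val

theorem subSize_ok : ((List.range 9).map fun i => 177408000 / clsOrd' i) =
    [1, 1408, 35200, 2200, 123200, 354816, 739200, 277200, 5775] := by decide +kernel

/-- The sizes, as a list. -/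
def sizes : List ℕ := [1, 1408, 35200, 2200, 123200, 354816, 739200, 277200, 5775]

theorem no_block : ∀ S : Finset (Fin 9), 0 ∈ S → (∑ i ∈ S, sizes.getD i.val 0) ∣ 1539000 →
    S = {0} ∨ S = Finset.univ := by
  decide +kernel

theorem natCard_class (i : Fin 9) : Nat.card (Kb ⧸ cls i.val) = sizes.getD i.val 0 := by
  have e := Subgroup.card_eq_card_quotient_mul_card_subgroup (cls i.val)
  rw [natCard_Kb, natCard_cls i.isLt] at e
  have hpos : 0 < clsOrd' i.val := natCard_cls i.isLt ▸ Nat.card_pos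
  have h : sizes.getD i.val 0 = 177408000 / clsOrd' i.val := by
    rw [show sizes = [1, 1408, 35200, 2200, 123200, 354816, 739200, 277200, 5775] from rfl, ← subSize_ok,
      List.getD_eq_getElem _ _ (by simp)]
    simp
  rw [h, e, Nat.mul_div_cancel _ hpos]

theorem smul_fibre (i : Fin 9) (q q' : Kb ⧸ cls i.val) : ∃ c : Kb, c • (⟨i, q⟩ : Om) = ⟨i, q'⟩ := by
  obtain ⟨c, hc⟩ := MulAction.exists_smul_eq Kb q q'
  exact ⟨c, by show (⟨i, c • q⟩ : Om) = _; rw [hc]⟩

theorem hnH_isCoatom : IsCoatom hnH := by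
  have := hn_finite
  refine ⟨fun h => ?_, fun M hM => ?_⟩
  · have := hn_index
    rw [h, Subgroup.index_top] at this
    omega
  classical
  have hle : ∀ k : K, toHN k ∈ M := fun k => hM.le ⟨k, rfl⟩
  let O : Set Om := {Y | ∃ g ∈ M, phi g (om 0 1) = Y}
  let S : Finset (Fin 9) := Finset.univ.filter fun i => ∃ X ∈ O, X.1 = i
  have hfib : ∀ X : Om, X ∈ O ↔ X.1 ∈ S := by
    intro X
    refine ⟨fun h => Finset.mem_filter.2 ⟨Finset.mem_univ _, X, h, rfl⟩, fun h => ?_⟩
    obtain ⟨-, ⟨i, q⟩, ⟨g, hg, e⟩, rfl⟩ := Finset.mem_filter.1 h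
    obtain ⟨c, hc⟩ := smul_fibre _ q X.2
    obtain ⟨k, rfl⟩ := rho.rangeRestrict_surjective c
    refine ⟨toHN k * g, mul_mem (hle k) hg, ?_⟩
    rw [map_mul, Equiv.Perm.mul_apply, e, phi_toHN]
    exact hc
  have h0 : (0 : Fin 9) ∈ S := Finset.mem_filter.2
    ⟨Finset.mem_univ _, om 0 1, ⟨1, one_mem _, by rw [map_one]; rfl⟩, rfl⟩
  have hcardS : Nat.card O = ∑ i ∈ S, sizes.getD i.val 0 := by
    have e : O ≃ Σ i : {x : Fin 9 // x ∈ S}, Kb ⧸ cls i.val.val :=
      { toFun := fun X => ⟨⟨X.1.1, (hfib X.1).1 X.2⟩, X.1.2⟩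
        invFun := fun p => ⟨⟨p.1.1, p.2⟩, (hfib _).2 p.1.2⟩
        left_inv := fun _ => rfl
        right_inv := fun _ => rfl }
    rw [Nat.card_congr e, Nat.card_sigma]
    exact (Finset.sum_congr rfl fun (i : {x : Fin 9 // x ∈ S}) _ => natCard_class i.1).trans
      (Finset.sum_coe_sort S fun i => sizes.getD i.val 0)
  have hO : Nat.card O = hnH.relIndex M := by
    rw [Subgroup.relIndex, Subgroup.index]
    refine (Nat.card_congr (Equiv.ofBijective
      (fun q : M ⧸ hnH.subgroupOf M => Quotient.liftOn' q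
        (fun g => (⟨phi g.1 (om 0 1), g.1, g.2, rfl⟩ : O)) fun a b hab => ?_) ⟨?_, ?_⟩)).symm
    · rw [QuotientGroup.leftRel_apply, Subgroup.mem_subgroupOf] at hab
      have := hnH_eq_baseStab ▸ hab
      rw [mem_baseStab] at this
      simp only [Subgroup.coe_mul, InvMemClass.coe_inv, map_mul, map_inv, Equiv.Perm.mul_apply,
        Equiv.Perm.inv_def, Equiv.symm_apply_eq] at this
      exact Subtype.ext this.symm
    · rintro ⟨a⟩ ⟨b⟩ e
      refine Quotient.sound' ?_
      rw [QuotientGroup.leftRel_apply, Subgroup.mem_subgroupOf, hnH_eq_baseStab, mem_baseStab]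
      have e' : phi a.1 (om 0 1) = phi b.1 (om 0 1) := congrArg Subtype.val e
      simp only [Subgroup.coe_mul, InvMemClass.coe_inv, map_mul, map_inv, Equiv.Perm.mul_apply,
        Equiv.Perm.inv_def, Equiv.symm_apply_eq]
      exact e'.symm
    · rintro ⟨_, g, hg, rfl⟩
      exact ⟨QuotientGroup.mk ⟨g, hg⟩, rfl⟩
  have hidx : hnH.relIndex M * M.index = 1539000 := by
    rw [Subgroup.relIndex_mul_index hM.le, hn_index]
  rcases no_block S h0 (hcardS ▸ hO ▸ Dvd.intro _ hidx) with h | h
  · exfalso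
    refine hM.ne (le_antisymm hM.le fun g hg => ?_)
    rw [hnH_eq_baseStab, mem_baseStab]
    have h1 : (phi g (om 0 1)).1 ∈ S := (hfib _).1 ⟨g, hg, rfl⟩
    rw [h, Finset.mem_singleton] at h1
    obtain ⟨i, hi, c, e⟩ := exists_om (phi g (om 0 1))
    rw [e] at h1 ⊢
    have hi0 : i = 0 := by
      have := congrArg Fin.val h1
      change i % 9 = 0 at this
      omega
    subst hi0
    exact om_eq (by omega) (by rw [cls_zero]; trivial)
  · have hall : Nat.card O = 1539000 := by
      rw [hcardS, h]; decide +kernel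
    rw [hO] at hall
    rw [hall] at hidx
    exact Subgroup.index_eq_one.1 (by omega)

/-! ### Centraliser on the vertices -/

/-- The checks for the fixed vertices. -/
def fixOK : Bool :=
  let seeds := fixSeeds.map Prod.fst
  (fixSeeds.all fun s => Nat.blt s.1 100 &&
    (s.2.all fun w => (w.all fun a => Nat.blt a 6) && ev 7 blockTab w s.1 == s.1) &&
    (List.range 100).all fun q => q == s.1 || s.2.any fun w => !(ev 7 blockTab w q == q)) &&
  (fixTree.all fun e => Nat.blt e.2.1 100 && Nat.blt e.2.2 4 &&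
    ev 7 blockTab (fixWords.getD e.2.2 []) e.2.1 == e.1) &&
  (List.range 100).all fun q =>
    (fixTree.foldl (fun m e => bif m.testBit e.2.1 then m ||| 1 <<< e.1 else m) (maskL seeds)).testBit q

theorem fix_ok : fixOK = true := by decide +kernel

/-- The seeds' words lie in the stabiliser of the point `0`. -/
theorem seeds_stab : (fixSeeds.all fun s => s.2.all fun w => ev 11 tab w 0 == 0) = true := by decide +kernel

theorem fold_mem {P : ℕ → Prop} : ∀ (l : List (ℕ × ℕ × ℕ)) (m : ℕ),
    (∀ e ∈ l, P e.2.1 → P e.1) → (∀ b, m.testBit b = true → P b) →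
    ∀ b, (l.foldl (fun m e => bif m.testBit e.2.1 then m ||| 1 <<< e.1 else m) m).testBit b = true → P b
  | [], _, _, hm => hm
  | e :: l, m, hl, hm => by
    refine fold_mem l _ (fun e' h => hl e' (List.mem_cons_of_mem e h)) fun b hb => ?_
    cases hbit : m.testBit e.2.1 <;> dsimp only at hb
    · rw [hbit, cond_false] at hb; exact hm b hb
    · rw [hbit, cond_true, Nat.testBit_or, Bool.or_eq_true, Nat.one_shiftLeft, Nat.testBit_two_pow,
        decide_eq_true_eq] at hb
      rcases hb with hb | rfl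
      · exact hm b hb
      · exact hl e List.mem_cons_self (hm _ hbit)

/-- Only the identity commutes on the vertices with the image of the stabiliser of a point. -/
theorem centraliser_trivial {c : Equiv.Perm (Fin 100)}
    (hc : ∀ v, (∀ a ∈ v, a < 6) → ev 11 tab v 0 = 0 → Commute c (psiK (wordEl el v))) : c = 1 := by
  have h := fix_ok
  have hs := seeds_stab
  simp only [fixOK, Bool.and_eq_true, List.all_eq_true, List.mem_range, Nat.blt_eq, beq_iff_eq,
    Bool.or_eq_true, List.any_eq_true, Bool.not_eq_true', beq_eq_false_iff_ne] at h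
  simp only [List.all_eq_true, beq_iff_eq] at hs
  obtain ⟨⟨hseed, htree⟩, hall⟩ := h
  have hfw : ∀ k < 4, (∀ a ∈ fixWords.getD k [], a < 6) ∧ ev 11 tab (fixWords.getD k []) 0 = 0 := by
    decide +kernel
  refine Equiv.ext fun q => ?_
  have key := fold_mem (P := fun b => b < 100 → c (Cfsg.Agent.HSPerm.pt b) = Cfsg.Agent.HSPerm.pt b)
    fixTree (maskL (fixSeeds.map Prod.fst)) ?_ ?_ q.val (hall q.val q.isLt) q.isLt
  · rwa [Cfsg.Agent.HSPerm.pt_val] at key
  · intro e he ih _
    obtain ⟨⟨hu, hk⟩, hev⟩ := htree e he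
    obtain ⟨hw, hw0⟩ := hfw _ hk
    have e1 := (psiK_word _ hw hu).2
    rw [hev] at e1
    rw [← e1, ← Equiv.Perm.mul_apply, (hc _ hw hw0).eq, Equiv.Perm.mul_apply, ih hu]
  · intro b hb _
    rw [testBit_maskL, List.mem_map] at hb
    obtain ⟨s, hs', rfl⟩ := hb
    obtain ⟨⟨hs1, hws⟩, huniq⟩ := hseed s hs'
    by_contra hne
    set r := c (Cfsg.Agent.HSPerm.pt s.1) with hr
    obtain ⟨w, hw, hmove⟩ := (huniq r.val r.isLt).resolve_left fun e =>
      hne (by rw [← Cfsg.Agent.HSPerm.pt_val r, e])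
    obtain ⟨hwl, hwfix⟩ := hws w hw
    have e1 := (psiK_word w hwl hs1).2
    rw [hwfix] at e1
    have e2 := (psiK_word w hwl r.isLt).2
    rw [Cfsg.Agent.HSPerm.pt_val] at e2
    have e3 : psiK (wordEl el w) r = r := by
      conv_lhs => rw [hr, ← Equiv.Perm.mul_apply, ← (hc w hwl (hs s hs' w hw)).eq, Equiv.Perm.mul_apply, e1]
    rw [e3] at e2
    exact hmove ((congrArg Fin.val e2).trans (Cfsg.Agent.HSPerm.val_pt (psiK_word w hwl r.isLt).1)).symm

theorem psiK_z_ne : psiK kz ≠ 1 := by
  intro h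
  have e : psi (eb [4]) = psiK kz := by
    rw [show eb [4] = rb kz by simp [eb, wordEl, el], psi_rb]
  have := sign_psi_z
  rw [e, h, map_one] at this
  exact absurd this (by decide)

/-! ### Simplicity -/

/-- A map killing `x` and `y` kills everything. -/
theorem eq_one_of_xy {M : Type*} [Group M] (f : Spor.HN →* M) (hx : f (toHN kx) = 1) (hy : f (toHN ky) = 1) :
    ∀ g, f g = 1 := by
  have ht : f tt = 1 := by
    have h := congrArg f x_conj_tt
    rw [map_mul, map_mul, map_inv, hx, one_mul, inv_one, mul_one, map_pow, pow_two] at h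
    exact mul_eq_left.1 h.symm
  have hz : f (toHN kz) = 1 := by
    have h := congrArg f z_tt_cube
    rw [map_pow, map_mul, ht, mul_one, map_one] at h
    have h2 : f (toHN kz) ^ 2 = 1 := by rw [pow_two, ← map_mul, ← map_mul, kz_sq, map_one, map_one]
    have := pow_gcd_eq_one.2 ⟨h, h2⟩
    rwa [show Nat.gcd 3 2 = 1 from rfl, pow_one] at this
  have hle : (⊤ : Subgroup Spor.HN) ≤ f.ker := by
    rw [← closure_hn, Subgroup.closure_le]
    rintro g (⟨k, rfl⟩ | rfl)
    · have : (⊤ : Subgroup K) ≤ (f.comp toHN).ker := by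
        rw [← closure_xyz, Subgroup.closure_le]
        rintro _ (rfl | rfl | rfl) <;> assumption
      exact this (Subgroup.mem_top k)
    · exact ht
  exact fun g => hle (Subgroup.mem_top g)

theorem isSimpleGroup_hn : IsSimpleGroup Spor.HN := by
  have := hn_finite
  have hnt : Nontrivial Spor.HN := by
    rw [← Finite.one_lt_card_iff_nontrivial, natCard_hn]; norm_num
  refine { eq_bot_or_eq_top_of_normal := fun N hN => or_iff_not_imp_left.2 fun hne => ?_ }
  have hnle : ¬ N ≤ hnH := by
    intro hle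
    refine hne (eq_bot_iff.2 fun g hg => ?_)
    refine Subgroup.mem_bot.2 (phi_injective (Equiv.ext fun X => ?_))
    obtain ⟨a, rfl⟩ := orbPhi_eq_univ X
    have h1 : a⁻¹ * g * a ∈ baseStab := hnH_eq_baseStab ▸ hle (hN.conj_mem' g hg a)
    rw [mem_baseStab] at h1
    simp only [map_mul, map_inv, Equiv.Perm.mul_apply, Equiv.Perm.inv_def, Equiv.symm_apply_eq] at h1
    rw [map_one]
    exact h1
  have hsup : hnH ⊔ N = ⊤ := hnH_isCoatom.2 _ (lt_of_le_of_ne le_sup_left fun e =>
    hnle (e ▸ le_sup_right))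
  set q := QuotientGroup.mk' N
  set R : Subgroup hnH := N.subgroupOf hnH
  by_cases hR : commutator hnH ≤ R
  · have hx : q (toHN kx) = 1 := (QuotientGroup.eq_one_iff _).2 (hR hn_xy_mem_commutator.1)
    have hy : q (toHN ky) = 1 := (QuotientGroup.eq_one_iff _).2 (hR hn_xy_mem_commutator.2)
    exact top_le_iff.1 fun g _ => (QuotientGroup.eq_one_iff _).1 (eq_one_of_xy q hx hy g)
  exfalso
  set D := commutator hnH
  -- the intersection with the derived group is invisible on the vertices
  have hbot : ∀ d : D, (d : hnH) ∈ R → sigma d = 1 := by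
    have := isSimpleGroup_hsPerm
    rcases (Subgroup.Normal.map (inferInstance : (R.subgroupOf D).Normal) sigma sigma_surjective).eq_bot_or_eq_top
      with h | h
    · exact fun d hd => Subgroup.mem_bot.1 (h ▸ ⟨d, hd, rfl⟩)
    · exfalso
      refine hR ?_
      have hDle : commutator D ≤ R.subgroupOf D := by
        rw [commutator_def, Subgroup.commutator_le]
        intro a _ b _
        obtain ⟨a', ha', ea⟩ := (h ▸ Subgroup.mem_top (sigma a) : sigma a ∈ (R.subgroupOf D).map sigma)
        obtain ⟨b', hb', eb'⟩ := (h ▸ Subgroup.mem_top (sigma b) : sigma b ∈ (R.subgroupOf D).map sigma)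
        have hu : a'⁻¹ * a ∈ Subgroup.center D := sigma_ker_le_center (by simp [ea])
        have hv : b'⁻¹ * b ∈ Subgroup.center D := sigma_ker_le_center (by simp [eb'])
        rw [← QuotientGroup.eq_one_iff, ← QuotientGroup.mk'_apply, map_commutatorElement,
          commutatorElement_eq_one_iff_commute]
        have e : ∀ w w' : D, w' ∈ R.subgroupOf D →
            QuotientGroup.mk' (R.subgroupOf D) w = QuotientGroup.mk' (R.subgroupOf D) (w'⁻¹ * w) := by
          intro w w' hw'
          rw [map_mul, map_inv, show QuotientGroup.mk' (R.subgroupOf D) w' = 1 from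
            (QuotientGroup.eq_one_iff _).2 hw', inv_one, one_mul]
        rw [e a a' ha', e b b' hb']
        exact (show Commute (a'⁻¹ * a) (b'⁻¹ * b) from Subgroup.mem_center_iff.1 hv _).map _
      intro d hd
      exact hDle (commutator_eq_top_of_perfect.symm ▸ Subgroup.mem_top (⟨d, hd⟩ : D))
  have hcentral : ∀ r ∈ R, ∀ g : hnH, Commute (psi (beta r)) (psi (beta g)) := by
    intro r hr g
    have hRn : R.Normal := inferInstance
    have hmem : ⁅r, g⁆ ∈ R := by
      rw [commutatorElement_def, show r * g * r⁻¹ * g⁻¹ = r * (g * r⁻¹ * g⁻¹) by group]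
      exact mul_mem hr (hRn.conj_mem _ (inv_mem hr) g)
    have hD : ⁅r, g⁆ ∈ D := Subgroup.commutator_mem_commutator (Subgroup.mem_top r) (Subgroup.mem_top g)
    have h1 : psi (beta ⁅r, g⁆) = 1 := congrArg Subtype.val (hbot ⟨_, hD⟩ hmem)
    rw [map_commutatorElement, map_commutatorElement] at h1
    exact commutatorElement_eq_one_iff_commute.1 h1
  have hRpsi : ∀ r ∈ R, psi (beta r) = 1 := fun r hr => centraliser_trivial fun v _ _ => by
    have := hcentral r hr (toH (wordEl el v))
    rwa [beta_apply, psi_rb] at this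
  -- a homomorphism on the vertices
  let θ0 : hnH →* Equiv.Perm (Fin 100) := psi.comp beta
  let f : hnH →* Spor.HN ⧸ N := q.comp hnH.subtype
  have hf : Function.Surjective f := by
    intro x
    obtain ⟨g, rfl⟩ := QuotientGroup.mk'_surjective N x
    obtain ⟨h, hh, n, hn, rfl⟩ := Subgroup.mem_sup_of_normal_right.1 (hsup.symm ▸ Subgroup.mem_top g : g ∈ hnH ⊔ N)
    refine ⟨⟨h, hh⟩, ?_⟩
    show q h = q (h * n)
    rw [map_mul, show q n = 1 from (QuotientGroup.eq_one_iff _).2 hn, mul_one]
  have hker : f.ker ≤ θ0.ker := fun h hh =>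
    MonoidHom.mem_ker.2 (hRpsi h ((QuotientGroup.eq_one_iff (N := N) (h : Spor.HN)).1 (MonoidHom.mem_ker.1 hh)))
  let θ : Spor.HN →* Equiv.Perm (Fin 100) := (f.liftOfSurjective hf ⟨θ0, hker⟩).comp q
  have hθ : ∀ k : K, θ (toHN k) = psiK k := fun k => by
    have h1 : θ (toHN k) = θ0 (toH k) :=
      MonoidHom.liftOfRightInverse_comp_apply f _ (Function.rightInverse_surjInv hf) ⟨θ0, hker⟩ (toH k)
    rw [h1]
    show psi (beta (toH k)) = _
    rw [beta_apply, psi_rb]
  have ht : θ tt = 1 := centraliser_trivial fun v hv h0 => by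
    have h := (toHN_fixGroup_comm (rho_of_fix (fun a ha => (hv a ha).trans (by omega)) h0)).symm.map θ
    rwa [hθ] at h
  refine psiK_z_ne ?_
  have h := congrArg θ z_tt_cube
  rw [map_pow, map_mul, hθ, ht, mul_one, map_one] at h
  have h2 : psiK kz ^ 2 = 1 := by rw [pow_two, ← map_mul, kz_sq, map_one]
  have := pow_gcd_eq_one.2 ⟨h, h2⟩
  rwa [show Nat.gcd 3 2 = 1 from rfl, pow_one] at this

theorem isHN_hn : Cfsg.IsHN Spor.HN := ⟨isSimpleGroup_hn, natCard_hn⟩

end Cfsg.Agent.HNPresented
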