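import Cfsg.Agent.Lib.HNPresented.Base
import Cfsg.Agent.Lib.HNPresented.Table50
import Cfsg.Agent.Lib.HNPresented.LowData

/-!
# The subgroup of index 50 in the group of the first six relators

* `mem_edgeGroup_of_fix` : a word fixing the coset `0` of the table lies in `edgeGroup = ⟨x, w⟩`
* `blocks_spec` : the 50 cosets are matched equivariantly with blocks of the 1408 points
-/

set_option autoImplicit false
set_option maxRecDepth 100000
set_option Elab.async false

open Cfsg

namespace Cfsg.Agent.HNPresented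

open Cfsg.Agent.CosetEnum

/-- Two generators. -/
inductive G2
  | x
  | y
  deriving DecidableEq

/-- The generator `x`. -/
abbrev hx : FreeGroup G2 := FreeGroup.of G2.x
/-- The generator `y`. -/
abbrev hy : FreeGroup G2 := FreeGroup.of G2.y

/-- The setup of the first six relators. -/
def sixSetup : Setup G2 where
  edges := []
  extra := [hy ^ 6, (hx ^ 2) * hy * (hx ^ 2) * (hy⁻¹), (hx⁻¹ * hy⁻¹ * hx * hy) ^ 3,
    ((hx⁻¹) * (hy ^ 2) * hx * (hy ^ 3)) ^ 3, (hx * hy) ^ 8, (hx * hy * hx * (hy ^ 3)) ^ 4]
  gens := [.x, .y]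
  pos := [0, 2]
  lt := [(.x, true), (.x, false), (.y, true), (.y, false)]

theorem sixSetup_gens : ∀ g, g ∈ sixSetup.gens := by intro g; cases g <;> simp [sixSetup]

theorem six_letters : sixSetup.lettersOK hn50 = true := by decide +kernel

/-- The subgroup words of the table. -/
def sixSub : List (FreeGroup G2) := [hx, hy * hx * hy * hx * hy ^ 2 * hx * hy⁻¹]

/-- The words proved to fix the coset `0`. -/
noncomputable def sixExt : List (List ℕ) := [hn50_seed0.tgt, hn50_seed1.tgt, hn50_seed2.tgt]

theorem six_seed0 : (Setup.seedOK sixSetup hn50 (List.range hn50.k) sixSub hn50_seed0 &&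
    hn50_seed0.tgt.all fun a => Nat.blt a hn50.k) = true := by decide +kernel

theorem six_seed1 : (Setup.seedOKExt sixSetup hn50 (List.range hn50.k) sixSub [hn50_seed0.tgt] hn50_seed1 &&
    (hn50_seed1.tgt.all (fun a => Nat.blt a hn50.k) &&
      [hn50_seed0.tgt].all fun w => w.all fun a => Nat.blt a hn50.k)) = true := by decide +kernel

theorem six_seed2 : (Setup.seedOKExt sixSetup hn50 (List.range hn50.k) sixSub [hn50_seed0.tgt, hn50_seed1.tgt]
    hn50_seed2 && (hn50_seed2.tgt.all (fun a => Nat.blt a hn50.k) &&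
      [hn50_seed0.tgt, hn50_seed1.tgt].all fun w => w.all fun a => Nat.blt a hn50.k)) = true := by
  decide +kernel

theorem six_ok : Setup.tableOK sixSetup hn50 sixSub sixExt = true := by decide +kernel

theorem six_table : Setup.Table sixSetup hn50 sixSub := by
  have h0 := Setup.seed_fixes_id sixSetup_gens six_letters hn50_seed0_check six_seed0
  have h1 := Setup.seed_fixes_id_ext sixSetup_gens six_letters hn50_seed1_check [hn50_seed0.tgt]
    (fun w hw => by rw [List.mem_singleton] at hw; subst hw; exact h0) six_seed1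
  have h2 := Setup.seed_fixes_id_ext sixSetup_gens six_letters hn50_seed2_check
    [hn50_seed0.tgt, hn50_seed1.tgt] (fun w hw => by
      simp only [List.mem_cons, List.not_mem_nil, or_false] at hw
      rcases hw with rfl | rfl
      exacts [h0, h1]) six_seed2
  refine Setup.Table.mk' sixSetup_gens hn50_check six_ok fun w hw => ?_
  simp only [sixExt, List.mem_cons, List.not_mem_nil, or_false] at hw
  rcases hw with rfl | rfl | rfl
  exacts [h0, h1, h2]

/-- The generators inside `K`. -/
def incl6 : G2 → G3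
  | .x => .x
  | .y => .y

theorem incl6_rels : ∀ r ∈ sixSetup.extra, FreeGroup.map incl6 r ∈ rels3 := by decide +kernel

/-- The map to `K`. -/
noncomputable def toK : sixSetup.G →* K :=
  PresentedGroup.toGroup (f := fun g => (PresentedGroup.of (incl6 g) : K)) fun r hr => by
    have h : FreeGroup.lift (fun g => (PresentedGroup.of (incl6 g) : K)) r
        = PresentedGroup.mk {r | r ∈ rels3} (FreeGroup.map incl6 r) :=
      DFunLike.congr_fun (FreeGroup.ext_hom (f := FreeGroup.lift _)
        (g := (PresentedGroup.mk _).comp (FreeGroup.map incl6)) fun a => by simp [PresentedGroup.of]) r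
    rw [h]
    rcases hr with ⟨a, ha, -⟩ | hr
    · exact absurd ha (by simp [sixSetup, Cfsg.Spor.coxNodes])
    · exact PresentedGroup.one_of_mem (incl6_rels r hr)

theorem toK_el : ∀ a < 4, toK (sixSetup.el a) = el a := by
  have hx : toK (PresentedGroup.of G2.x) = kx := PresentedGroup.toGroup.of _
  have hy : toK (PresentedGroup.of G2.y) = ky := PresentedGroup.toGroup.of _
  intro a ha
  interval_cases a
  exacts [hx, (map_inv toK _).trans (congrArg Inv.inv hx), hy, (map_inv toK _).trans (congrArg Inv.inv hy)]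

/-- The word `y x y x y² x y⁻¹`. -/
def wWord : List ℕ := [2, 0, 2, 0, 2, 2, 0, 3]

/-- The subgroup generated by `x` and `w`. -/
noncomputable def edgeGroup : Subgroup K := Subgroup.closure {kx, StabCert.wordEl el wWord}

theorem tab50_ok : ((List.range 4).all fun a => (List.range 50).all fun i =>
    Nat.beq (StabCert.look 6 (tab50.getD a 0) i) (hn50.act a i) &&
      Nat.blt (StabCert.look 6 (tab50.getD a 0) i) 50) = true := by decide +kernel

theorem hn50_k : hn50.k = 4 ∧ hn50.n = 50 := ⟨rfl, rfl⟩

/-- The action of the six-relator group on the 50 cosets. -/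
noncomputable def rho50 : sixSetup.G →* Equiv.Perm (Fin hn50.n) :=
  Setup.hom six_table.gens six_table.letters six_table.perm six_table.rels

theorem ev50 : ∀ (v : List ℕ), (∀ a ∈ v, a < 4) → ∀ i : Fin hn50.n,
    StabCert.ev 6 tab50 v i < 50 ∧
      (rho50 (StabCert.wordEl sixSetup.el v) i : ℕ) = StabCert.ev 6 tab50 v i
  | [], _, i => ⟨i.isLt, by simp [StabCert.wordEl, StabCert.ev]⟩
  | a :: v, hv, i => by
    obtain ⟨h1, h2⟩ := ev50 v (fun b hb => hv b (List.mem_cons_of_mem a hb)) i
    have ha : a < 4 := hv a List.mem_cons_self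
    have h := tab50_ok
    simp only [List.all_eq_true, List.mem_range, Bool.and_eq_true, Nat.blt_eq] at h
    refine ⟨(h a ha _ h1).2, ?_⟩
    rw [wordEl_cons sixSetup.el a v, map_mul, Equiv.Perm.mul_apply, rho50,
      Setup.hom_el _ _ _ _ (show a < hn50.k from hn50_k.1 ▸ ha), Setup.perm_apply _ (hn50_k.1 ▸ ha),
      ← rho50, h2, ← Nat.eq_of_beq_eq_true (h a ha _ h1).1]
    rfl

theorem mem_edgeGroup_of_fix {v : List ℕ} (hv : ∀ a ∈ v, a < 4)
    (h : StabCert.ev 6 tab50 v 0 = 0) : StabCert.wordEl el v ∈ edgeGroup := by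
  obtain ⟨ext, hsrc, hext⟩ := six_table.src
  obtain ⟨e, he0, he⟩ := Setup.exists_equiv six_table.gens six_table.letters six_table.check six_table.rels
    six_table.perm six_table.subs hsrc _ rfl hext
  have hi : rho50 (StabCert.wordEl sixSetup.el v) ⟨0, six_table.perm.hn⟩ = ⟨0, six_table.perm.hn⟩ :=
    Fin.ext ((ev50 v hv ⟨0, six_table.perm.hn⟩).2.trans h)
  have hm := he (StabCert.wordEl sixSetup.el v) ⟨0, six_table.perm.hn⟩
  rw [← rho50, hi, he0, MulAction.Quotient.smul_coe, smul_eq_mul, mul_one] at hm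
  have hm' : StabCert.wordEl sixSetup.el v ∈ sixSetup.closureOf sixSub := by
    have := QuotientGroup.eq.1 hm
    simpa [Setup.closureOf] using this
  have himg : toK (StabCert.wordEl sixSetup.el v) = StabCert.wordEl el v := by
    simp only [StabCert.wordEl, map_list_prod, List.map_map]
    exact congrArg List.prod (List.map_congr_left fun a ha => toK_el a (hv a ha))
  rw [← himg]
  have hle : (sixSetup.closureOf sixSub).map toK ≤ edgeGroup := by
    rw [Setup.closureOf, MonoidHom.map_closure, Subgroup.closure_le]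
    rintro _ ⟨_, ⟨r, hr, rfl⟩, rfl⟩
    simp only [sixSub, List.mem_cons, List.not_mem_nil, or_false, Set.mem_setOf_eq] at hr
    have hx : toK (PresentedGroup.mk _ hx) = kx := toK_el 0 (by omega)
    have hy : toK (PresentedGroup.mk _ hy) = ky := toK_el 2 (by omega)
    rcases hr with rfl | rfl
    · exact Subgroup.subset_closure (Or.inl hx)
    · refine Subgroup.subset_closure (Or.inr ?_)
      simp only [map_mul, map_pow, map_inv, hx, hy]
      simp [StabCert.wordEl, wWord, el, pow_two, mul_assoc]
  exact hle ⟨_, hm', rfl⟩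

/-- A block of points. -/
def blk (i : ℕ) : List ℕ := blocks50.getD i []

theorem blocks_ok : (((List.range 4).all fun a => (List.range 50).all fun i =>
      Nat.beq (StabCert.maskL ((blk i).map (StabCert.look 11 (tab.getD a 0))))
        (StabCert.maskL (blk (StabCert.look 6 (tab50.getD a 0) i)))) &&
    ((List.range 50).all fun i => (blk i).all (fun b => Nat.blt b 1408) &&
      (i == 0 || !Nat.beq (StabCert.maskL (blk i)) (StabCert.maskL (blk 0))))) = true := by
  decide +kernel

theorem blocks_map : ∀ (v : List ℕ), (∀ a ∈ v, a < 4) → ∀ b,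
    b ∈ blk (StabCert.ev 6 tab50 v 0) ↔ ∃ c ∈ blk 0, StabCert.ev 11 tab v c = b
  | [], _, b => by simp [StabCert.ev]
  | a :: v, hv, b => by
    have ih := blocks_map v (fun c hc => hv c (List.mem_cons_of_mem a hc))
    have ha : a < 4 := hv a List.mem_cons_self
    have hlt := (ev50 v (fun c hc => hv c (List.mem_cons_of_mem a hc)) ⟨0, six_table.perm.hn⟩).1
    have h := blocks_ok
    simp only [List.all_eq_true, List.mem_range, Bool.and_eq_true] at h
    have hm := Nat.eq_of_beq_eq_true (h.1 a ha _ hlt)
    show b ∈ blk (StabCert.look 6 (tab50.getD a 0) (StabCert.ev 6 tab50 v 0)) ↔ _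
    rw [← StabCert.testBit_maskL, ← hm, StabCert.testBit_maskL, List.mem_map]
    constructor
    · rintro ⟨c, hc, rfl⟩
      obtain ⟨c', hc', rfl⟩ := (ih c).1 hc
      exact ⟨c', hc', rfl⟩
    · rintro ⟨c, hc, rfl⟩
      exact ⟨_, (ih _).2 ⟨c, hc, rfl⟩, rfl⟩

/-- A word acting trivially on the points fixes the coset `0`. -/
theorem blocks_spec {v : List ℕ} (hv : ∀ a ∈ v, a < 4) (h : ∀ p < 1408, StabCert.ev 11 tab v p = p) :
    StabCert.ev 6 tab50 v 0 = 0 := by
  have hb := blocks_ok
  simp only [List.all_eq_true, List.mem_range, Bool.and_eq_true, Bool.or_eq_true, beq_iff_eq,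
    Bool.not_eq_true', Nat.blt_eq] at hb
  have hlt := (ev50 v hv ⟨0, six_table.perm.hn⟩).1
  rcases (hb.2 _ hlt).2 with e | e
  · exact e
  exfalso
  refine Bool.eq_false_iff.1 e (Nat.beq_eq.mpr (Nat.eq_of_testBit_eq fun b => ?_))
  rw [Bool.eq_iff_iff, StabCert.testBit_maskL, StabCert.testBit_maskL, blocks_map v hv]
  have h0 := fun c hc => (hb.2 0 (by omega)).1 c hc
  constructor
  · rintro ⟨c, hc, rfl⟩
    rwa [h c (h0 c hc)]
  · exact fun hc => ⟨b, hc, h b (h0 b hc)⟩

end Cfsg.Agent.HNPresented
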