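import Cfsg.Agent.Lib.HNPresented.Engine

/-!
# Derivation of the double cosets of `⟨x, y, z⟩` in HN

Generated data.
-/

set_option autoImplicit false
set_option maxRecDepth 100000

namespace Cfsg.Agent.HNPresented

/-- The equations. -/
def topFacts : List Fact :=
  [(0, [], 1, []),
   (1, [4, 0], 2, []),
   (1, [4, 1], 3, []),
   (1, [4, 0, 3, 4], 4, []),
   (1, [4, 3, 4, 3, 4], 5, []),
   (2, [4, 1, 3], 6, []),
   (4, [4, 3, 4, 0], 7, []),
   (6, [4, 0, 2], 8, []),
   (1, [0, 0], 0, []),
   (1, [0], 1, [1]),
   (1, [], 1, [0]),
   (1, [1], 1, [0, 0]),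
   (3, [0, 0], 1, [4, 0]),
   (2, [0, 0], 1, [4, 1]),
   (4, [0, 0, 6, 3, 7, 3, 3, 6, 3, 7, 3, 6, 2, 6, 6, 2], 1, [4, 0, 3, 4]),
   (5, [0, 0, 3, 6, 3, 7, 2, 2], 1, [4, 3, 4, 3, 4]),
   (3, [0], 2, [1]),
   (6, [0, 0], 2, [4, 0, 3]),
   (2, [0], 3, [1]),
   (4, [0, 3, 7, 7, 3, 7, 2, 6, 2, 7, 2, 2, 6, 2, 7], 4, [1]),
   (7, [0, 0, 2, 2, 7, 2, 2, 6, 6, 3, 7, 7, 3, 3, 7, 3], 4, [4, 3, 4, 0]),
   (5, [0, 3, 3, 6, 2, 7, 2], 5, [1]),
   (5, [7, 7, 3, 6, 3, 3, 7, 2, 2, 6, 2], 5, [0]),
   (5, [1, 7, 3, 7, 7, 2, 6, 2, 7, 2, 2, 2], 5, [0, 0]),
   (8, [0, 0], 6, [4, 1, 2]),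
   (7, [0, 2, 6, 2, 2, 6, 6, 2, 7, 7, 3, 3, 6, 3, 3], 7, [1]),
   (2, [4], 1, [4]),
   (3, [1], 2, [4]),
   (2, [4, 1], 2, [0, 0]),
   (2, [], 2, [4, 0]),
   (1, [4, 0, 0], 2, [4, 0, 0]),
   (2, [4, 0, 0], 3, [0]),
   (3, [4], 1, [4, 0]),
   (1, [4], 1, [4, 0, 0]),
   (2, [1], 1, [4]),
   (3, [], 1, [4, 0]),
   (2, [4, 0], 1, [4, 1]),
   (4, [4, 3, 6, 6, 2, 7, 2, 6, 3, 7, 7, 2, 6, 6], 1, [4, 2, 0, 2, 4, 0, 7, 3, 3, 7]),
   (4, [4, 7, 3, 3, 7, 2, 2, 7, 3, 3, 6, 2, 6, 6, 3], 3, [4, 0, 0, 3]),
   (3, [4, 2, 2, 6, 2, 7, 3, 7, 2, 6, 2, 2, 2, 7], 4, [4, 0, 0, 3]),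
   (4, [4, 0, 3], 4, [4, 1, 3]),
   (6, [4, 3, 3, 7, 3, 3, 6, 2, 6, 2, 2], 3, [4, 0, 7]),
   (4, [4, 1, 6, 6, 2, 6, 3, 7, 3, 6, 2, 2, 6, 2, 2, 2], 6, [4]),
   (4, [4, 0, 0, 6, 6, 2, 6, 3, 7, 3, 6, 2, 2, 6, 2, 2, 2], 6, [4, 0]),
   (3, [4, 1, 7, 7, 3, 7, 3, 6, 6, 2, 6], 6, [4, 0, 0]),
   (6, [4, 1, 6, 6, 3, 7, 7, 3, 6, 2, 6, 3, 7, 3, 3], 4, [4, 3]),
   (6, [4, 0, 0, 6, 6, 3, 7, 7, 3, 6, 2, 6, 3, 7, 3, 3], 4, [4, 0, 3]),
   (6, [4, 0], 6, [4, 1]),
   (2, [4, 1, 7, 3, 6, 3, 3, 7, 7, 2, 2, 7, 2], 1, [4, 2, 0, 2, 4, 3, 7, 7, 3]),
   (4, [1, 2, 6, 6, 3, 3, 6, 6, 3, 3, 7, 2, 6, 6], 2, [4, 1, 7, 3]),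
   (1, [4, 2, 1, 2, 4, 6, 2, 7, 3, 7, 3, 6, 2], 2, [4, 0, 7, 3]),
   (2, [3, 4, 6, 2, 6, 3, 7, 7, 3, 6, 6, 2, 7], 2, [4, 3, 4, 2]),
   (4, [7, 7, 2, 6, 3, 7, 3, 6, 2, 6, 6, 6, 2], 2, [4, 7, 3]),
   (2, [4, 3, 4, 2, 4, 0, 0, 2, 2, 7, 3, 6, 2, 2, 2, 6], 4, [0]),
   (2, [1, 3, 4, 0, 2, 7, 2, 6, 2, 7, 7, 3, 6, 6, 3, 7, 7], 4, [0, 0]),
   (6, [4, 2, 1, 2, 4, 7, 7, 2, 2, 7, 3, 3, 7, 7, 3, 6, 6, 3, 3], 3, [4, 2, 0, 2, 4, 0, 7, 2, 2, 2, 7, 2, 6, 2, 2, 2]),
   (2, [3, 4, 2, 4, 0, 0, 2, 2, 7, 3, 6, 2, 2, 2, 6], 2, [4, 3, 4]),
   (6, [0, 6, 2, 6, 6, 3, 7, 3, 3, 7, 2, 6, 3], 2, [4, 3]),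
   (2, [3, 4, 0, 0, 6, 6, 3, 3, 7, 2, 2, 6, 6, 2, 7, 2, 2], 6, [1]),
   (6, [1, 6, 2, 6, 6, 3, 7, 3, 3, 7, 2, 6, 3], 6, [0]),
   (4, [4, 3, 6], 2, [4, 0, 0, 3]),
   (2, [0, 3, 4, 0, 6, 6, 3, 7, 2, 6, 3, 3], 4, [4]),
   (6, [2, 6, 2, 7, 2, 6, 2, 2, 2, 7, 7, 3], 4, [4, 0]),
   (4, [4, 1, 6, 2, 2, 6, 6, 6, 3, 3, 6, 3, 3, 7], 6, [0, 0]),
   (6, [4, 1, 2, 2, 7, 3, 7, 7, 3, 6, 2, 6, 2], 2, [4, 3, 3, 4, 2, 4, 6]),
   (2, [4, 1, 3, 3, 4, 2, 4, 0, 7, 7, 2, 6, 3, 7, 2, 2, 2, 7, 3, 6, 2], 6, [4, 1, 3, 4]),
   (6, [3, 4, 0, 3, 4, 0, 7, 7, 3, 7, 2, 6, 2, 2, 7, 3, 6, 2, 6, 2], 6, [4, 3, 4]),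
   (5, [4, 2, 6, 2, 2, 7, 2, 6, 2, 7, 3, 6, 2, 2, 7], 2, [4, 3, 4, 1, 2, 2, 2, 7, 3]),
   (6, [3, 3, 4, 2, 2, 4, 0, 0, 6, 3, 7, 3, 3, 7, 2, 2, 6, 3, 3], 5, [4]),
   (6, [0, 3, 4, 3, 4, 6, 3, 3, 7, 7, 3, 3, 7, 7, 3, 3], 5, [4, 0]),
   (2, [4, 3, 3, 4, 0, 6, 3, 7, 7, 2, 2, 6, 2, 7, 3, 3, 7, 2], 5, [4, 0, 0]),
   (5, [2, 0, 2, 4, 2, 6, 2, 2, 7, 7, 2, 2, 2, 6], 6, [4, 0, 3, 4]),
   (5, [4, 3, 4, 2, 4, 1, 2, 2, 2, 7, 2, 6, 3, 7, 3, 6, 3, 7, 3], 6, [4, 3, 4, 0, 0]),
   (5, [1, 3, 4, 3, 4, 2, 4, 0, 6, 6, 6, 3, 7, 7, 3, 3, 6, 2, 2, 6, 2, 2], 5, [4, 1]),
   (5, [4, 0, 2, 0, 2, 2, 2, 4, 3, 6, 3, 3, 7, 2, 6], 2, [4, 2, 4, 2, 4, 6]),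
   (6, [4, 3, 3, 4, 2, 2, 4, 1, 3, 6, 2, 7, 2, 2, 7, 3, 3, 6, 2, 7, 3, 3], 4, [4, 7]),
   (4, [4, 3, 4, 2, 4, 1, 6, 6, 2, 2, 7, 7, 2, 2, 6, 3, 7], 6, [4, 3]),
   (4, [2, 0, 2, 4, 3, 7, 3, 6, 3, 7, 2, 2, 6, 2, 2], 4, [4, 0, 7]),
   (5, [4, 3, 3, 4, 0, 0, 7, 7, 3, 7, 3, 6, 2, 7, 3, 3, 6, 3, 3], 4, [4, 1, 7]),
   (4, [4, 2, 4, 3, 4, 0, 0, 6, 3, 7, 3, 6, 2, 7, 2, 2, 6, 6], 5, [4, 0, 2]),
   (6, [2, 4, 0, 3, 3, 7, 3, 3, 6, 6, 2, 2, 7, 2, 6, 6, 2], 5, [4, 1, 2]),
   (4, [4, 3, 7, 2, 6, 2, 7, 2, 2, 6, 3, 3], 5, [4, 0, 0, 2]),
   (5, [4, 3, 4, 2, 4, 0, 0, 6, 2, 7, 3, 7, 2, 6, 2, 7, 3], 6, [4, 0, 3]),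
   (5, [4, 6, 3, 7, 2, 6, 6, 2, 7, 2, 6, 2, 2, 2], 4, [4, 0, 0, 7]),
   (5, [4, 2, 4, 3, 4, 1, 6, 2, 6, 3, 3, 7, 7, 3, 6, 2, 6, 6, 3, 3], 5, [4, 2]),
   (6, [2, 2, 4, 3, 4, 3, 4, 0, 2, 2, 6, 3, 3, 7, 3, 6, 2, 6, 6, 3, 3], 4, [4, 0, 2, 4, 0, 2]),
   (7, [2, 7, 7, 3, 3, 6, 3, 7, 3, 3, 6, 6, 6], 6, [4, 3, 4, 0]),
   (4, [4, 2, 2, 4, 0, 0, 6, 6, 2, 2, 6, 6, 3, 3, 7, 3, 6, 2, 2], 6, [4, 3, 3, 4]),
   (7, [1, 2, 6, 2, 2, 7, 7, 3, 7, 7, 2, 2, 6, 2, 2], 6, [4, 1, 3, 4, 0]),
   (6, [3, 4, 2, 4, 2, 7, 3, 6, 2, 7, 3, 7, 2, 6, 3, 7, 2], 7, [0]),
   (6, [3, 3, 4, 2, 4, 0, 3, 7, 2, 2, 6, 2, 7, 3, 7, 7, 2, 2], 7, [0, 0]),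
   (6, [2, 4, 2, 2, 2, 4, 0, 6, 3, 3, 6, 2, 2, 6, 2, 7, 3, 6, 6, 2], 6, [4, 3, 4, 1]),
   (7, [4, 6, 2, 2, 7, 7, 2, 2, 2, 6, 2, 2], 4, [4, 3, 4, 0, 3]),
   (7, [4, 0, 6, 2, 6, 6, 6, 2, 2, 2, 7, 3, 6], 4, [4, 3, 4, 1, 3]),
   (7, [4, 7, 2, 6, 2, 2, 7, 2, 6, 2, 2, 7, 7, 3], 4, [4, 3, 4, 1, 7]),
   (6, [1, 3, 3, 4, 0, 6, 2, 7, 3, 3, 7, 3, 6, 2, 7, 3, 3, 7, 2, 2], 7, [4]),
   (7, [3, 0, 2, 0, 2, 2, 2, 4, 6, 2, 7, 3, 3, 7, 3, 3, 6, 2, 7, 2], 6, [4, 3, 3]),
   (6, [0, 3, 3, 4, 3, 3, 7, 7, 3, 3, 7, 7, 3, 7, 3], 6, [4, 0, 7]),
   (5, [4, 0, 2, 2, 4, 6, 2, 2, 2, 7, 7, 2, 2, 6, 6], 7, [4, 2, 2]),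
   (6, [0, 2, 0, 3, 0, 3, 3, 4, 2, 6, 3, 7, 7, 3, 6, 6, 2, 6, 2, 2, 2, 6], 5, [4, 0, 3, 4]),
   (7, [2, 0, 2, 0, 2, 2, 4, 2, 6, 6, 3, 7, 3, 6, 2, 6, 3, 7], 5, [4, 1, 3, 4]),
   (6, [4, 2, 2, 6, 6, 6, 2, 2, 2, 6, 6, 6], 5, [4, 3, 3, 4]),
   (5, [1, 3, 3, 4, 2, 4, 3, 7, 3, 6, 6, 2, 2, 6, 2, 7, 3, 3, 7], 6, [4, 1, 7]),
   (5, [4, 3, 4, 0, 0, 7, 3, 3, 7, 7, 2, 2, 6, 2, 2, 7, 2], 6, [4, 0, 0, 7]),
   (5, [4, 0, 2, 0, 2, 0, 2, 2, 4, 0, 7, 3, 7, 3, 6, 2, 2, 2, 6, 2, 2, 6, 2], 5, [4, 3, 4]),
   (7, [4, 0, 6, 2, 2, 2, 7, 3, 3, 6, 3, 7, 2], 7, [4, 7, 7, 3]),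
   (6, [4, 0, 0, 2, 2, 6, 6, 6, 3, 3, 7, 2, 2, 7], 6, [4, 2]),
   (8, [], 6, [4, 1, 2]),
   (8, [4, 3, 6, 6, 2, 6, 3, 7, 3, 6, 3, 7, 2, 2], 6, [4, 1, 2]),
   (6, [4, 7, 3, 3, 6, 6, 6, 2, 2, 6, 3, 3, 7], 6, [4, 0, 2]),
   (8, [0, 2, 6, 3, 3, 6, 2, 2, 7, 7, 2], 6, [4, 1, 2]),
   (6, [0, 2, 4, 2, 7, 7, 2, 6, 6, 3, 3, 6, 6], 6, [4, 0, 0, 2]),
   (8, [4, 2, 2, 6, 2], 8, [4, 0, 0, 2, 2, 6, 2]),
   (6, [4, 1, 3, 0, 2, 4, 2, 2, 4, 6, 2, 7, 3, 7, 2, 6], 6, [4, 3, 4, 0, 0, 3]),
   (6, [2, 2, 4, 2, 1, 2, 2, 4, 0, 3, 3, 6, 2, 7, 3, 7, 2, 6, 6, 3, 7], 6, [4, 3, 4, 3]),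
   (6, [0, 2, 4, 3, 3, 4, 6, 3, 7, 2, 2, 6, 6, 2, 2, 7, 2, 2], 6, [4, 0, 3, 4, 3]),
   (6, [4, 2, 1, 3, 0, 2, 0, 2, 2, 4, 2, 7, 3, 6, 3, 3, 6], 6, [4, 1, 3, 4, 3])]

/-- The fixing elements. -/
def topFixes : List Fixer :=
  [(0, [0]),
   (0, [2]),
   (0, [4]),
   (1, [2]),
   (1, [6]),
   (2, [3, 6, 3]),
   (2, [7, 3, 6, 2]),
   (3, [3, 6, 3]),
   (3, [7, 3, 6, 2]),
   (4, [2, 6, 6, 6, 3]),
   (4, [2, 7, 3, 7, 2, 2, 2, 6, 3, 7, 2, 2]),
   (4, [7, 7, 3, 7, 3, 6]),
   (5, [6, 2, 7, 2, 2, 6, 2, 7, 2, 6, 6, 3]),
   (5, [7, 3, 7, 7, 3, 6, 6, 6, 2, 6, 6, 2]),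
   (5, [3, 7, 7, 2, 6, 6, 3, 3, 7, 2, 6, 3]),
   (6, [3, 6, 6, 2, 6, 6, 3, 3, 7, 3]),
   (6, [2, 6, 6, 6, 3, 3, 7, 2, 2, 7]),
   (7, [7, 3, 6, 2, 7, 3, 6, 2]),
   (8, [2, 6, 3, 3, 6]),
   (8, [3, 6, 6, 3, 7]),
   (3, [4, 0, 0]),
   (2, [4, 1]),
   (3, [0, 0]),
   (4, [1, 3, 4, 0, 7, 2, 2, 2, 6, 3, 7, 3]),
   (3, [4, 2, 4, 3, 4, 0, 0, 7, 2, 6, 6, 6, 3, 7, 2, 6, 6, 2, 6]),
   (4, [4, 1, 3, 4, 0, 2, 2, 6, 6, 3, 3, 6, 6, 2, 2]),
   (6, [4, 0, 3, 4, 0, 2, 6, 2, 2, 7, 7, 2, 2, 6, 2]),
   (7, [2, 6, 6, 3, 3, 7, 3, 3, 6, 3, 7, 3]),
   (8, [7, 3, 6, 2, 6, 3, 7, 7, 3, 6, 6, 2, 7, 2, 2]),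
   (6, [4, 3, 4, 2, 4, 2, 6, 2, 2, 7, 2, 2, 6, 2, 2]),
   (5, [4, 3, 4, 3, 4, 3, 7, 7, 3, 7, 7, 2, 2, 7, 7, 3, 7, 7, 3]),
   (7, [1, 3, 3, 4, 0, 3, 6, 2, 7, 3, 6, 2, 6]),
   (7, [0, 3, 4, 3, 6, 2, 7, 3, 6, 2]),
   (7, [3, 1, 2, 4, 0, 2, 2, 2, 4, 0, 3, 7, 3, 6, 2, 6, 3, 7, 3, 3, 6]),
   (8, [0, 0]),
   (8, [4, 3, 6, 6, 2, 6, 3, 7, 3, 6, 3, 7, 2, 2]),
   (8, [1, 2, 6, 3, 3, 6, 2, 2, 7, 7, 2]),
   (8, [4, 0, 2, 4, 0, 2, 4, 6, 3, 3, 6, 3, 3, 7, 2, 6, 2, 2, 7, 3]),
   (8, [3, 1, 2, 2, 4, 0, 2, 7, 7, 3, 7, 3, 6, 3, 3, 7, 2, 2])]

/-- The cycles, in the order of application. -/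
def topCycles : List (List (Option (List ℕ))) :=
  [[some [1, 1], none, some [0, 0]],
   [some [0, 0], none, some [1, 1]],
   [none, none, none, none],
   [some [1, 1, 1], none, some [0, 0, 0], none],
   [none, some [1, 1, 1], none, some [0, 0, 0]],
   [some [0, 0, 0], none, none, some [1, 1, 1]],
   [some [4], none, some [4], none, some [4]]]

/-- The derivation. -/
def topItems : List Item :=
  [.stab 0 [0] [2],
   .stab 0 [2] [1, 2, 0],
   .stab 1 [1, 2, 1] [7, 8, 7],
   .stab 1 [3, 1, 2, 0] [7, 9, 6, 8],
   .stab 2 [1, 2, 1] [7, 8, 7],
   .stab 2 [3, 1, 2, 0] [7, 9, 6, 8],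
   .stab 3 [0, 2, 2, 2, 1] [8, 6, 6, 9, 7, 8, 6, 6, 6, 9, 7, 7, 8, 6, 9, 6, 6, 6],
   .stab 3 [0, 3, 1, 3, 0, 0, 0, 2, 1, 3, 0, 0] [7, 7, 8, 6, 9, 7, 8, 6, 9, 7, 8, 6, 6, 8, 6, 6],
   .stab 3 [3, 3, 1, 3, 1, 2] [6, 6, 8, 6, 8, 7],
   .stab 4 [2, 0, 3, 0, 0, 2, 0, 3, 0, 2, 2, 1] [7, 9, 7, 7, 7, 9, 6, 8, 7, 9, 9, 6, 8, 6],
   .stab 4 [3, 1, 3, 3, 1, 2, 2, 2, 0, 2, 2, 0] [6, 8, 6, 8, 7, 9, 9, 6, 8, 8, 6, 9, 9, 6, 8],
   .stab 4 [1, 3, 3, 0, 2, 2, 1, 1, 3, 0, 2, 1] [7, 7, 8, 8, 6, 8, 8, 8, 8, 8, 6, 9, 9, 6, 8],
   .stab 5 [1, 2, 2, 0, 2, 2, 1, 1, 3, 1] [10, 12, 10, 10, 10, 10, 10, 13, 11, 11],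
   .stab 5 [0, 2, 2, 2, 1, 1, 3, 0, 0, 3] [10, 12, 10, 10, 12, 10, 10, 13, 11, 11],
   .stab 6 [3, 1, 2, 0, 3, 1, 2, 0] [21, 19, 21, 23, 20, 20, 22, 20, 18, 21, 21],
   .stab 7 [0, 2, 1, 1, 2] [31, 32],
   .stab 7 [1, 2, 2, 1, 3] [30, 32, 30],
   .edge 0 0 [] [(0, [0, 0], [], [])],
   .edge 5 1 [1] [(8, [], [], []), (0, [], [], [])],
   .edge 3 1 [0] [(8, [], [], []), (0, [1, 1, 1], [], [])],
   .edge 0 1 [1, 1] [(10, [], [], [0])],
   .edge 0 1 [1, 5] [(2, [], [], [])],
   .edge 0 1 [0, 5] [(1, [], [], [])],
   .edge 0 1 [1, 5, 3, 5] [(3, [7, 7, 8, 6, 9, 6, 6, 6], [2, 1, 3, 1, 1, 2, 1, 3, 1, 2, 0, 2, 2, 0], [6, 3, 7, 3, 3, 6, 3, 7, 3, 6, 2, 6, 6, 2])],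
   .edge 0 1 [5, 3, 5, 3, 5] [(4, [6, 9, 6, 8, 7, 7], [1, 2, 1, 3, 0, 0], [3, 6, 3, 7, 2, 2])],
   .edge 5 2 [1] [(13, [], [], [4, 1]), (2, [], [], [])],
   .edge 0 2 [1, 5, 3] [(5, [], [], [])],
   .edge 0 3 [1] [(16, [], [], [1])],
   .edge 5 4 [1] [(14, [], [1, 3, 3, 1, 3, 0, 2, 0, 3, 0, 0, 2, 0, 3], [4, 1, 3, 4, 2, 2, 2, 6, 3, 7, 2, 2]), (3, [], [1, 3, 3, 1, 3, 0, 2, 0, 3, 0, 0, 2, 0, 3], [3, 7, 7, 3, 7, 2, 6, 2, 7, 2, 2, 6, 2, 7])],
   .edge 0 4 [5, 3, 1, 5] [(6, [22, 20, 18, 21, 21], [0, 0, 3, 0, 0, 2, 2, 1, 3, 3, 1, 1, 3, 1], [2, 2, 7, 2, 2, 6, 6, 3, 7, 7, 3, 3, 7, 3])],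
   .edge 5 5 [1] [(15, [], [1, 1, 2, 0, 3, 0], [4, 3, 4, 3, 4, 0, 0, 2, 2, 7, 3, 6, 3]), (4, [], [1, 1, 2, 0, 3, 0], [3, 3, 6, 2, 7, 2])],
   .edge 3 5 [0] [(15, [], [1, 1, 2, 0, 3, 0], [4, 3, 4, 3, 4, 0, 0, 2, 2, 7, 3, 6, 3]), (4, [7, 9, 7, 8, 6, 9], [3, 3, 1, 2, 1, 1, 3, 0, 0, 2, 0], [7, 7, 3, 6, 3, 3, 7, 2, 2, 6, 2])],
   .edge 0 5 [1, 1] [(22, [], [1, 3, 1, 1, 2, 0, 0, 3, 0, 2, 2], [0, 7, 3, 7, 7, 2, 6, 2, 7, 2, 2, 2])],
   .edge 0 6 [0, 5, 2] [(7, [], [], [])],
   .edge 5 7 [1] [(20, [], [0, 2, 0, 0, 2, 2, 0, 3, 3, 1, 1, 2, 1, 1], [4, 3, 4, 1, 3, 7, 2, 6, 6, 2, 6, 6, 3, 7, 3, 6, 2, 2]), (6, [], [0, 2, 0, 0, 2, 2, 0, 3, 3, 1, 1, 2, 1, 1], [2, 6, 2, 2, 6, 6, 2, 7, 7, 3, 3, 6, 3, 3])],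
   .edge 6 1 [5] [(10, [], [], [0]), (1, [], [], [])],
   .edge 4 2 [5] [(26, [], [], [4]), (2, [], [], [])],
   .edge 5 2 [1, 1] [(18, [], [], [1]), (27, [], [], [4])],
   .edge 0 2 [1, 5] [(28, [], [], [0, 0])],
   .edge 0 2 [1, 1, 5] [(26, [], [], [4])],
   .edge 0 3 [0] [(27, [], [], [4])],
   .edge 6 1 [5, 0] [(9, [], [], [1]), (2, [], [], [])],
   .close 3 3 [1, 5] [(32, [], [], [4, 0]), (30, [], [], [4, 0, 0])] (31, [], [], [0]),
   .edge 6 1 [5, 1, 1] [(8, [], [], []), (0, [5], [], [])],
   .edge 2 1 [5] [(33, [], [], [4, 0, 0]), (30, [], [], [4, 0, 0]), (31, [], [], [0]), (16, [], [], [1])],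
   .edge 3 1 [1, 5] [(33, [], [], [4, 0, 0]), (2, [], [], [])],
   .edge 2 1 [0, 5] [(2, [], [], []), (35, [], [], [4, 0]), (1, [], [], []), (29, [], [], [4, 0])],
   .close 4 2 [1] [(34, [], [], [4]), (2, [], [], [])] (27, [], [], [4]),
   .close 0 3 [0] [(27, [], [], [4])] (18, [42], [], [1]),
   .edge 6 1 [5, 3, 7, 5] [(33, [], [1, 3], [2, 1, 2, 4, 0, 7, 3, 3, 7]), (3, [7, 7, 9, 6, 8, 6, 6, 6], [1, 2, 2, 0, 3, 0, 2, 1, 3, 3, 0, 2, 2], [3, 6, 6, 2, 7, 2, 6, 3, 7, 7, 2, 6, 6])],
   .close 5 4 [5, 2, 1] [(37, [], [3, 1, 2, 2, 0, 3, 3, 0, 2, 2, 2, 0], [2, 4, 3, 4, 0, 6, 2, 2, 7, 3, 6, 2, 2]), (3, [8, 7, 9, 6, 8, 6, 6, 6], [1, 2, 0, 0, 2, 2, 1, 3, 3, 0, 0, 3, 3], [3, 6, 2, 2, 6, 6, 3, 7, 7, 2, 2, 7, 7])] (19, [], [0, 2, 0, 0, 3, 0, 2, 2, 0, 0], [1, 6, 2, 6, 2, 7, 2, 2, 2, 6, 6]),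
   .edge 6 3 [5, 3, 1, 1] [(12, [44, 45], [1], [3, 4, 0]), (3, [9, 7, 8, 6, 6, 8, 6, 6], [3, 1, 1, 3, 0, 0, 3, 1, 1, 2, 0, 2, 2, 1], [7, 3, 3, 7, 2, 2, 7, 3, 3, 6, 2, 6, 6, 3])],
   .edge 0 4 [1, 1, 5, 3] [(38, [47, 47], [2, 2, 1, 3, 3, 1, 2, 0, 2, 1, 3, 1, 1], [4, 0, 0, 2, 2, 6, 2, 7, 3, 7, 2, 6, 2, 2, 2, 7])],
   .edge 5 4 [0, 5, 3] [(38, [47, 47], [2, 2, 1, 3, 3, 1, 2, 0, 2, 1, 3, 1, 1], [4, 0, 0, 2, 2, 6, 2, 7, 3, 7, 2, 6, 2, 2, 2, 7]), (39, [44], [], [4, 0, 0, 3])],
   .edge 6 3 [5, 3, 0] [(16, [44, 45], [1], [1, 7]), (5, [10, 13, 11, 11], [1, 1, 3, 1, 1, 2, 0, 2, 0, 0], [3, 3, 7, 3, 3, 6, 2, 6, 2, 2])],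
   .edge 4 6 [5] [(41, [], [1, 2, 0, 2, 0, 0, 0, 2, 0, 0], [4, 0, 7, 7, 3, 7, 3, 6, 6, 2, 6]), (39, [14, 17, 15, 15], [2, 2, 0, 2, 1, 3, 1, 2, 0, 0, 2, 1, 1], [4, 0, 0, 6, 6, 2, 6, 3, 7, 3, 6, 2, 2, 6, 2, 2, 2])],
   .edge 3 6 [1, 5] [(41, [], [1, 2, 0, 2, 0, 0, 0, 2, 0, 0], [4, 0, 7, 7, 3, 7, 3, 6, 6, 2, 6]), (39, [44, 14, 17, 15, 15], [2, 2, 0, 2, 1, 3, 1, 2, 0, 0, 2, 1, 1], [4, 0, 0, 6, 6, 2, 6, 3, 7, 3, 6, 2, 2, 6, 2, 2, 2])],
   .edge 0 6 [1, 1, 5] [(41, [], [1, 2, 0, 2, 0, 0, 0, 2, 0, 0], [4, 0, 7, 7, 3, 7, 3, 6, 6, 2, 6])],
   .edge 0 4 [5, 3] [(43, [], [2, 2, 1, 3, 3, 1, 2, 0, 2, 1, 3, 1, 1], [4, 0, 6, 6, 3, 7, 7, 3, 6, 2, 6, 3, 7, 3, 3])],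
   .edge 0 4 [1, 5, 3] [(42, [], [2, 2, 1, 3, 3, 1, 2, 0, 2, 1, 3, 1, 1], [4, 6, 6, 3, 7, 7, 3, 6, 2, 6, 3, 7, 3, 3])],
   .edge 2 6 [0, 5] [(45, [], [2, 2, 0, 2, 1, 3, 1, 2, 0, 0, 2, 1, 1], [4, 6, 6, 2, 6, 3, 7, 3, 6, 2, 2, 6, 2, 2, 2]), (38, [47, 47], [], [4, 0, 0, 3]), (39, [44], [2, 2, 0, 2, 1, 3, 1, 2, 0, 0, 2, 1, 1], [4, 0, 0, 6, 6, 2, 6, 3, 7, 3, 6, 2, 2, 6, 2, 2, 2]), (43, [], [], [4, 0])],
   .close 6 3 [5, 6, 5, 3] [(39, [], [0, 3, 1, 1, 3, 1, 2, 0, 2, 1, 3, 1, 1], [1, 2, 4, 0, 6, 6, 2, 6, 3, 7, 3, 6, 2, 2, 6, 2, 2, 2]), (40, [46, 20], [1, 1, 3, 0, 0, 2, 0, 3, 0, 2, 0, 0], [0, 2, 4, 3, 7, 3, 6, 2, 2, 6, 2, 2, 2, 7, 2])] (38, [46, 47, 47], [1, 2, 0, 0, 2, 2, 0, 3, 1, 3, 3, 0], [1, 2, 4, 0, 6, 2, 7, 2, 2, 6, 6, 6, 3, 3, 7]),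
   .stab 39 [0, 3, 0, 0, 3, 1, 2, 0, 2, 1, 3, 3, 1] [14, 16, 48, 48, 14, 49, 40],
   .stab 42 [3, 0, 2, 0, 0, 3, 3, 0, 0, 2, 0] [50],
   .close 0 7 [] [(20, [], [0, 2, 0, 0, 2, 2, 0, 3, 3, 1, 1, 2, 1, 1], [4, 3, 4, 1, 3, 7, 2, 6, 6, 2, 6, 6, 3, 7, 3, 6, 2, 2])] (6, [46, 51, 46], [0, 2, 2, 1, 1, 3, 1, 1, 2, 1, 3, 1], [2, 6, 6, 3, 3, 7, 3, 3, 6, 3, 7, 3]),
   .stab 7 [3, 1, 2, 0, 2, 1, 3, 3, 1, 2, 2, 0, 3, 0, 0] [31, 52, 30],
   .edge 6 1 [5, 3, 7, 0, 5] [(2, [], [1, 3], [3, 7]), (16, [48, 15, 48, 40, 45], [1, 3, 0, 2, 2, 0, 2, 1, 1, 2, 0], [1, 7, 3, 6, 3, 3, 7, 7, 2, 2, 7, 2])],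
   .edge 4 2 [5, 3, 1, 3] [(48, [11, 13], [2, 0, 2, 0, 3, 1, 2, 0], [4, 2, 0, 2, 4, 6, 2, 7, 3, 7, 3, 6, 2]), (3, [8, 7, 9, 6, 8, 6, 6, 6], [0, 2, 2, 1, 1, 2, 2, 1, 1, 3, 0, 2, 2], [2, 6, 6, 3, 3, 6, 6, 3, 3, 7, 2, 6, 6])],
   .edge 0 2 [5, 3, 0, 3] [(48, [11, 13], [2, 0, 2, 0, 3, 1, 2, 0], [4, 2, 0, 2, 4, 6, 2, 7, 3, 7, 3, 6, 2])],
   .edge 5 2 [5, 3, 5, 2] [(48, [42, 10, 12, 12, 10, 11, 13], [3, 0, 2, 0, 3, 1, 1, 3, 0, 0, 2, 1], [4, 1, 3, 4, 0, 2, 7, 3, 3, 6, 2, 7, 2, 2, 2, 7]), (50, [7, 7, 9, 6, 8, 6, 6, 6, 7, 7, 7, 9, 7, 8, 6, 9], [3, 0, 2, 0, 3, 0, 2, 0, 0, 0, 2, 1], [1, 3, 4, 6, 2, 6, 3, 7, 7, 3, 6, 6, 2, 7])],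
   .edge 3 2 [1, 5, 3, 1, 3] [(48, [11, 13], [2, 0, 2, 0, 3, 1, 2, 0], [4, 2, 0, 2, 4, 6, 2, 7, 3, 7, 3, 6, 2]), (3, [7, 7, 9, 6, 8, 6, 6, 6], [3, 3, 0, 2, 1, 3, 1, 2, 0, 2, 2, 2, 0], [7, 7, 2, 6, 3, 7, 3, 6, 2, 6, 6, 6, 2])],
   .edge 0 4 [0] [(49, [], [0, 3, 1, 2, 0, 0, 3, 1, 1, 3, 0, 0, 0], [4, 3, 4, 2, 4, 2, 2, 7, 3, 6, 2, 2, 2, 6])],
   .edge 0 4 [1, 1] [(52, [], [1, 2, 0, 0, 3, 1, 2, 0, 2, 1, 3, 0, 0], [0, 3, 4, 0, 2, 7, 2, 6, 2, 7, 7, 3, 6, 6, 3, 7, 7])],
   .edge 6 3 [5, 3, 3, 7, 2, 6, 3, 3, 5, 3] [(39, [], [3, 1, 1, 2, 1, 1, 2, 2, 0, 2], [2, 1, 2, 4, 0, 2, 6, 6, 6, 3, 7, 2, 2, 2, 6, 3]), (43, [46, 18], [2, 0, 3, 0, 0, 2, 0, 3, 0, 0, 3, 1], [2, 1, 2, 4, 7, 7, 2, 2, 7, 3, 3, 7, 7, 3, 6, 6, 3, 3])],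
   .close 2 6 [5, 3, 5, 2] [(55, [], [1, 1, 3, 0, 0, 3, 0, 2, 0, 0, 3, 0, 2], [4, 3, 4, 1, 3, 6, 2, 2, 6, 6, 2, 7, 3, 7, 7]), (44, [44, 40, 41, 45, 48], [0, 2, 0, 0, 3, 0, 0, 2, 0, 0], [3, 4, 0, 0, 2, 2, 6, 2, 2, 7, 2, 2, 6, 2, 2]), (46, [], [2, 2, 0, 0, 2, 1, 1, 2, 0, 2, 2, 0], [3, 4, 0, 2, 6, 6, 2, 7, 3, 6, 2, 2, 7]), (40, [], [2, 2, 0, 0, 2, 1, 1, 2, 0, 2, 2, 0], [3, 4, 1, 2, 6, 6, 2, 7, 3, 6, 2, 2, 7])] (42, [], [0, 2, 0, 0, 3, 0, 0, 2, 0, 0], [3, 4, 2, 2, 6, 2, 2, 7, 2, 2, 6, 2, 2]),
   .edge 6 2 [5, 3, 5] [(26, [42, 43], [1], [3, 4]), (50, [7, 7, 7, 9, 7, 8, 6, 9], [0, 3, 1, 2, 0, 0, 3, 1, 1, 3, 0, 0, 0], [4, 3, 4, 2, 4, 0, 0, 2, 2, 7, 3, 6, 2, 2, 2, 6])],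
   .edge 5 2 [5, 3] [(56, [13, 13, 11, 43], [0, 3, 1, 3, 1, 2, 0, 3, 1, 3, 1], [3, 4, 2, 4, 6, 2, 6, 3, 7, 7, 3, 7, 3, 6]), (5, [42, 10, 13, 11, 11], [2, 0, 2, 2, 1, 3, 1, 1, 3, 0, 2, 1], [6, 2, 6, 6, 3, 7, 3, 3, 7, 2, 6, 3])],
   .edge 0 6 [1] [(57, [], [2, 1, 3, 0, 2, 2, 0, 2, 1, 1, 3, 1], [3, 4, 6, 6, 3, 3, 7, 2, 2, 6, 6, 2, 7, 2, 2])],
   .edge 3 6 [0] [(17, [], [], [4, 0, 3]), (58, [], [2, 2, 1, 1, 3, 1, 2, 2, 0, 3, 1, 1], [1, 6, 2, 6, 6, 3, 7, 3, 3, 7, 2, 6, 3])],
   .edge 6 2 [5, 3, 1, 1] [(13, [], [1], [3, 4, 1]), (3, [8, 7], [1, 2], [3, 6])],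
   .edge 0 4 [5] [(60, [50, 21, 21], [2, 1, 3, 0, 2, 1], [1, 3, 4, 0, 6, 6, 3, 7, 2, 6, 3, 3])],
   .edge 3 4 [1, 5] [(60, [21, 21], [2, 0, 0, 3, 0, 0, 2, 2, 2, 1, 1, 3], [4, 0, 0, 6, 2, 2, 7, 2, 2, 6, 6, 6, 3, 3, 7, 3]), (5, [], [0, 2, 0, 3, 0, 2, 0, 0, 0, 3, 3, 1], [2, 6, 2, 7, 2, 6, 2, 2, 2, 7, 7, 3])],
   .edge 0 6 [1, 1] [(62, [], [0, 2, 2, 0, 0, 0, 3, 1, 2, 1, 3, 1], [4, 0, 6, 2, 2, 6, 6, 6, 3, 3, 6, 3, 3, 7])],
   .edge 6 2 [5, 3, 3, 5, 2, 1, 5, 2, 1] [(56, [42, 10, 12, 12, 13, 13, 11, 43], [1, 2, 2, 2, 1, 3, 0, 2, 0, 3, 3, 1, 2, 2], [4, 3, 4, 0, 0, 2, 2, 2, 6, 2, 7, 3, 7, 2, 2, 6, 2, 2, 2]), (58, [11, 12, 12], [3, 0, 2, 0, 0, 2, 2, 0, 2, 0, 0], [1, 2, 2, 7, 3, 7, 7, 3, 6, 2, 6, 2])],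
   .edge 0 6 [0, 5, 3, 5] [(64, [30, 53, 59], [1, 1, 3, 0, 2, 1, 3, 0, 0, 2], [4, 0, 3, 3, 4, 2, 4, 0, 7, 7, 2, 6, 3, 7, 2, 2, 2, 7, 3, 6, 2])],
   .edge 5 6 [5, 3, 5] [(64, [30, 53, 59], [1, 1, 3, 0, 2, 1, 3, 0, 0, 2], [4, 0, 3, 3, 4, 2, 4, 0, 7, 7, 2, 6, 3, 7, 2, 2, 2, 7, 3, 6, 2]), (65, [42, 11, 13, 11, 12, 10, 13, 10, 10, 43], [3, 1, 1, 2, 0, 2, 1, 3, 3, 1, 3, 0, 2, 0], [1, 3, 4, 0, 3, 4, 0, 7, 7, 3, 7, 2, 6, 2, 2, 7, 3, 6, 2, 6, 2])],
   .edge 6 2 [5, 3, 1, 5, 3, 3, 3, 1, 3, 1, 3] [(48, [12, 10, 11, 13], [0, 0, 2, 1, 3, 1, 2, 1, 3, 1, 1, 2, 0], [3, 4, 2, 0, 2, 4, 6, 2, 7, 3, 3, 6, 3, 3, 6, 6, 6, 2]), (4, [7, 9, 7, 8, 6, 6], [0, 2, 0, 0, 3, 0, 2, 0, 3, 1, 2, 0, 0, 3], [2, 6, 2, 2, 7, 2, 6, 2, 7, 3, 6, 2, 2, 7])],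
   .edge 4 5 [5] [(67, [25, 25], [0, 0, 2, 0, 3, 1, 1, 2, 0, 0, 2, 2, 0, 0], [4, 3, 3, 4, 1, 6, 3, 7, 7, 2, 2, 6, 2, 7, 3, 3, 7, 2]), (65, [10, 10, 10, 13, 10, 13, 10, 10, 43], [0, 2, 2, 0, 3, 3, 1, 2, 0, 3, 1, 1, 2, 0], [3, 3, 4, 2, 2, 4, 1, 6, 2, 7, 3, 7, 3, 6, 3, 7, 2, 6, 2, 7, 3])],
   .edge 3 5 [1, 5] [(67, [25, 25], [0, 0, 2, 0, 3, 1, 1, 2, 0, 0, 2, 2, 0, 0], [4, 3, 3, 4, 1, 6, 3, 7, 7, 2, 2, 6, 2, 7, 3, 3, 7, 2]), (65, [10, 12, 10, 13, 10, 10, 43], [3, 1, 3, 1, 1, 3, 3, 1, 1, 3], [0, 3, 4, 3, 4, 6, 3, 3, 7, 7, 3, 3, 7, 7, 3, 3])],
   .edge 0 5 [1, 1, 5] [(67, [25, 25], [0, 0, 2, 0, 3, 1, 1, 2, 0, 0, 2, 2, 0, 0], [4, 3, 3, 4, 1, 6, 3, 7, 7, 2, 2, 6, 2, 7, 3, 3, 7, 2])],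
   .edge 0 6 [1, 5, 3, 5] [(69, [], [2, 0, 0, 2, 2, 0, 3, 1, 3, 1], [2, 1, 2, 4, 2, 6, 2, 2, 7, 7, 2, 2, 2, 6])],
   .edge 0 6 [1, 1, 5, 3, 5] [(68, [], [2, 1, 1, 3, 1, 2, 0, 3, 3, 1, 2, 0, 3, 0], [4, 3, 4, 2, 4, 0, 2, 2, 2, 7, 2, 6, 3, 7, 3, 6, 3, 7, 3])],
   .edge 2 5 [0, 5] [(71, [], [3, 1, 3, 1, 1, 3, 3, 1, 1, 3], [1, 3, 4, 3, 4, 6, 3, 3, 7, 7, 3, 3, 7, 7, 3, 3]), (64, [30, 53, 59], [3, 1, 3, 1, 2, 1, 1, 3, 1, 2, 1, 1], [4, 1, 3, 4, 3, 4, 0, 7, 3, 6, 3, 7, 2, 6, 6, 6, 2, 6, 2]), (65, [42, 11, 13, 11, 12, 10, 13, 10, 10, 43], [2, 2, 1, 1, 3, 0, 0, 3, 0, 2, 1, 3], [3, 3, 4, 2, 2, 4, 1, 3, 7, 7, 2, 6, 3, 7, 2, 2, 2, 7, 3, 6]), (69, [], [0, 0, 3, 1, 3, 1, 2, 1, 1, 2, 0, 0], [1, 3, 4, 3, 4, 2, 4, 0, 6, 6, 6, 3, 7, 7, 3, 3, 6, 2, 2, 6, 2, 2])],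
   .edge 6 2 [5, 2, 5, 2, 1, 5, 2, 1] [(56, [42, 10, 12, 12, 13, 13, 11, 43], [2, 2, 1, 3, 1, 1, 2, 0, 3, 1, 3, 3, 0, 2], [2, 2, 2, 4, 3, 4, 0, 0, 2, 2, 2, 6, 2, 7, 3, 7, 2, 2, 6, 2, 2, 2]), (70, [42, 13, 10, 10, 12, 11, 13, 11], [2, 0, 0, 2, 1, 1, 3, 0, 2], [0, 2, 0, 2, 2, 2, 4, 3, 6, 3, 3, 7, 2, 6])],
   .close 2 5 [5, 2, 5] [(74, [29, 24], [3, 0, 2, 0, 3, 1, 3, 0, 0, 2, 1, 1], [3, 4, 2, 4, 2, 4, 0, 2, 7, 3, 3, 7, 3, 6, 2, 7, 3, 6, 2, 6]), (70, [42, 10, 10, 12, 11, 13, 10, 10, 10, 11, 13, 11], [2, 0, 0, 2, 2, 1, 1, 2, 2, 0, 3], [4, 2, 4, 3, 4, 1, 6, 3, 7, 7, 3, 3, 6, 6, 3, 3, 7, 2]), (72, [], [2, 2, 0, 0, 2, 1, 3, 0, 2], [4, 2, 4, 0, 0, 7, 2, 6, 2, 2, 6, 3, 7, 2, 6, 3]), (66, [], [1, 1, 3, 0, 0, 2, 2, 0, 0, 3, 3, 1, 1], [2, 4, 3, 3, 4, 0, 0, 2, 7, 7, 2, 2, 6, 3, 3, 6, 2, 2, 2, 6, 6])] (68, [], [3, 0, 0, 3, 3, 1, 3, 0, 2, 0, 3, 0, 2, 1, 1], [3, 4, 3, 7, 7, 3, 7, 7, 2, 2, 7, 7, 3, 7, 7, 3]),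
   .edge 6 4 [5, 7] [(52, [], [3, 1, 2, 0, 0, 3, 1, 2, 0, 2, 1, 3, 0, 0], [0, 3, 3, 4, 0, 2, 7, 2, 6, 2, 7, 7, 3, 6, 6, 3, 7, 7]), (65, [12, 13, 10, 10, 43], [0, 3, 1, 1, 2, 2, 1, 1, 3, 3], [3, 3, 4, 2, 2, 4, 1, 3, 6, 2, 7, 2, 2, 7, 3, 3, 6, 2, 7, 3, 3])],
   .edge 0 6 [5, 3] [(75, [52, 33, 32, 53], [0, 0, 3, 0, 0, 3, 1, 2, 1, 1, 2], [4, 3, 4, 2, 4, 0, 6, 6, 2, 2, 7, 7, 2, 2, 6, 3, 7])],
   .edge 5 4 [5, 3, 0] [(76, [], [3, 0, 2, 2, 1, 1, 2, 2, 0, 0, 0], [4, 3, 3, 4, 2, 2, 4, 0, 3, 6, 2, 7, 2, 2, 7, 3, 3, 6, 2, 7, 3, 3]), (75, [32, 53], [1, 2, 1, 3, 0, 0, 2, 0, 0, 2], [2, 0, 2, 4, 0, 7, 3, 3, 6, 3, 7, 2, 2, 6, 2, 2])],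
   .edge 6 4 [5, 3, 1] [(49, [], [3, 1, 2, 0, 0, 3, 1, 1, 3, 0, 0, 0], [3, 4, 3, 4, 2, 4, 2, 2, 7, 3, 6, 2, 2, 2, 6]), (70, [11, 11, 11, 13, 11], [3, 0, 0, 2, 2, 0, 0, 3, 1, 2, 0, 2, 2], [3, 3, 4, 0, 0, 7, 7, 3, 7, 3, 6, 2, 7, 3, 3, 6, 3, 3])],
   .edge 0 5 [1, 5, 2] [(78, [61], [1, 2, 2, 0, 2, 2, 1, 1, 3, 1, 2, 1, 1], [4, 2, 4, 3, 4, 6, 3, 7, 3, 6, 2, 7, 2, 2, 6, 6])],
   .edge 4 5 [0, 5, 2] [(78, [61], [1, 2, 2, 0, 2, 2, 1, 1, 3, 1, 2, 1, 1], [4, 2, 4, 3, 4, 6, 3, 7, 3, 6, 2, 7, 2, 2, 6, 6]), (76, [], [0, 0, 2, 2, 1, 3, 3, 1, 1, 3, 0, 0, 2, 2], [0, 2, 4, 0, 3, 3, 7, 3, 3, 6, 6, 2, 2, 7, 2, 6, 6, 2])],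
   .edge 5 5 [1, 1, 5, 2] [(78, [61], [1, 2, 2, 0, 2, 2, 1, 1, 3, 1, 2, 1, 1], [4, 2, 4, 3, 4, 6, 3, 7, 3, 6, 2, 7, 2, 2, 6, 6]), (77, [], [3, 1, 2, 0, 0, 3, 0, 2, 0, 3, 3, 0], [4, 0, 3, 7, 2, 6, 2, 7, 2, 2, 6, 3, 3])],
   .edge 0 6 [1, 5, 3] [(80, [52, 33], [2, 2, 0, 2, 1, 3, 1, 2, 0, 2, 1, 1, 2, 1], [4, 3, 4, 2, 4, 6, 2, 7, 3, 7, 2, 6, 2, 7, 3])],
   .edge 0 4 [1, 5, 3, 0] [(81, [21, 22, 23, 20], [2, 1, 3, 0, 2, 2, 0, 3, 0, 2, 0, 0], [4, 0, 0, 6, 3, 7, 2, 6, 6, 2, 7, 2, 6, 2, 2, 2])],
   .edge 2 5 [5, 2] [(83, [], [3, 3, 0, 2, 2, 0, 3, 3, 1, 3, 1, 1], [4, 0, 0, 3, 7, 2, 6, 2, 7, 2, 2, 6, 3, 3]), (76, [], [0, 3, 0, 0, 0, 2, 1, 1, 2, 0, 0, 3, 1], [3, 0, 2, 2, 4, 0, 7, 3, 7, 2, 6, 2, 2, 6, 3, 7, 3, 6, 6]), (75, [32, 53], [2, 0, 0, 2, 1, 3, 0, 0, 2, 1, 1, 2, 1], [4, 2, 4, 3, 4, 0, 2, 7, 7, 3, 6, 2, 7, 2, 2, 6, 6]), (81, [21, 22, 23, 20], [3, 1, 2, 1, 1, 3, 0, 2, 0, 0, 2, 2, 2], [4, 2, 4, 3, 4, 1, 6, 2, 6, 3, 3, 7, 7, 3, 6, 2, 6, 6, 3, 3])],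
   .edge 6 4 [5, 6, 5, 2] [(60, [20, 20, 21, 21], [2, 0, 3, 0], [1, 2, 4, 0, 2, 7]), (65, [11, 11, 12, 10, 13, 10, 13, 10, 10, 43], [3, 0, 2, 1, 3, 0, 0, 0, 3, 1, 2, 0], [3, 4, 2, 2, 2, 4, 1, 2, 7, 7, 3, 7, 3, 6, 6, 3, 3, 7])],
   .edge 3 6 [5, 3, 1, 5] [(85, [31, 53, 59], [0, 3, 3, 1, 3, 0, 2, 0, 3, 0, 2, 0, 0, 0], [4, 3, 4, 6, 2, 7, 7, 3, 7, 2, 6, 2, 7, 2, 6, 3]), (6, [51, 18, 51, 18], [0, 3, 3, 1, 1, 2, 1, 3, 1, 1, 2, 2, 2], [2, 7, 7, 3, 3, 6, 3, 7, 3, 3, 6, 6, 6])],
   .edge 0 6 [5, 3, 3, 5] [(85, [31, 33, 31, 53, 59], [3, 3, 0, 2, 2, 0, 0, 0, 2, 0], [4, 2, 2, 4, 6, 6, 2, 2, 6, 6, 3, 3, 7, 3, 6, 2, 2])],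
   .edge 4 6 [1, 5, 3, 0, 5] [(85, [31, 53, 59], [0, 3, 3, 1, 3, 0, 2, 0, 3, 0, 2, 0, 0, 0], [4, 3, 4, 6, 2, 7, 7, 3, 7, 2, 6, 2, 7, 2, 6, 3]), (6, [20, 22, 18], [0, 2, 0, 0, 3, 3, 1, 3, 3, 0, 0, 2, 0, 0], [2, 6, 2, 2, 7, 7, 3, 7, 7, 2, 2, 6, 2, 2])],
   .edge 0 7 [0] [(88, [], [0, 2, 0, 0, 3, 3, 1, 3, 3, 0, 0, 2, 0, 0], [3, 4, 2, 4, 0, 0, 2, 7, 3, 6, 2, 7, 3, 7, 2, 6, 3, 7, 2])],
   .edge 0 7 [1, 1] [(86, [], [2, 1, 1, 3, 1, 2, 1, 1, 3, 3, 0, 0, 0], [3, 3, 4, 2, 4, 1, 3, 7, 2, 2, 6, 2, 7, 3, 7, 7, 2, 2])],
   .edge 2 6 [5, 3, 0, 5] [(90, [], [0, 3, 3, 1, 1, 2, 1, 3, 1, 1, 2, 2, 2], [0, 0, 2, 7, 7, 3, 3, 6, 3, 7, 3, 3, 6, 6, 6]), (20, [], [0, 3, 1, 2, 0, 3], [4, 1, 3, 4, 6, 6, 3, 7, 2, 6, 3, 3]), (6, [], [0, 3, 1, 2, 0, 3], [2, 7, 3, 6, 2, 7]), (86, [], [2, 0, 3, 0, 2, 0, 0, 3, 1, 1, 3, 3, 1, 3], [2, 4, 2, 2, 2, 4, 0, 6, 3, 3, 6, 2, 2, 6, 2, 7, 3, 6, 6, 2])],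
   .edge 6 4 [5, 3, 1, 5, 3] [(40, [], [1], [3, 4, 1, 3]), (6, [20, 50, 46, 46], [2, 0, 0, 3, 3, 0, 0, 0, 2, 0, 0], [6, 2, 2, 7, 7, 2, 2, 2, 6, 2, 2])],
   .close 5 7 [5, 2, 2, 1] [(92, [], [0, 3, 3, 0, 0, 0, 2, 2, 1], [4, 2, 2, 4, 0, 7, 2, 2, 6, 6, 6, 3, 3, 6, 3]), (6, [20, 18], [1, 3, 0, 2, 0, 3, 0, 2, 0, 0, 2, 2], [3, 7, 2, 6, 2, 7, 2, 6, 2, 2, 6, 6])] (25, [], [3, 0, 2, 1, 3, 0, 2, 0], [1, 3, 6, 2, 7, 3, 6, 2, 6]),
   .edge 6 4 [5, 3, 0, 5, 3] [(42, [], [2, 2, 0, 2, 1, 1, 2, 0, 0, 2, 1, 3], [3, 4, 6, 6, 3, 7, 7, 3, 6, 2, 6, 3, 7, 3, 3]), (89, [32, 32, 30, 31, 33], [3, 1, 2, 2, 2, 0, 0, 0, 2, 0, 0], [0, 6, 2, 6, 6, 6, 2, 2, 2, 7, 3, 6])],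
   .close 0 7 [5, 2, 1] [(93, [], [2, 0, 2, 2, 2, 0, 0, 0, 3, 1], [4, 2, 4, 1, 6, 2, 6, 6, 3, 7, 2, 2, 2, 6, 3])] (6, [20, 18], [1, 2, 0, 3, 1, 2, 0], [3, 6, 2, 7, 3, 6, 2]),
   .edge 6 4 [5, 3, 5, 3, 1] [(77, [], [1, 1, 3, 3, 1, 3, 3, 0, 0, 3, 0], [1, 2, 4, 3, 7, 7, 3, 3, 7, 3, 3, 6, 6, 3]), (6, [21, 51, 18], [3, 0, 2, 0, 0, 3, 0, 2, 0, 0, 3, 3, 1], [7, 2, 6, 2, 2, 7, 2, 6, 2, 2, 7, 7, 3])],
   .close 3 7 [5, 3, 5, 3] [(94, [35, 55, 63, 65, 63], [3, 1, 2, 0, 0, 2, 2, 2, 0, 2, 0, 3], [4, 2, 1, 3, 0, 2, 0, 2, 2, 4, 7, 7, 2, 2, 7, 7, 3, 3, 6, 2, 2]), (87, [21, 18, 51, 23, 47, 23, 46], [1, 3, 0, 0, 0, 2, 1, 3, 1, 1, 2, 1], [1, 3, 0, 2, 2, 4, 2, 4, 6, 2, 6, 2, 2, 6, 6, 2, 7, 7, 2, 2])] (89, [31, 33], [2, 0, 3, 0, 2, 0, 3, 3, 1, 1], [0, 3, 6, 3, 3, 7, 2, 2, 6, 2, 7]),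
   .edge 6 7 [5] [(86, [], [2, 1, 1, 3, 1, 2, 1, 1, 3, 3, 0, 0, 0], [3, 3, 4, 2, 4, 1, 3, 7, 2, 2, 6, 2, 7, 3, 7, 7, 2, 2]), (66, [58, 32, 30], [2, 1, 1, 2, 0, 0, 2, 0, 0, 3, 3], [4, 1, 3, 3, 4, 0, 6, 2, 7, 3, 3, 7, 3, 6, 2, 7, 3, 3, 7, 2, 2])],
   .edge 0 6 [5, 3, 3] [(95, [31, 33, 33, 31], [2, 0, 3, 1, 1, 2, 2, 2, 0, 2, 2], [3, 1, 2, 0, 2, 2, 2, 4, 6, 2, 7, 3, 3, 7, 3, 3, 6, 2, 7, 2])],
   .edge 5 6 [5, 3, 0] [(95, [33, 31], [3, 3, 0, 0], [3, 3, 4, 2, 2, 7, 7, 2, 2]), (96, [55, 63, 67, 55, 65, 66], [0, 0, 3, 3, 1, 1, 3, 3, 1, 3, 0], [3, 3, 4, 3, 3, 7, 7, 3, 3, 7, 7, 3, 7, 3])],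
   .edge 6 7 [5, 2, 2] [(86, [], [2, 2, 2, 1, 1, 3, 1, 2, 0, 2, 2, 1], [4, 2, 4, 1, 3, 7, 2, 2, 6, 2, 7, 3, 7, 7, 2, 2]), (80, [52, 31], [0, 2, 1, 1, 3, 0, 0, 0, 2], [0, 2, 2, 4, 6, 2, 2, 2, 7, 7, 2, 2, 6, 6])],
   .edge 4 5 [1, 5, 3, 5] [(98, [25, 26, 29], [1, 2, 1, 3, 0, 2, 2, 2, 1, 1], [2, 1, 2, 0, 2, 2, 4, 2, 6, 6, 3, 7, 3, 6, 2, 6, 3, 7]), (96, [54, 67, 54, 66, 55, 63, 67, 55, 65, 66], [0, 0, 0, 3, 0, 0, 2, 0, 3, 0, 0, 3], [2, 1, 3, 0, 3, 3, 4, 2, 6, 3, 7, 7, 3, 6, 6, 2, 6, 2, 2, 2, 6])],
   .edge 0 5 [0, 5, 3, 5] [(98, [25, 26, 29], [1, 2, 1, 3, 0, 2, 2, 2, 1, 1], [2, 1, 2, 0, 2, 2, 4, 2, 6, 6, 3, 7, 3, 6, 2, 6, 3, 7])],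
   .edge 3 5 [5, 3, 3, 5] [(98, [29, 24, 25, 26, 29], [1, 2, 0, 2, 1, 3, 3, 1, 2, 2, 0, 3, 3, 1], [3, 4, 6, 2, 6, 3, 7, 7, 3, 6, 6, 2, 7, 7, 2]), (96, [62, 64, 55, 63, 67, 55, 65, 66], [2, 0, 0, 2, 0, 3, 0, 2, 0, 0, 2], [4, 2, 2, 6, 6, 6, 2, 2, 2, 6, 6, 6])],
   .edge 0 6 [5, 3, 1] [(99, [32, 30], [0, 3, 0, 0, 3, 1, 1, 3, 1, 1, 2, 0], [0, 3, 3, 4, 2, 4, 3, 7, 3, 6, 6, 2, 2, 6, 2, 7, 3, 3, 7])],
   .edge 0 6 [1, 5, 3, 0] [(101, [32, 30], [1, 2, 0, 2, 0, 0, 0, 2, 2, 0, 3, 3], [4, 3, 4, 7, 3, 3, 7, 7, 2, 2, 6, 2, 2, 7, 2])],
   .edge 2 5 [5, 3, 5] [(103, [25, 28], [2, 1, 3, 3, 0, 2, 0, 3, 1, 2, 2, 0, 3, 0], [0, 2, 0, 2, 2, 2, 4, 6, 3, 3, 6, 6, 3, 3, 7, 2, 6, 6, 3]), (95, [33, 31], [1, 1, 2, 0, 3, 1, 3, 0, 2, 1, 3], [2, 1, 3, 0, 3, 3, 4, 3, 7, 2, 6, 6, 3, 3, 7, 3, 3, 7, 2, 6]), (96, [55, 63, 67, 55, 65, 66], [0, 0, 2, 1, 1, 3, 1, 1, 3, 0, 0, 2, 0], [2, 1, 3, 0, 3, 3, 4, 3, 3, 6, 6, 3, 3, 7, 3, 3, 6, 3, 7]), (101, [], [0, 0, 2, 2, 0, 2, 1, 3, 1, 1, 2, 0, 0, 2], [4, 0, 2, 0, 2, 0, 2, 2, 4, 0, 7, 3, 7, 3, 6, 2, 2, 2, 6, 2, 2, 6, 2])],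
   .edge 6 7 [5, 7, 7, 3] [(86, [], [2, 2, 1, 3, 0, 2, 0, 0, 3, 1, 1, 2, 2], [1, 3, 4, 3, 0, 3, 3, 4, 0, 6, 2, 7, 3, 6, 2, 7, 3, 3, 6]), (89, [58, 32, 52, 31, 33], [0, 2, 2, 2, 1, 3, 1, 2, 1, 1, 2], [0, 6, 2, 2, 2, 7, 3, 3, 6, 3, 7, 2])],
   .edge 6 6 [5, 2] [(62, [], [1, 3, 3, 0, 0, 0, 2, 2, 0, 3, 3, 1], [2, 4, 0, 6, 2, 2, 6, 6, 6, 3, 3, 6, 3, 3, 7]), (63, [18, 46, 51], [0, 0, 2, 2, 2, 1, 1, 3, 0, 0, 3], [0, 0, 2, 2, 6, 6, 6, 3, 3, 7, 2, 2, 7])],
   .edge 3 6 [0, 5, 2] [(106, [32], [], [4, 2]), (7, [], [], [])],
   .close 0 8 [1, 1] [(107, [], [], [4, 1, 2])] (7, [], [], []),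
   .edge 6 6 [5, 6, 1] [(59, [], [3, 1, 1, 3, 0, 0, 2, 2, 2, 1, 1, 3], [0, 3, 7, 3, 3, 6, 6, 6, 2, 6, 2, 7, 3]), (7, [31], [1, 2, 2, 0, 2, 1, 3, 1, 2, 1, 3, 0, 0], [3, 6, 6, 2, 6, 3, 7, 3, 6, 3, 7, 2, 2])],
   .close 0 8 [5] [(108, [68], [1, 1, 2, 0, 3, 0, 2, 0, 3, 1, 3, 3, 0], [4, 1, 3, 3, 6, 2, 7, 2, 6, 2, 7, 3, 7, 7, 2, 2])] (7, [], [1, 1, 2, 0, 3, 0, 2, 0, 3, 1, 3, 3, 0], [3, 3, 6, 2, 7, 2, 6, 2, 7, 3, 7, 7, 2]),
   .edge 6 6 [5, 6, 0] [(57, [], [3, 1, 1, 3, 0, 0, 2, 2, 2, 1, 1, 3], [2, 4, 6, 3, 7, 2, 6, 6, 2, 2, 2, 6, 2]), (5, [42, 11, 12, 11], [3, 1, 1, 2, 2, 2, 0, 0, 2, 1, 1, 3], [7, 3, 3, 6, 6, 6, 2, 2, 6, 3, 3, 7])],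
   .edge 5 6 [0, 5, 2] [(109, [53], [0, 2, 1, 1, 2, 0, 0, 3, 3, 0], [1, 2, 4, 2, 7, 7, 2, 6, 6, 3, 3, 6, 6]), (7, [], [0, 2, 1, 1, 2, 0, 0, 3, 3, 0], [2, 6, 3, 3, 6, 2, 2, 7, 7, 2])],
   .edge 0 6 [1, 1, 5, 2] [(109, [53], [0, 2, 1, 1, 2, 0, 0, 3, 3, 0], [1, 2, 4, 2, 7, 7, 2, 6, 6, 3, 3, 6, 6])],
   .close 0 8 [1] [(110, [68, 69], [3, 0, 0, 3, 3, 1, 2, 2, 1, 3], [0, 2, 4, 3, 3, 6, 6, 3, 3, 7, 2, 2, 7])] (7, [], [3, 0, 0, 3, 3, 1, 2, 2, 1, 3], [7, 2, 2, 7, 7, 3, 6, 6, 3, 7]),
   .close 6 8 [5, 2, 1, 1] [(24, [68, 69], [0], [2, 4, 1, 2]), (91, [31, 52, 30], [1, 3, 0, 0, 2, 0, 3, 1, 3, 0, 2, 0, 3], [4, 1, 2, 4, 3, 7, 3, 3, 6, 6, 2, 6, 3, 7, 2, 2, 2, 7, 3])] (7, [], [1, 3, 0, 2, 2, 0, 3, 3, 1, 1, 2, 0, 0, 2], [3, 7, 2, 6, 6, 2, 7, 7, 3, 3, 6, 2, 2, 6]),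
   .close 6 8 [5, 6, 1, 1] [(24, [68, 69], [2], [0, 2, 4, 2]), (97, [33, 52, 58, 32, 30], [2, 1, 1, 2, 2, 0, 2, 0, 3, 0, 0, 2, 1], [2, 2, 4, 0, 2, 7, 3, 3, 7, 3, 3, 6, 2, 6, 3, 7, 3])] (7, [58, 30], [3, 0, 2, 2, 0, 3, 3, 0, 2, 0, 0, 2, 0], [7, 2, 6, 6, 2, 7, 7, 2, 6, 2, 2, 6, 2]),
   .edge 6 8 [5, 2, 2, 6, 2, 1, 1] [(24, [68, 69], [0, 0, 2, 0], [0, 2, 4, 3, 6, 6, 2, 6, 2]), (7, [58, 31], [0, 0, 2, 0], [2, 2, 6, 2])],
   .edge 6 6 [5, 3, 1, 1, 5, 3] [(75, [52, 33, 32, 53], [0, 3, 0, 0, 3, 1, 2, 1, 1, 2], [3, 4, 3, 4, 2, 4, 0, 6, 6, 2, 2, 7, 7, 2, 2, 6, 3, 7]), (87, [20, 22, 18, 20, 23, 47, 23, 46], [3, 0, 2, 2, 0, 0, 2, 2], [1, 3, 0, 2, 4, 2, 2, 4, 6, 2, 7, 3, 7, 2, 6])],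
   .edge 0 6 [5, 3, 5, 3] [(113, [53, 31, 32, 59, 52, 33], [0, 3, 0, 0, 0, 2, 0, 3, 1, 1, 3, 3], [2, 2, 4, 2, 0, 2, 2, 4, 0, 3, 3, 6, 2, 7, 3, 7, 2, 6, 6, 3, 7])],
   .edge 5 6 [1, 5, 3, 5, 3] [(113, [53, 31, 32, 59, 52, 33], [0, 3, 0, 0, 0, 2, 0, 3, 1, 1, 3, 3], [2, 2, 4, 2, 0, 2, 2, 4, 0, 3, 3, 6, 2, 7, 3, 7, 2, 6, 6, 3, 7]), (113, [53, 31, 32, 59, 52, 33], [1, 2, 2, 0, 3, 1, 2, 0, 0, 3, 3, 1, 3, 1], [2, 4, 3, 3, 4, 6, 3, 7, 2, 2, 6, 6, 2, 2, 7, 2, 2])],
   .edge 0 6 [0, 5, 3, 5, 3] [(115, [], [1, 3, 1, 1, 2, 1, 3, 1, 2, 0, 3, 1, 1, 2], [4, 2, 0, 3, 0, 2, 0, 2, 2, 4, 2, 7, 3, 6, 3, 3, 6])]]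

/-- The points of class 1. -/
def topCover1 : List (ℕ × ℕ × Option ℕ) :=
  [(5, 1, none), (6, 2, none), (27, 3, none), (99, 4, none), (4, 8, none), (2, 9, none), (0, 10, none), (1, 11, none), (9, 30, none), (3, 33, none), (81, 50, none), (10, 5, some 6), (11, 5, some 7), (15, 5, some 8), (19, 5, some 9), (12, 6, some 6), (13, 6, some 7), (14, 6, some 8), (18, 6, some 9), (65, 27, some 6), (66, 27, some 7), (262, 27, some 8), (31, 27, some 9), (215, 99, some 6), (216, 99, some 7), (754, 99, some 8), (506, 99, some 9), (22, 9, some 6), (23, 9, some 7), (25, 9, some 8), (29, 9, some 9), (7, 3, some 6), (8, 3, some 7), (24, 3, some 8), (28, 3, some 9), (168, 81, some 6), (169, 81, some 7), (175, 81, some 8), (174, 81, some 9), (26, 10, some 6), (38, 10, some 8), (30, 11, some 7), (41, 15, some 8), (49, 19, some 9), (32, 12, some 6), (36, 12, some 8), (34, 13, some 7), (40, 14, some 8), (48, 18, some 9), (139, 65, some 6), (563, 65, some 8), (189, 65, some 9), (141, 66, some 7), (39, 66, some 8), (217, 66, some 9), (201, 262, some 7), (509, 262, some 8), (72, 31, some 6), (73, 31, some 7), (313,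 31, some 9), (445, 215, some 6), (1136, 215, some 8), (1167, 215, some 9), (448, 216, some 7), (625, 216, some 8), (500, 216, some 9), (1087, 754, some 6), (778, 754, some 7), (1143, 754, some 8), (352, 506, some 6), (332, 506, some 7), (449, 506, some 9), (53, 22, some 6), (59, 22, some 8), (55, 23, some 7), (62, 25, some 8), (70, 29, some 9), (16, 7, some 6), (57, 7, some 8), (20, 8, some 7), (61, 24, some 8), (69, 28, some 9), (197, 168, some 6), (83, 168, some 8), (382, 168, some 9), (196, 169, some 7), (381, 169, some 8), (366, 175, some 7), (390, 175, some 8), (364, 174, some 6), (391, 174, some 9), (63, 26, some 6), (271, 26, some 8), (89, 26, some 9), (319, 30, some 9), (88, 41, some 6), (92, 41, some 8), (106, 49, some 7), (74, 32, some 6), (270, 32, some 8), (86, 32, some 9), (318, 34, some 9), (85, 40, some 6), (91, 40, some 8), (104, 48, some 7), (305, 139, some 6), (905, 139, some 8), (957, 139, some 9), (876, 563, some 6), (944, 563, some 7), (947, 563, some 8), (90, 189, some 6), (107, 189, some 7), (136, 141, some 8), (84, 141, some 9), (47, 39, some 7), (96, 39, some 8), (438,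 217, some 9), (295, 201, some 9), (856, 509, some 6), (857, 509, some 7), (592, 509, some 8), (150, 72, some 6), (235, 72, some 8), (154, 73, some 7), (614, 73, some 9), (232, 313, some 6), (780, 445, some 6), (429, 445, some 8), (818, 445, some 9), (979, 1136, some 6), (1014, 1136, some 7), (1381, 1136, some 8), (1133, 1167, some 6), (767, 1167, some 7), (988, 1167, some 9), (354, 448, some 8), (1122, 448, some 9), (1030, 625, some 6), (338, 625, some 7), (1216, 625, some 8), (356, 500, some 6), (849, 500, some 7), (940, 500, some 9), (1215, 1087, some 6), (1162, 1087, some 8), (1214, 1087, some 9), (471, 778, some 7), (443, 778, some 9), (737, 1143, some 6), (1158, 1143, some 7), (787, 1143, some 8), (642, 352, some 6), (784, 352, some 8), (616, 332, some 7), (296, 332, some 8), (627, 332, some 9), (447, 449, some 6), (115, 53, some 6), (178, 53, some 8), (130, 53, some 9), (226, 55, some 9), (129, 62, some 6), (133, 62, some 8), (147, 70, some 7), (42, 16, some 6), (179, 16, some 8), (127, 16, some 9), (227, 20, some 9), (126, 61, some 6), (132, 61, some 8), (145, 69, some 7), (93, 197,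 some 6), (855, 197, some 8), (187, 197, some 9), (182, 382, some 6), (682, 382, some 7), (287, 382, some 9), (848, 196, some 9), (680, 381, some 6), (248, 366, some 7), (446, 366, some 9), (696, 390, some 6), (284, 390, some 8), (494, 364, some 8), (697, 391, some 7), (538, 63, some 8), (541, 63, some 9), (520, 271, some 6), (521, 271, some 7), (524, 271, some 8), (600, 319, some 6), (601, 319, some 7), (185, 88, some 6), (661, 88, some 8), (664, 88, some 9), (193, 92, some 6), (194, 92, some 7), (803, 106, some 8), (805, 106, some 9), (537, 74, some 8), (540, 74, some 9), (517, 270, some 6), (518, 270, some 7), (523, 270, some 8), (597, 318, some 6), (598, 318, some 7), (180, 85, some 6), (662, 85, some 8), (665, 85, some 9), (190, 91, some 6), (191, 91, some 7), (804, 104, some 8), (806, 104, some 9), (873, 305, some 8), (602, 305, some 9), (1272, 905, some 6), (1148, 905, some 7), (706, 905, some 8), (1310, 957, some 6), (599, 957, some 7), (1270, 957, some 9), (1002, 876, some 6), (1006, 876, some 9), (1019, 944, some 7), (800, 944, some 9), (881, 947, some 6), (188, 90, some 6), (198,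 90, some 8), (231, 107, some 7), (64, 136, some 6), (176, 84, some 6), (103, 47, some 7), (111, 47, some 9), (205, 96, some 6), (206, 96, some 7), (211, 96, some 8), (766, 438, some 6), (230, 438, some 7), (149, 295, some 7), (918, 856, some 6), (225, 856, some 8), (400, 856, some 9), (1234, 857, some 7), (1316, 857, some 9), (986, 592, some 6), (987, 592, some 7), (329, 150, some 6), (389, 235, some 8), (875, 154, some 8), (912, 154, some 9), (844, 780, some 8), (777, 780, some 9), (756, 429, some 6), (207, 429, some 7), (1117, 818, some 6), (689, 818, some 7), (1160, 818, some 9), (587, 979, some 6), (935, 979, some 8), (502, 979, some 9), (609, 1014, some 7), (1174, 1014, some 9), (1401, 1381, some 6), (1386, 1381, some 7), (799, 1381, some 8), (561, 1133, some 8), (695, 767, some 8), (834, 767, some 9), (858, 988, some 6), (1279, 988, some 7), (550, 354, some 6), (167, 354, some 7), (330, 354, some 8), (1373, 1122, some 6), (719, 1122, some 7), (739, 1122, some 9), (628, 1030, some 6), (654, 1030, some 8), (641, 1030, some 9), (155, 338, some 7), (408, 338, some 9), (916, 1216, some 6),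 (1400, 1216, some 7), (934, 1216, some 8), (560, 356, some 8), (1393, 849, some 8), (828, 849, some 9), (1139, 940, some 6), (821, 1215, some 6), (1084, 1215, some 8), (757, 1162, some 7), (815, 1162, some 8), (819, 1214, some 6), (433, 1214, some 9), (722, 471, some 8), (392, 471, some 9), (732, 443, some 6), (776, 443, some 7), (210, 443, some 9), (414, 737, some 6), (770, 737, some 8), (486, 737, some 9), (1142, 1158, some 7), (690, 1158, some 9), (1189, 787, some 6), (481, 787, some 7), (1023, 642, some 6), (945, 642, some 8), (1374, 642, some 9), (1183, 784, some 7), (735, 784, some 8), (1267, 616, some 9), (473, 296, some 8), (894, 627, some 9), (681, 447, some 6), (394, 115, some 8), (397, 115, some 9), (370, 178, some 6), (371, 178, some 7), (376, 178, some 8), (460, 226, some 6), (461, 226, some 7), (277, 129, some 6), (868, 129, some 8), (871, 129, some 9), (285, 133, some 6), (286, 133, some 7), (995, 147, some 8), (997, 147, some 9), (395, 42, some 8), (398, 42, some 9), (373, 179, some 6), (374, 179, some 7), (377, 179, some 8), (463, 227, some 6), (464, 227, some 7), (272, 126,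 some 6), (869, 126, some 8), (872, 126, some 9), (282, 132, some 6), (283, 132, some 7), (996, 145, some 8), (998, 145, some 9), (714, 93, some 8), (717, 93, some 9), (1233, 855, some 6), (670, 855, some 7), (1072, 855, some 8), (1079, 682, some 7), (885, 682, some 8), (1202, 682, some 9), (547, 287, some 6), (548, 287, some 7), (809, 848, some 6), (1231, 848, some 7), (1058, 680, some 8), (964, 680, some 9), (715, 248, some 8), (718, 248, some 9), (782, 446, some 6), (783, 446, some 7), (1073, 446, some 9), (1094, 696, some 6), (1054, 696, some 8), (962, 696, some 9), (543, 284, some 6), (544, 284, some 7), (841, 494, some 6), (666, 494, some 7), (896, 697, some 8), (1200, 697, some 9), (903, 538, some 6), (904, 538, some 7), (910, 541, some 6), (911, 541, some 7), (458, 521, some 9), (363, 600, some 8), (1062, 664, some 6), (984, 664, some 7), (1096, 193, some 9), (863, 803, some 6), (900, 537, some 6), (901, 537, some 7), (907, 540, some 6), (908, 540, some 7), (454, 518, some 9), (369, 597, some 8), (1063, 665, some 6), (983, 665, some 7), (1097, 190, some 9), (864, 804, some 6), (629,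 873, some 6), (1044, 873, some 7), (1284, 873, some 8), (956, 602, some 6), (1003, 602, some 7), (1004, 602, some 9), (1154, 1272, some 6), (413, 1272, some 8), (1201, 1272, some 9), (742, 1148, some 7), (1329, 1148, some 9), (1106, 706, some 6), (396, 706, some 7), (1328, 706, some 8), (1317, 1310, some 6), (743, 1310, some 8), (1000, 599, some 7), (345, 599, some 8), (1005, 599, some 9), (902, 1270, some 6), (1228, 1270, some 7), (887, 1002, some 8), (604, 1006, some 6), (878, 1006, some 9), (657, 1019, some 8), (1247, 1019, some 9), (929, 800, some 6), (528, 881, some 9), (387, 188, some 6), (1082, 188, some 8), (1085, 188, some 9), (412, 198, some 6), (1173, 231, some 8), (1210, 231, some 9), (135, 64, some 6), (239, 111, some 7), (243, 111, some 9), (426, 205, some 6), (1060, 205, some 8), (1155, 205, some 9), (71, 206, some 9), (402, 211, some 6), (434, 211, some 7), (1166, 766, some 6), (728, 766, some 8), (470, 230, some 7), (436, 230, some 8), (1206, 230, some 9), (156, 918, some 8), (915, 918, some 9), (1192, 225, some 8), (401, 400, some 6), (192, 400, some 7), (1091, 400, some 9),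 (713, 1234, some 8), (1275, 1234, some 9), (1045, 1316, some 6), (1353, 1316, some 7), (1402, 1316, some 9), (1345, 986, some 8), (694, 986, some 9), (522, 329, some 8), (976, 329, some 9), (186, 389, some 6), (519, 875, some 6), (1149, 912, some 6), (1239, 912, some 7), (850, 844, some 6), (1221, 844, some 7), (444, 777, some 6), (596, 777, some 7), (487, 756, some 8), (234, 207, some 9), (797, 1117, some 6), (1282, 1117, some 8), (1051, 689, some 7), (1088, 689, some 8), (493, 689, some 9), (826, 1160, some 6), (752, 1160, some 7), (326, 587, some 6), (357, 587, some 8), (980, 587, some 9), (1047, 935, some 7), (1152, 935, some 8), (851, 502, some 6), (246, 502, some 9), (1092, 609, some 8), (489, 609, some 9), (775, 1174, some 6), (773, 1174, some 7), (1197, 1174, some 9), (1217, 1401, some 6), (1016, 1401, some 8), (1230, 1401, some 9), (1288, 1386, some 7), (457, 799, some 6), (1195, 799, some 7), (941, 561, some 7), (1093, 695, some 7), (1222, 834, some 6), (853, 834, some 9), (1235, 858, some 6), (653, 858, some 8), (1007, 1279, some 7), (1118, 1279, some 8), (822, 1279, some 9), (925,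 550, some 6), (472, 550, some 9), (355, 167, some 7), (1022, 167, some 9), (612, 330, some 6), (514, 330, some 7), (785, 330, some 8), (1355, 1373, some 6), (1042, 1373, some 8), (1123, 719, some 7), (385, 719, some 8), (362, 719, some 9), (492, 739, some 6), (1145, 739, some 7), (339, 628, some 6), (892, 628, some 8), (1040, 641, some 6), (634, 641, some 7), (365, 155, some 8), (1021, 155, some 9), (726, 408, some 7), (1128, 408, some 9), (594, 916, some 8), (606, 916, some 9), (1380, 1400, some 7), (582, 934, some 7), (949, 560, some 8), (1289, 1393, some 6), (1365, 1393, some 7), (1157, 828, some 6), (749, 828, some 9), (247, 1139, some 8), (479, 821, some 8), (1159, 821, some 9), (755, 1084, some 7), (1089, 757, some 7), (831, 757, some 9), (1115, 815, some 6), (686, 815, some 7), (847, 815, some 8), (469, 819, some 6), (759, 433, some 6), (1126, 722, some 6), (1127, 722, some 7), (459, 722, some 8), (698, 392, some 6), (699, 392, some 7), (723, 392, some 9), (1138, 732, some 6), (823, 732, some 8), (440, 776, some 9), (736, 414, some 6), (631, 414, some 8), (630, 414, some 9), (836, 770,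 some 7), (1377, 770, some 8), (765, 486, some 6), (557, 486, some 7), (835, 486, some 9), (829, 1142, some 8), (758, 1142, some 9), (1090, 690, some 6), (431, 690, some 9), (1163, 1189, some 6), (1141, 1189, some 9), (953, 1023, some 8), (580, 1023, some 9), (1263, 945, some 6), (1302, 945, some 7), (1020, 945, some 8), (1396, 1374, some 6), (1375, 1374, some 9), (1080, 1183, some 7), (307, 1183, some 9), (491, 735, some 6), (1340, 1267, some 6), (898, 1267, some 7), (1339, 1267, some 9), (1255, 473, some 8), (530, 894, some 6), (1266, 681, some 8), (344, 681, some 9), (700, 394, some 6), (701, 394, some 7), (707, 397, some 6), (708, 397, some 7), (595, 371, some 9), (512, 460, some 8), (1098, 871, some 6), (789, 871, some 7), (1107, 285, some 9), (656, 995, some 6), (703, 395, some 6), (704, 395, some 7), (710, 398, some 6), (711, 398, some 7), (591, 374, some 9), (516, 463, some 8), (1102, 872, some 6), (790, 872, some 7), (1110, 282, some 9), (655, 996, some 6), (796, 714, some 6), (1114, 714, some 7), (1120, 717, some 6), (650, 717, some 7), (1389, 1233, some 6), (1151, 1233, some 8), (1070,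 1233, some 9), (1069, 670, some 7), (497, 670, some 9), (812, 1072, some 6), (675, 1072, some 7), (607, 1079, some 8), (533, 1079, some 9), (527, 885, some 6), (1254, 885, some 7), (792, 885, some 8), (1399, 1202, some 6), (1405, 1202, some 9), (647, 547, some 8), (1312, 548, some 8), (793, 548, some 9), (1208, 809, some 6), (501, 809, some 8), (1388, 1231, some 7), (1209, 1231, some 8), (1186, 1231, some 9), (1358, 1058, some 7), (1407, 1058, some 8), (577, 964, some 7), (648, 964, some 9), (1116, 715, some 7), (1121, 718, some 6), (1181, 782, some 6), (237, 782, some 8), (1182, 783, some 7), (1207, 783, some 8), (1184, 783, some 9), (813, 1073, some 6), (676, 1073, some 7), (603, 1094, some 8), (526, 1094, some 9), (1357, 1054, some 7), (1406, 1054, some 8), (1311, 962, some 6), (576, 962, some 7), (651, 962, some 9), (1265, 543, some 9), (1227, 841, some 6), (1219, 841, some 8), (1067, 841, some 9), (1064, 666, some 7), (213, 666, some 9), (534, 896, some 6), (795, 896, some 8), (1398, 1200, some 6), (1404, 1200, some 9), (224, 458, some 6), (173, 363, some 7), (590, 984, some 8), (508,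 863, some 9), (220, 454, some 6), (177, 369, some 7), (589, 983, some 8), (507, 864, some 9), (1031, 629, some 6), (1251, 629, some 8), (341, 629, some 9), (1349, 1044, some 7), (1125, 1044, some 9), (1318, 1284, some 8), (1309, 956, some 6), (159, 956, some 8), (1336, 1003, some 7), (882, 1004, some 6), (1250, 1004, some 7), (1134, 1154, some 6), (208, 1154, some 8), (1190, 1154, some 9), (1359, 413, some 8), (1172, 1201, some 7), (970, 1201, some 9), (832, 742, some 9), (1278, 1329, some 6), (989, 1329, some 7), (720, 1329, some 9), (764, 1106, some 6), (1076, 1106, some 8), (1193, 1106, some 9), (212, 396, some 7), (762, 396, some 9), (1280, 1328, some 6), (1335, 1317, some 6), (1283, 1317, some 9), (1135, 743, some 6), (874, 1000, some 8), (890, 1000, some 9), (161, 345, some 6), (877, 345, some 8), (883, 1005, some 6), (1269, 902, some 6), (1180, 1228, some 7), (1249, 1228, some 8), (833, 1228, some 9), (1248, 878, some 6), (1057, 657, some 6), (926, 657, some 7), (399, 657, some 8), (1253, 1247, some 7), (1274, 929, some 6), (157, 929, some 8), (888, 528, some 7), (1203, 1082, some 7),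 (1059, 1085, some 7), (1366, 412, some 9), (1191, 1173, some 6), (1066, 1210, some 7), (927, 135, some 8), (930, 135, some 9), (1188, 239, some 8), (483, 243, some 6), (403, 243, some 7), (791, 402, some 8), (228, 434, some 9), (820, 1166, some 6), (1131, 728, some 6), (410, 728, some 7), (1226, 728, some 8), (388, 470, some 8), (1130, 470, some 9), (1382, 1206, some 9), (340, 156, some 6), (1352, 1192, some 6), (1124, 1192, some 8), (407, 192, some 8), (693, 1091, some 7), (1113, 713, some 7), (1229, 1275, some 6), (909, 1275, some 7), (172, 1045, some 8), (1043, 1353, some 7), (1350, 1353, some 8), (1391, 1402, some 6), (725, 694, some 9), (879, 522, some 7), (584, 976, some 7), (485, 186, some 9), (351, 519, some 9), (1236, 1149, some 8), (1171, 850, some 6), (838, 850, some 8), (840, 850, some 9), (741, 1221, some 9), (738, 444, some 6), (779, 444, some 8), (994, 596, some 7), (515, 596, some 8), (922, 596, some 9), (245, 487, some 7), (495, 487, some 8), (450, 234, some 7), (633, 234, some 9), (652, 797, some 6), (1198, 797, some 8), (992, 797, some 9), (1387, 1282, some 6), (1308, 1282,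 some 8), (1285, 1051, some 9), (747, 1088, some 7), (1212, 1088, some 8), (480, 493, some 9), (1156, 826, some 6), (451, 826, some 8), (825, 752, some 9), (299, 326, some 8), (423, 326, some 9), (240, 357, some 7), (160, 357, some 8), (1323, 980, some 6), (615, 980, some 7), (1297, 980, some 9), (1356, 1047, some 9), (1384, 1152, some 6), (919, 1152, some 7), (585, 1152, some 8), (490, 246, some 6), (114, 246, some 7), (474, 489, some 6), (683, 489, some 7), (242, 489, some 9), (442, 775, some 6), (845, 775, some 8), (441, 773, some 7), (968, 773, some 9), (802, 1197, some 6), (928, 1197, some 7), (611, 1016, some 7), (932, 1016, some 8), (1397, 1230, some 6), (967, 1230, some 9), (1306, 1288, some 8), (798, 457, some 6), (716, 457, some 9), (837, 1222, some 6), (1050, 1222, some 8), (503, 853, some 6), (1232, 853, some 7), (889, 1235, some 6), (745, 1235, some 8), (637, 1007, some 8), (1307, 1007, some 9), (1185, 822, some 6), (1348, 822, some 9), (645, 925, some 6), (659, 925, some 8), (252, 472, some 6), (219, 472, some 9), (1053, 355, some 8), (1150, 355, some 9), (1296, 1022, some 9),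 (1017, 612, some 6), (943, 612, some 8), (1378, 612, some 9), (334, 514, some 7), (1218, 1355, some 8), (862, 1355, some 9), (644, 1042, some 6), (1351, 1042, some 7), (691, 385, some 7), (866, 1145, some 7), (1187, 1145, some 8), (1344, 1145, some 9), (1052, 339, some 8), (1010, 892, some 6), (1237, 892, some 7), (1262, 892, some 8), (936, 1040, some 8), (1035, 634, some 7), (974, 634, some 9), (610, 365, some 8), (899, 1021, some 6), (1294, 1021, some 9), (511, 594, some 8), (973, 606, some 6), (1011, 606, some 7), (1137, 1380, some 9), (565, 949, some 6), (923, 1289, some 6), (1048, 1289, some 8), (1385, 1365, some 7), (214, 1157, some 8), (786, 479, some 6), (427, 479, some 7), (763, 479, some 8), (1147, 1159, some 6), (1146, 1159, some 7), (1213, 1089, some 8), (794, 1115, some 6), (1039, 1115, some 9), (854, 686, some 9), (499, 847, some 7), (852, 759, some 8), (1161, 1126, some 8), (1281, 1126, some 9), (1376, 1127, some 7), (411, 1127, some 9), (801, 459, some 6), (368, 459, some 8), (1095, 698, some 6), (1129, 723, some 7), (349, 823, some 8), (475, 440, some 6), (437, 736, some 8),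 (824, 736, some 9), (342, 631, some 6), (435, 631, some 7), (353, 631, some 8), (484, 630, some 6), (346, 630, some 9), (772, 836, some 7), (1354, 1377, some 6), (1029, 1377, some 8), (292, 557, some 7), (417, 557, some 8), (306, 557, some 9), (771, 835, some 7), (482, 1090, some 8), (952, 953, some 8), (971, 580, some 7), (337, 1302, some 9), (639, 1020, some 8), (1370, 1396, some 6), (1315, 1080, some 9), (583, 307, some 6), (140, 307, some 7), (839, 491, some 6), (1264, 1340, some 8), (535, 898, some 7), (1304, 898, some 8), (886, 1255, some 7), (893, 530, some 6), (897, 1266, some 7), (316, 595, some 6), (265, 512, some 7), (452, 789, some 8), (358, 656, some 9), (312, 591, some 6), (269, 516, some 7), (453, 790, some 8), (359, 655, some 9), (456, 796, some 6), (268, 796, some 9), (1196, 1114, some 7), (1075, 1114, some 9), (1049, 1120, some 6), (1178, 1120, some 8), (361, 650, some 7), (317, 650, some 8), (1175, 1389, some 6), (1074, 1070, some 6), (671, 1070, some 7), (1287, 1069, some 9), (253, 497, some 6), (251, 497, some 7), (462, 497, some 9), (465, 812, some 8), (1179, 812, some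 9), (375, 675, some 9), (322, 607, some 6), (1012, 607, some 7), (895, 533, some 6), (278, 533, some 7), (273, 527, some 6), (336, 527, some 8), (328, 527, some 9), (884, 1254, some 7), (1273, 1254, some 9), (1194, 792, some 6), (455, 792, some 7), (1223, 792, some 8), (1334, 1399, some 8), (360, 647, some 7), (315, 647, some 8), (975, 1312, some 6), (1277, 1312, some 8), (264, 793, some 9), (1286, 1208, some 8), (258, 501, some 6), (256, 501, some 7), (372, 501, some 8), (811, 1209, some 6), (1245, 1358, some 9), (320, 577, some 7), (310, 577, some 8), (304, 577, some 9), (1046, 648, some 7), (1390, 1181, some 6), (113, 237, some 6), (109, 237, some 7), (808, 1207, some 6), (1244, 1357, some 9), (1361, 1406, some 8), (309, 576, some 8), (303, 576, some 9), (667, 1067, some 7), (100, 213, some 6), (98, 213, some 7), (335, 534, some 8), (327, 534, some 9), (1333, 1398, some 8), (254, 224, some 6), (386, 224, some 8), (257, 173, some 7), (432, 590, some 6), (101, 220, some 6), (393, 220, some 8), (110, 177, some 7), (428, 589, some 6), (1347, 1031, some 6), (1343, 1031, some 8), (1246, 1031,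 some 9), (266, 341, some 7), (274, 341, some 9), (860, 1349, some 8), (1403, 1349, some 9), (721, 1125, some 6), (942, 1309, some 9), (76, 159, some 7), (1038, 1336, some 9), (1252, 882, some 8), (638, 1250, some 8), (646, 1250, some 9), (430, 208, some 6), (97, 208, some 7), (1061, 208, some 8), (241, 1190, some 9), (1271, 1359, some 6), (1367, 1172, some 7), (1086, 1172, some 8), (229, 1172, some 9), (914, 1278, some 6), (1001, 1278, some 8), (593, 989, some 7), (678, 989, some 9), (677, 1076, some 7), (404, 1076, some 8), (223, 1193, some 9), (439, 212, some 8), (977, 1335, some 9), (917, 1283, some 7), (1009, 874, some 8), (529, 890, some 7), (999, 890, some 9), (77, 161, some 6), (158, 161, some 8), (82, 161, some 9), (416, 1269, some 8), (781, 1180, some 8), (982, 1249, some 8), (1268, 926, some 7), (244, 399, some 6), (891, 1274, some 9), (78, 157, some 6), (75, 157, some 7), (1276, 888, some 8), (660, 1059, some 7), (1238, 1059, some 9), (1008, 1191, some 9), (1364, 1066, some 8), (1224, 1188, some 7), (181, 483, some 8), (466, 228, some 7), (1205, 228, some 9), (379, 1131, some 9),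 (261, 410, some 9), (1322, 1226, some 6), (1363, 1226, some 7), (724, 1130, some 6), (727, 1130, some 7), (1176, 1382, some 7), (267, 340, some 6), (1320, 1352, some 6), (1392, 1352, some 8), (260, 407, some 8), (1168, 1113, some 9), (166, 909, some 8), (990, 172, some 8), (1298, 1043, some 8), (1177, 1391, some 8), (164, 351, some 7), (740, 1171, some 8), (1144, 738, some 6), (744, 738, some 8), (1119, 738, some 9), (1132, 779, some 8), (1395, 994, some 9), (608, 922, some 9), (488, 245, some 7), (419, 245, some 9), (842, 495, some 6), (843, 495, some 7), (1034, 633, some 7), (1291, 1198, some 6), (963, 1198, some 7), (476, 1387, some 8), (1394, 1387, some 9), (954, 1308, some 6), (1325, 1308, some 7), (830, 1212, some 6), (498, 1156, some 8), (846, 825, some 9), (567, 299, some 6), (505, 299, some 7), (204, 423, some 6), (1290, 423, some 9), (347, 160, some 6), (348, 160, some 7), (951, 160, some 8), (959, 615, some 8), (1013, 615, some 9), (937, 1297, some 6), (1170, 1356, some 7), (1362, 1384, some 6), (308, 585, some 6), (1081, 683, some 7), (350, 683, some 8), (367, 242, some 6), (1220,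 441, some 9), (1028, 968, some 6), (573, 968, some 9), (991, 802, some 8), (581, 928, some 7), (1015, 928, some 8), (578, 611, some 7), (553, 932, some 7), (575, 932, some 8), (1027, 967, some 6), (931, 1050, some 6), (658, 1050, some 7), (924, 637, some 6), (571, 637, some 8), (1261, 1307, some 9), (1037, 1348, some 6), (1036, 1348, some 7), (618, 645, some 9), (626, 659, some 7), (649, 1053, some 8), (948, 1017, some 8), (636, 1017, some 9), (1301, 943, some 7), (1018, 943, some 8), (1379, 1378, some 9), (1026, 644, some 8), (635, 644, some 9), (1041, 1351, some 7), (1077, 691, some 9), (1305, 1010, some 9), (861, 1237, some 7), (556, 936, some 7), (1303, 1294, some 6), (1341, 1011, some 7), (617, 1011, some 8), (978, 1137, some 6), (1153, 923, some 6), (966, 1385, some 9), (418, 214, some 8), (753, 427, some 7), (1199, 794, some 8), (640, 1039, some 7), (504, 854, some 6), (729, 854, some 7), (1169, 499, some 9), (200, 852, some 8), (969, 1376, some 9), (420, 411, some 7), (558, 437, some 6), (623, 342, some 9), (643, 353, some 6), (624, 1029, some 6), (579, 306, some 6), (950, 140, some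 8), (965, 886, some 9), (569, 893, some 9), (162, 316, some 6), (531, 316, some 8), (165, 265, some 7), (570, 452, some 6), (142, 312, some 6), (536, 312, some 8), (151, 269, some 7), (566, 453, some 6), (222, 456, some 8), (125, 268, some 7), (1105, 1196, some 8), (906, 1196, some 9), (1068, 1075, some 6), (913, 1049, some 8), (1112, 1049, some 9), (1165, 1178, some 7), (171, 361, some 9), (144, 317, some 6), (1071, 1074, some 6), (814, 671, some 8), (921, 1287, some 6), (1024, 1287, some 7), (118, 253, some 6), (250, 253, some 8), (117, 251, some 7), (702, 251, some 8), (760, 251, some 9), (761, 462, some 6), (1164, 1179, some 7), (672, 375, some 7), (574, 322, some 8), (1292, 1012, some 9), (1293, 895, some 8), (621, 278, some 9), (619, 273, some 9), (542, 336, some 7), (153, 336, some 8), (221, 328, some 6), (325, 328, some 7), (51, 328, some 9), (1346, 884, some 8), (960, 1273, some 6), (1101, 1194, some 8), (920, 1194, some 9), (1256, 1334, some 7), (170, 360, some 9), (143, 315, some 6), (1319, 975, some 9), (1025, 1277, some 7), (123, 264, some 7), (958, 1286, some 6), (121, 258, some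 6), (709, 258, some 9), (120, 256, some 7), (255, 256, some 9), (668, 372, some 7), (684, 811, some 9), (1337, 1245, some 6), (572, 320, some 8), (294, 310, some 6), (45, 310, some 8), (539, 304, some 6), (138, 304, some 9), (1109, 1046, some 9), (52, 113, some 6), (712, 113, some 9), (108, 109, some 9), (687, 808, some 9), (1338, 1244, some 6), (293, 309, some 6), (545, 303, some 6), (137, 303, some 9), (817, 667, some 8), (95, 100, some 8), (44, 98, some 7), (705, 98, some 8), (546, 335, some 7), (152, 335, some 8), (324, 327, some 7), (1257, 1333, some 7), (692, 386, some 6), (421, 393, some 6), (1321, 1343, some 7), (124, 266, some 7), (122, 266, some 8), (406, 266, some 9), (510, 860, some 6), (768, 860, some 8), (1225, 1403, some 9), (562, 942, some 6), (33, 76, some 7), (184, 76, some 9), (288, 638, some 8), (289, 646, some 9), (378, 430, some 8), (209, 97, some 7), (37, 97, some 9), (1204, 1061, some 6), (1211, 1061, some 7), (112, 241, some 6), (415, 1367, some 8), (1360, 1086, some 6), (183, 1086, some 8), (105, 229, some 6), (134, 914, some 9), (314, 593, some 8), (380, 678, some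 6), (405, 404, some 6), (195, 404, some 7), (859, 404, some 8), (102, 223, some 6), (218, 439, some 8), (605, 1009, some 6), (870, 1009, some 8), (880, 529, some 8), (613, 999, some 6), (343, 158, some 7), (199, 416, some 6), (1383, 781, some 8), (163, 78, some 6), (1065, 181, some 8), (1083, 1205, some 7), (409, 727, some 7), (80, 166, some 6), (79, 164, some 7), (422, 744, some 7), (311, 744, some 8), (769, 1132, some 6), (972, 608, some 6), (622, 842, some 6), (1140, 1034, some 7), (238, 476, some 7), (981, 1325, some 7), (259, 830, some 8), (1342, 567, some 8), (549, 348, some 7), (1258, 951, some 6), (620, 959, some 7), (586, 350, some 7), (302, 350, some 8), (679, 1220, some 9), (933, 553, some 7), (961, 575, some 7), (955, 571, some 6), (588, 1018, some 8), (1078, 1077, some 6), (1295, 1303, some 6), (632, 531, some 6), (559, 536, some 6), (56, 222, some 8), (60, 125, some 7), (1032, 1105, some 7), (827, 1068, some 8), (1033, 1112, some 6), (748, 1165, some 9), (54, 171, some 9), (68, 144, some 6), (788, 1071, some 8), (938, 1071, some 9), (467, 814, some 6), (669, 814, some 8), (116,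 250, some 6), (496, 250, some 7), (424, 117, some 8), (281, 117, some 9), (1100, 702, some 6), (939, 1164, some 8), (746, 1164, some 9), (1299, 1292, some 7), (1326, 1293, some 6), (865, 542, some 9), (301, 153, some 6), (333, 153, some 7), (67, 153, some 8), (21, 221, some 8), (203, 325, some 8), (146, 325, some 9), (1324, 1346, some 6), (1331, 1256, some 7), (280, 1256, some 9), (17, 170, some 9), (1300, 1319, some 7), (58, 123, some 7), (477, 121, some 9), (1055, 709, some 7), (119, 255, some 7), (383, 684, some 7), (810, 684, some 9), (1242, 1337, some 6), (323, 1337, some 8), (128, 294, some 8), (993, 539, some 8), (300, 138, some 6), (276, 52, some 8), (478, 52, some 9), (1056, 712, some 7), (50, 108, some 7), (384, 687, some 7), (807, 687, some 9), (1243, 1338, some 6), (321, 1338, some 8), (131, 293, some 8), (985, 545, some 8), (297, 137, some 6), (298, 137, some 7), (468, 817, some 6), (663, 817, some 8), (43, 95, some 6), (425, 44, some 8), (1104, 705, some 6), (867, 546, some 9), (331, 152, some 7), (148, 324, some 9), (1332, 1257, some 7), (275, 1257, some 9), (279, 406, some 6),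 (263, 510, some 9), (946, 562, some 8), (35, 33, some 9), (87, 184, some 6), (46, 37, some 7), (233, 105, some 8), (236, 314, some 7), (202, 218, some 6), (513, 422, some 9), (774, 467, some 6), (674, 467, some 9), (249, 116, some 6), (750, 424, some 8), (552, 1100, some 8), (1330, 1100, some 9), (1240, 865, some 6), (731, 865, some 7), (568, 333, some 7), (291, 146, some 9), (532, 280, some 6), (1259, 280, some 9), (551, 1055, some 9), (685, 383, some 7), (1314, 323, some 8), (734, 993, some 6), (751, 478, some 9), (1241, 1056, some 8), (554, 1056, some 9), (94, 50, some 7), (688, 384, some 7), (673, 384, some 8), (525, 321, some 7), (1313, 321, some 8), (290, 131, some 8), (733, 985, some 6), (1327, 985, some 7), (564, 297, some 6), (816, 468, some 6), (555, 1104, some 8), (730, 867, some 7), (1260, 275, some 9), (1103, 774, some 9), (1368, 552, some 8), (1371, 551, some 9), (1111, 685, some 8), (1372, 554, some 9), (1108, 688, some 8), (1099, 816, some 9), (1369, 555, some 8)]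

/-- The points of class 2. -/
def topCover2 : List (ℕ × ℕ × Option ℕ) :=
  [(12, 5, none), (4, 13, none), (2, 18, none), (3, 26, none), (6, 28, none), (900, 48, none), (57, 51, none), (38, 53, none), (59, 54, none), (221, 56, none), (22, 58, none), (7, 61, none), (242, 65, none), (1345, 70, none), (18, 12, some 10), (40, 12, some 11), (454, 12, some 12), (104, 12, some 13), (58, 12, some 42), (5, 4, some 42), (9, 2, some 42), (1, 3, some 42), (0, 6, some 42), (908, 900, some 10), (110, 900, some 12), (86, 900, some 13), (856, 900, some 42), (127, 57, some 10), (83, 57, some 42), (89, 38, some 10), (124, 38, some 42), (130, 59, some 10), (81, 59, some 42), (885, 221, some 10), (276, 221, some 11), (143, 221, some 12), (224, 221, some 42), (29, 22, some 10), (62, 22, some 11), (595, 22, some 12), (147, 22, some 13), (37, 22, some 42), (28, 7, some 10), (61, 7, some 11), (591, 7, some 12), (145, 7, some 13), (39, 7, some 42), (729, 242, some 10), (350, 242, some 11), (349, 242, some 12), (52, 242, some 42), (706, 1345, some 10), (1316, 1345, some 11), (1248, 1345, some 12), (1363, 1345, some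 13), (1232, 1345, some 42), (34, 18, some 10), (21, 18, some 42), (1063, 40, some 11), (662, 40, some 12), (907, 40, some 13), (43, 40, some 42), (537, 454, some 10), (369, 454, some 11), (428, 454, some 12), (1100, 454, some 42), (85, 104, some 10), (190, 104, some 11), (465, 104, some 42), (987, 908, some 42), (101, 110, some 10), (421, 110, some 11), (72, 110, some 42), (36, 86, some 10), (274, 86, some 42), (703, 127, some 12), (711, 127, some 13), (187, 127, some 42), (903, 89, some 12), (911, 89, some 13), (279, 89, some 42), (700, 130, some 12), (708, 130, some 13), (182, 130, some 42), (287, 885, some 10), (865, 885, some 12), (545, 885, some 13), (600, 885, some 42), (170, 276, some 11), (1104, 276, some 12), (462, 276, some 13), (432, 276, some 42), (782, 143, some 10), (301, 143, some 11), (590, 143, some 42), (55, 29, some 10), (35, 29, some 42), (1098, 62, some 11), (868, 62, some 12), (707, 62, some 13), (75, 62, some 42), (394, 595, some 10), (512, 595, some 11), (570, 595, some 12), (1272, 595, some 42), (129, 147, some 10), (285, 147, some 11), (599, 147, some 42), (20, 28,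 some 10), (31, 28, some 42), (1102, 61, some 11), (869, 61, some 12), (710, 61, some 13), (64, 61, some 42), (395, 591, some 10), (516, 591, some 11), (566, 591, some 12), (1269, 591, some 42), (126, 145, some 10), (282, 145, some 11), (602, 145, some 42), (1376, 729, some 10), (1289, 729, some 12), (992, 729, some 13), (1068, 729, some 42), (422, 350, some 11), (769, 350, some 12), (347, 350, some 13), (325, 350, some 42), (1355, 349, some 10), (246, 349, some 11), (310, 349, some 42), (1201, 706, some 10), (653, 706, some 42), (713, 1316, some 11), (158, 1316, some 12), (201, 1316, some 13), (1230, 1316, some 42), (887, 1248, some 10), (1250, 1248, some 11), (1297, 1248, some 42), (1083, 1363, some 10), (1131, 1363, some 11), (756, 1363, some 42), (901, 34, some 10), (146, 34, some 42), (523, 1063, some 12), (32, 1063, some 13), (1111, 1063, some 42), (180, 662, some 10), (806, 662, some 11), (669, 662, some 42), (1097, 907, some 11), (1369, 907, some 42), (318, 537, some 10), (597, 537, some 13), (539, 537, some 42), (540, 369, some 11), (804, 369, some 13), (1055, 369, some 42), (220, 428,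 some 10), (177, 428, some 11), (281, 428, some 42), (191, 85, some 10), (665, 85, some 12), (375, 85, some 42), (983, 190, some 11), (705, 190, some 42), (66, 101, some 42), (295, 421, some 42), (122, 36, some 42), (151, 703, some 12), (650, 703, some 42), (796, 711, some 42), (257, 903, some 12), (859, 903, some 42), (990, 911, some 42), (165, 700, some 12), (647, 700, some 42), (793, 708, some 42), (964, 287, some 10), (248, 287, some 13), (63, 287, some 42), (993, 865, some 10), (709, 865, some 11), (1099, 865, some 12), (863, 865, some 42), (322, 545, some 10), (538, 545, some 42), (123, 170, some 12), (173, 170, some 42), (1056, 1104, some 11), (60, 1104, some 12), (458, 1104, some 42), (372, 462, some 10), (702, 462, some 11), (106, 462, some 42), (803, 782, some 42), (386, 301, some 42), (701, 55, some 10), (105, 55, some 42), (376, 1098, some 12), (53, 1098, some 13), (1274, 1098, some 42), (277, 868, some 10), (997, 868, some 11), (870, 868, some 42), (1107, 707, some 11), (1360, 707, some 42), (226, 394, some 10), (460, 394, some 13), (396, 394, some 42), (397, 512, some 11), (995,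 512, some 13), (1239, 512, some 42), (316, 570, some 10), (265, 570, some 11), (189, 570, some 42), (286, 129, some 10), (871, 129, some 12), (519, 129, some 42), (789, 285, some 11), (902, 285, some 42), (704, 20, some 10), (107, 20, some 42), (377, 1102, some 12), (16, 1102, some 13), (1276, 1102, some 42), (272, 869, some 10), (998, 869, some 11), (876, 869, some 42), (1110, 710, some 11), (1359, 710, some 42), (227, 395, some 10), (463, 395, some 13), (402, 395, some 42), (398, 516, some 11), (996, 516, some 13), (1238, 516, some 42), (312, 566, some 10), (269, 566, some 11), (184, 566, some 42), (283, 126, some 10), (872, 126, some 12), (522, 126, some 42), (790, 282, some 11), (905, 282, some 42), (1144, 1376, some 10), (210, 1376, some 12), (763, 1376, some 13), (1196, 1376, some 42), (1288, 1289, some 10), (866, 1289, some 11), (1266, 1289, some 12), (1327, 1289, some 42), (1036, 992, some 10), (1282, 992, some 11), (913, 992, some 42), (1018, 422, some 12), (484, 422, some 13), (109, 422, some 42), (1034, 769, some 10), (861, 769, some 11), (514, 769, some 12), (213, 769, some 42),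 (973, 347, some 10), (1279, 347, some 11), (682, 347, some 42), (1351, 1355, some 10), (648, 1355, some 42), (160, 246, some 11), (95, 246, some 42), (1057, 1201, some 10), (1247, 1201, some 12), (1135, 1201, some 13), (1123, 1201, some 42), (1224, 713, some 12), (1249, 713, some 13), (799, 713, some 42), (218, 158, some 10), (97, 158, some 11), (1059, 158, some 12), (354, 158, some 42), (141, 201, some 10), (65, 201, some 11), (204, 201, some 42), (947, 887, some 10), (1342, 887, some 42), (1336, 1250, some 11), (1329, 1250, some 13), (959, 1250, some 42), (430, 1083, some 10), (1087, 1083, some 42), (1383, 1131, some 11), (1124, 1131, some 12), (1157, 1131, some 42), (1372, 901, some 42), (598, 523, some 10), (517, 523, some 11), (525, 523, some 42), (14, 32, some 10), (128, 32, some 42), (674, 180, some 42), (810, 806, some 42), (48, 1097, some 11), (864, 1097, some 12), (1103, 1097, some 42), (270, 318, some 10), (393, 318, some 12), (320, 318, some 42), (74, 597, some 10), (896, 597, some 42), (518, 540, some 12), (542, 540, some 42), (91, 804, some 10), (589, 804, some 11), (809, 804,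 some 42), (222, 220, some 42), (507, 177, some 13), (171, 177, some 42), (712, 191, some 42), (670, 665, some 42), (985, 983, some 42), (142, 151, some 10), (559, 151, some 11), (120, 151, some 42), (254, 257, some 10), (692, 257, some 11), (79, 257, some 42), (162, 165, some 10), (632, 165, some 11), (51, 165, some 42), (546, 964, some 12), (278, 964, some 13), (521, 964, some 42), (666, 248, some 10), (92, 248, some 42), (54, 993, some 13), (984, 993, some 42), (807, 709, some 13), (194, 709, some 42), (1368, 1099, some 10), (119, 1099, some 11), (1096, 1099, some 42), (319, 322, some 42), (508, 123, some 42), (1371, 1056, some 13), (363, 1056, some 42), (56, 60, some 10), (116, 60, some 11), (10, 60, some 42), (88, 372, some 42), (193, 702, some 42), (1367, 701, some 42), (461, 376, some 10), (370, 376, some 11), (378, 376, some 42), (25, 53, some 10), (87, 53, some 42), (880, 277, some 42), (999, 997, some 42), (70, 1107, some 11), (656, 1107, some 12), (1268, 1107, some 42), (178, 226, some 10), (531, 226, some 12), (228, 226, some 42), (115, 460, some 10), (694, 460, some 42), (371, 397,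 some 12), (399, 397, some 42), (133, 995, some 10), (452, 995, some 11), (976, 995, some 42), (313, 316, some 42), (358, 265, some 13), (262, 265, some 42), (909, 286, some 42), (873, 871, some 42), (791, 789, some 42), (1366, 704, some 42), (464, 377, some 10), (373, 377, some 11), (387, 377, some 42), (24, 16, some 10), (90, 16, some 42), (881, 272, some 42), (1002, 998, some 42), (69, 1110, some 11), (655, 1110, some 12), (1271, 1110, some 42), (179, 227, some 10), (536, 227, some 12), (230, 227, some 42), (42, 463, some 10), (678, 463, some 42), (374, 398, some 12), (403, 398, some 42), (132, 996, some 10), (453, 996, some 11), (1001, 996, some 42), (314, 312, some 42), (359, 269, some 13), (263, 269, some 42), (912, 283, some 42), (877, 872, some 42), (800, 790, some 42), (1039, 1144, some 12), (1052, 1144, some 13), (1181, 1144, some 42), (344, 210, some 10), (726, 210, some 11), (1215, 210, some 12), (44, 210, some 42), (1147, 763, some 10), (1146, 763, some 11), (1072, 763, some 42), (994, 1288, some 10), (296, 1288, some 13), (1241, 1288, some 42), (1029, 866, some 11), (955, 866,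 some 13), (920, 866, some 42), (1315, 1266, some 10), (155, 1266, some 11), (1346, 1266, some 42), (1042, 1036, some 10), (1361, 1036, some 42), (1285, 1282, some 11), (420, 1282, some 12), (1240, 1282, some 42), (892, 1018, some 10), (643, 1018, some 11), (292, 1018, some 12), (333, 1018, some 42), (737, 484, some 10), (786, 484, some 11), (258, 484, some 42), (854, 1034, some 10), (1153, 1034, some 13), (1105, 1034, some 42), (723, 861, some 11), (834, 861, some 13), (264, 861, some 42), (633, 514, some 10), (550, 514, some 11), (174, 514, some 42), (1216, 973, some 10), (898, 973, some 12), (1012, 973, some 42), (457, 1279, some 11), (547, 1279, some 42), (1290, 1351, some 10), (435, 1351, some 12), (1183, 1351, some 13), (1287, 1351, some 42), (1348, 160, some 12), (1261, 160, some 13), (138, 160, some 42), (202, 1057, some 12), (136, 1057, some 13), (1118, 1057, some 42), (73, 1247, some 11), (721, 1247, some 12), (925, 1247, some 42), (112, 1135, some 11), (1077, 1135, some 42), (1106, 1224, some 10), (111, 1224, some 11), (1191, 1224, some 12), (1092, 1224, some 42), (1328, 1249, some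 10), (80, 1249, some 11), (1030, 1249, some 42), (860, 218, some 10), (500, 218, some 42), (1134, 97, some 11), (252, 97, some 42), (1126, 1059, some 42), (1044, 141, some 10), (587, 141, some 42), (1310, 65, some 11), (302, 65, some 42), (1006, 947, some 10), (878, 947, some 12), (1253, 947, some 13), (953, 947, some 42), (329, 1336, some 12), (1004, 1336, some 13), (1296, 1336, some 42), (1192, 1329, some 10), (1401, 1329, some 42), (1211, 430, some 10), (693, 430, some 12), (1065, 430, some 13), (1158, 430, some 42), (466, 1383, some 12), (380, 1383, some 13), (831, 1383, some 42), (989, 1124, some 10), (1397, 1124, some 42), (1332, 598, some 42), (1243, 517, some 42), (13, 14, some 10), (17, 14, some 42), (50, 48, some 42), (867, 864, some 42), (273, 270, some 42), (298, 393, some 42), (284, 74, some 42), (962, 518, some 42), (93, 91, some 42), (144, 589, some 42), (125, 507, some 42), (118, 142, some 42), (496, 559, some 42), (77, 254, some 42), (343, 692, some 42), (45, 162, some 42), (203, 632, some 42), (1331, 546, some 12), (541, 546, some 42), (271, 278, some 42), (664, 666, some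 42), (68, 54, some 10), (131, 54, some 11), (15, 54, some 42), (663, 807, some 10), (673, 807, some 11), (805, 807, some 42), (910, 1368, some 42), (49, 119, some 42), (1108, 1371, some 10), (148, 1371, some 11), (904, 1371, some 42), (19, 56, some 42), (41, 116, some 42), (1204, 461, some 42), (1061, 370, some 42), (23, 25, some 10), (33, 25, some 42), (78, 70, some 42), (660, 656, some 42), (181, 178, some 42), (206, 531, some 42), (192, 115, some 42), (766, 371, some 42), (156, 133, some 42), (103, 452, some 42), (84, 358, some 42), (1203, 464, some 42), (1060, 373, some 42), (8, 24, some 10), (27, 24, some 42), (71, 69, some 42), (657, 655, some 42), (186, 179, some 42), (209, 536, some 42), (195, 42, some 42), (768, 374, some 42), (134, 132, some 42), (102, 453, some 42), (82, 359, some 42), (679, 1039, some 10), (847, 1039, some 11), (1394, 1039, some 12), (1112, 1039, some 42), (1021, 1052, some 10), (1198, 1052, some 11), (1054, 1052, some 42), (450, 344, some 10), (969, 344, some 13), (294, 344, some 42), (1377, 726, some 11), (491, 726, some 13), (1165, 726, some 42), (757, 1215,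 some 10), (684, 1215, some 42), (1070, 1147, some 42), (1095, 1146, some 11), (429, 1146, some 12), (1209, 1146, some 42), (838, 994, some 12), (1255, 994, some 13), (921, 994, some 42), (449, 296, some 10), (207, 296, some 11), (293, 296, some 42), (1223, 1029, some 42), (1258, 955, some 10), (1301, 955, some 11), (1358, 955, some 42), (1395, 1315, some 10), (140, 1315, some 13), (1273, 1315, some 42), (472, 155, some 11), (152, 155, some 42), (862, 1042, some 10), (952, 1042, some 12), (1143, 1042, some 13), (1390, 1042, some 42), (1330, 1285, some 42), (311, 420, some 10), (250, 420, some 42), (1218, 892, some 10), (612, 892, some 13), (275, 892, some 42), (337, 643, some 11), (580, 643, some 13), (621, 643, some 42), (624, 292, some 10), (579, 292, some 11), (290, 292, some 42), (481, 737, some 10), (740, 737, some 12), (668, 737, some 42), (739, 786, some 11), (588, 786, some 12), (788, 786, some 42), (640, 854, some 12), (1075, 854, some 42), (899, 1153, some 10), (578, 1153, some 11), (960, 1153, some 42), (776, 723, some 12), (753, 723, some 13), (718, 723, some 42), (843, 834, some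 10), (561, 834, some 11), (1116, 834, some 42), (1170, 633, some 10), (196, 633, some 42), (1016, 550, some 11), (1013, 550, some 13), (381, 550, some 42), (641, 1216, some 10), (1396, 1216, some 12), (1323, 1216, some 13), (1024, 1216, some 42), (1022, 898, some 11), (1334, 898, some 42), (1010, 457, some 12), (988, 457, some 13), (455, 457, some 42), (355, 1290, some 12), (480, 1290, some 13), (1292, 1290, some 42), (736, 435, some 11), (635, 435, some 12), (251, 435, some 42), (642, 1183, some 11), (554, 1183, some 42), (1302, 1348, some 12), (1286, 1348, some 42), (1303, 1261, some 10), (1257, 1261, some 42), (161, 202, some 10), (76, 202, some 11), (1349, 202, some 12), (489, 202, some 42), (217, 136, some 10), (96, 136, some 11), (338, 136, some 42), (232, 73, some 11), (334, 73, some 42), (802, 721, some 42), (163, 112, some 11), (259, 112, some 42), (986, 1106, some 10), (1130, 1106, some 13), (1174, 1106, some 42), (149, 111, some 11), (114, 111, some 42), (720, 1191, some 11), (1129, 1191, some 42), (1193, 1328, some 10), (1251, 1328, some 12), (1400, 1328, some 42), (233, 80, some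 11), (332, 80, some 42), (1125, 860, some 10), (172, 860, some 12), (404, 860, some 13), (1365, 860, some 42), (883, 1134, some 12), (727, 1134, some 13), (1132, 1134, some 42), (1236, 1044, some 10), (915, 1044, some 12), (509, 1044, some 13), (1047, 1044, some 42), (629, 1310, some 12), (388, 1310, some 13), (924, 1310, some 42), (930, 1006, some 12), (563, 1006, some 13), (1267, 1006, some 42), (1003, 878, some 11), (289, 878, some 12), (1307, 878, some 42), (1148, 1253, some 11), (645, 1253, some 42), (225, 329, some 10), (1149, 329, some 11), (742, 329, some 12), (886, 329, some 42), (1038, 1004, some 10), (567, 1004, some 42), (150, 1192, some 10), (1225, 1192, some 12), (1195, 1192, some 42), (208, 1211, some 12), (416, 1211, some 13), (1213, 1211, some 42), (762, 693, some 11), (410, 693, some 12), (691, 693, some 42), (1205, 1065, some 11), (819, 1065, some 42), (1177, 466, some 10), (743, 466, some 12), (754, 466, some 42), (593, 380, some 10), (832, 380, some 11), (850, 380, some 42), (236, 989, some 10), (1031, 989, some 13), (1381, 989, some 42), (67, 13, some 42), (1242, 1331,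 some 10), (532, 1331, some 11), (601, 1331, some 42), (11, 68, some 42), (26, 131, some 42), (661, 663, some 42), (185, 673, some 42), (1062, 1108, some 42), (30, 148, some 42), (46, 23, some 42), (47, 8, some 42), (991, 679, some 10), (419, 679, some 13), (237, 679, some 42), (443, 847, some 11), (1088, 847, some 13), (1178, 847, some 42), (1015, 1394, some 10), (1308, 1394, some 11), (1227, 1394, some 42), (893, 1021, some 10), (978, 1021, some 12), (526, 1021, some 42), (950, 1198, some 11), (1237, 1198, some 12), (1200, 1198, some 42), (1145, 450, some 10), (167, 450, some 12), (100, 450, some 42), (1175, 969, some 42), (738, 1377, some 12), (306, 1377, some 13), (1049, 1377, some 42), (494, 491, some 42), (1162, 757, some 13), (751, 757, some 42), (431, 1095, some 12), (814, 1095, some 42), (777, 429, some 10), (812, 429, some 42), (1370, 838, some 10), (240, 838, some 11), (1071, 838, some 42), (1293, 1255, some 42), (1141, 449, some 10), (253, 449, some 42), (780, 207, some 11), (1214, 207, some 12), (117, 207, some 42), (1304, 1258, some 10), (1256, 1258, some 42), (1017, 1301, some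 11), (1079, 1301, some 42), (330, 1395, some 10), (839, 1395, some 12), (1217, 1395, some 13), (795, 1395, some 42), (1291, 140, some 11), (137, 140, some 42), (444, 472, some 12), (255, 472, some 42), (906, 862, some 42), (1357, 952, some 42), (765, 1143, some 11), (1067, 1143, some 42), (1354, 311, some 10), (309, 311, some 42), (639, 1218, some 10), (644, 1218, some 12), (1340, 1218, some 13), (555, 1218, some 42), (1185, 612, some 10), (346, 612, some 11), (1299, 612, some 42), (414, 337, some 12), (352, 337, some 13), (335, 337, some 42), (945, 580, some 11), (572, 580, some 42), (771, 624, some 10), (1150, 624, some 13), (1259, 624, some 42), (835, 579, some 11), (437, 579, some 13), (1314, 579, some 42), (385, 481, some 10), (478, 481, some 42), (427, 740, some 11), (760, 740, some 42), (734, 739, some 42), (353, 588, some 10), (1326, 588, some 42), (513, 640, some 10), (1220, 640, some 11), (197, 640, some 42), (339, 899, some 10), (884, 899, some 42), (368, 578, some 11), (576, 578, some 42), (433, 776, some 11), (392, 776, some 12), (783, 776, some 42), (746, 753, some 42), (1040,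 843, some 10), (695, 843, some 12), (938, 843, some 42), (506, 561, some 11), (366, 561, some 42), (858, 1170, some 12), (1281, 1170, some 13), (1114, 1170, some 42), (1312, 1016, some 42), (951, 1013, some 10), (1245, 1013, some 42), (842, 641, some 12), (1023, 641, some 13), (527, 641, some 42), (840, 1396, some 12), (792, 1396, some 42), (979, 1323, some 10), (1386, 1323, some 11), (1407, 1323, some 42), (1053, 1022, some 11), (533, 1022, some 42), (943, 1010, some 10), (471, 1010, some 12), (321, 1010, some 42), (716, 988, some 10), (317, 988, some 42), (1235, 355, some 10), (894, 355, some 11), (940, 355, some 12), (680, 355, some 42), (1089, 480, some 10), (675, 480, some 42), (741, 736, some 13), (761, 736, some 42), (342, 635, some 10), (836, 635, some 11), (1313, 635, some 42), (889, 642, some 12), (1300, 642, some 42), (1094, 1302, some 42), (1011, 1303, some 12), (568, 1303, some 42), (1045, 161, some 10), (586, 161, some 42), (1309, 76, some 11), (890, 76, some 13), (299, 76, some 42), (1352, 1349, some 10), (773, 1349, some 42), (857, 217, some 10), (219, 217, some 42), (1180,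 96, some 11), (1082, 96, some 12), (99, 96, some 42), (725, 232, some 12), (305, 232, some 13), (234, 232, some 42), (439, 163, some 12), (638, 163, some 13), (348, 163, some 42), (235, 986, some 10), (833, 986, some 12), (1043, 986, some 13), (1380, 986, some 42), (1364, 1130, some 10), (1382, 1130, some 11), (1156, 1130, some 42), (438, 149, some 12), (584, 149, some 13), (308, 149, some 42), (1246, 720, some 13), (658, 720, some 42), (164, 1193, some 10), (1226, 1193, some 12), (1275, 1193, some 13), (1197, 1193, some 42), (1335, 1251, some 11), (961, 1251, some 42), (724, 233, some 12), (345, 233, some 13), (447, 233, some 42), (415, 1125, some 12), (139, 1125, some 13), (1356, 1125, some 42), (917, 172, some 11), (1278, 172, some 12), (652, 172, some 42), (1115, 404, some 42), (1000, 883, some 10), (1321, 883, some 12), (618, 883, some 42), (405, 727, some 10), (504, 727, some 42), (212, 1236, some 12), (927, 1236, some 13), (1385, 1236, some 42), (1091, 915, some 12), (922, 915, some 42), (401, 509, some 11), (511, 509, some 42), (918, 629, some 10), (1343, 629, some 12), (626, 629, some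 42), (1206, 388, some 10), (830, 388, some 42), (982, 930, some 10), (528, 930, some 11), (888, 930, some 12), (935, 930, some 42), (957, 563, some 10), (604, 563, some 11), (569, 563, some 42), (882, 1003, some 11), (1318, 1003, some 13), (1263, 1003, some 42), (267, 289, some 10), (1283, 289, some 11), (473, 289, some 42), (745, 1148, some 42), (794, 225, some 42), (1317, 1149, some 11), (1347, 1149, some 13), (822, 1149, some 42), (1166, 742, some 10), (558, 742, some 42), (798, 1038, some 42), (166, 150, some 12), (239, 150, some 13), (560, 150, some 42), (1176, 1225, some 11), (1078, 1225, some 42), (436, 208, some 10), (229, 208, some 11), (1086, 208, some 12), (747, 208, some 42), (1188, 416, some 10), (183, 416, some 11), (1139, 416, some 42), (1122, 762, some 42), (266, 410, some 10), (490, 410, some 42), (379, 1205, some 11), (781, 1205, some 12), (690, 1205, some 42), (1167, 1177, some 42), (557, 743, some 42), (596, 593, some 42), (820, 832, some 11), (1403, 832, some 12), (1119, 832, some 42), (613, 236, some 12), (243, 236, some 13), (502, 236, some 42), (977, 1031, some 11),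 (659, 1031, some 42), (520, 1242, some 42), (524, 532, some 42), (722, 991, some 10), (459, 991, some 12), (469, 991, some 13), (315, 991, some 42), (1032, 419, some 42), (505, 443, some 12), (216, 443, some 13), (446, 443, some 42), (1160, 1088, some 10), (482, 1088, some 11), (808, 1088, some 42), (1184, 1015, some 42), (1387, 1308, some 13), (1404, 1308, some 42), (636, 893, some 12), (972, 893, some 13), (1333, 893, some 42), (1325, 978, some 11), (1219, 978, some 42), (603, 950, some 42), (544, 1237, some 42), (362, 1145, some 12), (1064, 1145, some 42), (153, 167, some 42), (731, 738, some 42), (303, 306, some 42), (671, 1162, some 42), (425, 431, some 42), (719, 777, some 13), (1231, 777, some 42), (1138, 1370, some 10), (1194, 1370, some 42), (326, 240, some 11), (121, 240, some 42), (1373, 1141, some 10), (1069, 1141, some 42), (492, 780, some 13), (1164, 780, some 42), (752, 1214, some 10), (687, 1214, some 42), (1339, 1304, some 10), (564, 1304, some 42), (611, 1017, some 12), (1399, 1017, some 42), (479, 330, some 13), (327, 330, some 42), (841, 839, some 42), (1025, 1217, some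 42), (1344, 1291, some 11), (1319, 1291, some 42), (445, 444, some 10), (848, 444, some 42), (1142, 765, some 11), (1073, 765, some 42), (651, 1354, some 42), (1152, 639, some 12), (787, 639, some 13), (1324, 639, some 42), (772, 644, some 10), (1260, 644, some 42), (1338, 1340, some 42), (1007, 1185, some 10), (551, 1185, some 42), (304, 346, some 42), (249, 414, some 42), (328, 352, some 42), (297, 945, some 42), (417, 771, some 10), (774, 771, some 42), (552, 1150, some 42), (685, 835, some 42), (758, 437, some 10), (98, 437, some 42), (383, 385, some 42), (1090, 427, some 13), (424, 427, some 42), (623, 353, some 10), (336, 353, some 42), (549, 513, some 10), (175, 513, some 42), (418, 1220, some 11), (1120, 1220, some 42), (696, 339, some 42), (1035, 368, some 12), (361, 368, some 42), (813, 433, some 42), (735, 392, some 10), (384, 392, some 42), (625, 1040, some 10), (775, 1040, some 12), (1306, 1040, some 13), (1311, 1040, some 42), (1014, 695, some 11), (501, 695, some 42), (307, 506, some 12), (767, 506, some 13), (168, 506, some 42), (268, 858, some 42), (543, 1281, some 42), (1199,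 951, some 10), (607, 951, some 42), (939, 842, some 42), (1398, 1023, some 42), (1233, 840, some 42), (1151, 979, some 42), (1388, 1386, some 42), (1393, 1053, some 13), (1058, 1053, some 42), (300, 943, some 42), (732, 471, some 11), (468, 471, some 42), (714, 716, some 42), (548, 1235, some 42), (895, 894, some 42), (1186, 940, some 42), (811, 1089, some 42), (486, 741, some 11), (672, 741, some 42), (1020, 342, some 13), (291, 342, some 42), (688, 836, some 42), (280, 889, some 42), (1244, 1011, some 42), (1234, 1045, some 10), (914, 1045, some 12), (510, 1045, some 13), (1050, 1045, some 42), (646, 1309, some 12), (974, 1309, some 42), (946, 890, some 10), (1341, 890, some 42), (837, 1352, some 42), (1113, 857, some 10), (176, 857, some 12), (400, 857, some 13), (1362, 857, some 42), (728, 1180, some 13), (1133, 1180, some 42), (426, 1082, some 10), (1084, 1082, some 42), (215, 725, some 42), (965, 305, some 42), (844, 439, some 42), (582, 638, some 42), (614, 235, some 12), (244, 235, some 13), (238, 235, some 42), (389, 833, some 10), (1402, 833, some 12), (1127, 833, some 42), (654,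 1043, some 42), (759, 1364, some 42), (1210, 1382, some 11), (470, 1382, some 12), (825, 1382, some 42), (764, 438, some 10), (261, 438, some 12), (440, 438, some 42), (581, 584, some 42), (1295, 1246, some 42), (154, 164, some 12), (241, 164, some 13), (610, 164, some 42), (1353, 1226, some 12), (1093, 1226, some 42), (351, 1275, some 10), (1080, 1275, some 42), (1009, 1335, some 11), (1005, 1335, some 13), (1294, 1335, some 42), (260, 724, some 12), (499, 724, some 42), (1270, 345, some 10), (963, 345, some 42), (1155, 415, some 11), (1172, 415, some 12), (1136, 415, some 42), (944, 139, some 10), (956, 139, some 11), (575, 139, some 42), (919, 917, some 42), (288, 1278, some 11), (1041, 1278, some 42), (874, 1000, some 10), (1262, 1000, some 42), (1392, 1321, some 10), (744, 1321, some 42), (1048, 405, some 42), (1154, 212, some 10), (434, 212, some 11), (970, 212, some 12), (498, 212, some 42), (942, 927, some 11), (934, 927, some 42), (407, 1091, some 11), (1221, 1091, some 42), (1051, 401, some 42), (923, 918, some 42), (1320, 1343, some 10), (785, 1343, some 42), (1066, 1206, some 10),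 (698, 1206, some 42), (980, 982, some 42), (530, 528, some 42), (135, 888, some 11), (1027, 888, some 42), (159, 957, some 10), (879, 957, some 12), (932, 957, some 42), (606, 604, some 42), (1322, 882, some 12), (616, 882, some 42), (583, 1318, some 42), (356, 267, some 42), (1037, 1283, some 42), (875, 1317, some 13), (637, 1317, some 42), (1379, 1347, some 42), (1171, 1166, some 42), (199, 166, some 12), (620, 166, some 42), (188, 239, some 10), (483, 239, some 11), (828, 239, some 42), (1169, 1176, some 42), (211, 436, some 10), (846, 436, some 42), (818, 229, some 42), (853, 1086, some 42), (849, 1188, some 42), (689, 183, some 42), (357, 266, some 42), (1298, 379, some 13), (829, 379, some 42), (778, 781, some 42), (485, 820, some 12), (779, 820, some 42), (1187, 1403, some 42), (529, 613, some 10), (615, 613, some 42), (245, 243, some 42), (801, 977, some 42), (966, 722, some 13), (715, 722, some 42), (456, 459, some 42), (467, 469, some 42), (585, 505, some 10), (609, 505, some 11), (634, 505, some 12), (169, 505, some 42), (108, 216, some 42), (667, 1160, some 42), (676, 482, some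 42), (1182, 1387, some 42), (574, 636, some 42), (975, 972, some 42), (1406, 1325, some 42), (360, 362, some 42), (717, 719, some 42), (474, 1138, some 10), (1208, 1138, some 42), (324, 326, some 42), (1046, 1373, some 42), (493, 492, some 11), (855, 492, some 42), (750, 752, some 42), (1337, 1339, some 42), (534, 611, some 42), (477, 479, some 42), (1277, 1344, some 42), (1179, 445, some 42), (1207, 1142, some 42), (941, 1152, some 12), (958, 1152, some 42), (827, 787, some 42), (816, 772, some 42), (323, 1007, some 42), (94, 417, some 42), (748, 758, some 42), (817, 1090, some 42), (619, 623, some 42), (382, 549, some 42), (1033, 418, some 42), (1265, 1035, some 42), (733, 735, some 42), (390, 625, some 42), (1121, 775, some 42), (1405, 1306, some 42), (1109, 1014, some 42), (697, 307, some 42), (497, 767, some 42), (1202, 1199, some 42), (1389, 1393, some 42), (730, 732, some 42), (113, 486, some 42), (331, 1020, some 42), (926, 1234, some 13), (1384, 1234, some 42), (223, 914, some 11), (1076, 914, some 12), (916, 914, some 42), (515, 510, some 42), (1252, 646, some 11), (627, 646, some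 42), (948, 946, some 42), (412, 1113, some 12), (1222, 1113, some 42), (1280, 176, some 12), (649, 176, some 42), (592, 400, some 11), (1117, 400, some 42), (677, 728, some 11), (247, 728, some 42), (1159, 426, some 42), (157, 614, some 12), (617, 614, some 42), (1190, 244, some 11), (503, 244, some 42), (1229, 389, some 13), (475, 389, some 42), (1350, 1402, some 11), (1189, 1402, some 42), (205, 1210, some 12), (413, 1210, some 13), (1212, 1210, some 42), (755, 470, some 42), (1128, 764, some 42), (406, 261, some 10), (341, 261, some 11), (365, 261, some 42), (1019, 154, some 11), (198, 154, some 12), (622, 154, some 42), (826, 241, some 42), (1391, 1353, some 11), (1375, 1353, some 42), (1228, 351, some 12), (897, 351, some 42), (929, 1009, some 12), (562, 1009, some 13), (1264, 1009, some 42), (571, 1005, some 42), (340, 260, some 10), (409, 260, some 11), (367, 260, some 42), (1081, 1270, some 42), (851, 1155, some 42), (845, 1172, some 42), (954, 944, some 42), (936, 956, some 42), (423, 288, some 42), (1305, 874, some 42), (1161, 1392, some 42), (476, 1154, some 42), (442, 434, some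 42), (967, 970, some 42), (949, 942, some 42), (448, 407, some 42), (1378, 1320, some 42), (821, 1066, some 42), (556, 135, some 42), (1173, 159, some 13), (573, 159, some 42), (937, 879, some 42), (823, 1322, some 42), (933, 875, some 42), (495, 199, some 42), (686, 188, some 42), (487, 483, some 42), (1008, 211, some 12), (214, 211, some 42), (784, 1298, some 42), (852, 485, some 42), (535, 529, some 42), (1254, 966, some 42), (391, 585, some 42), (364, 609, some 42), (577, 634, some 42), (256, 474, some 42), (1074, 493, some 42), (1101, 941, some 42), (605, 926, some 10), (928, 926, some 42), (797, 223, some 42), (770, 1076, some 42), (628, 1252, some 42), (231, 412, some 10), (1137, 412, some 42), (1026, 1280, some 42), (594, 592, some 42), (699, 677, some 42), (891, 157, some 10), (553, 157, some 42), (451, 1190, some 42), (1284, 1229, some 10), (630, 1229, some 42), (1374, 1350, some 42), (1085, 205, some 12), (749, 205, some 42), (1140, 413, some 42), (408, 406, some 42), (681, 341, some 42), (981, 1019, some 42), (200, 198, some 42), (1168, 1391, some 13), (1163, 1391, some 42), (631,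 1228, some 42), (931, 929, some 42), (565, 562, some 42), (683, 340, some 42), (411, 409, some 42), (441, 1173, some 42), (968, 1008, some 42), (608, 605, some 42), (815, 231, some 42), (1028, 891, some 42), (971, 1284, some 42), (488, 1085, some 42), (824, 1168, some 42)]

/-- The points of class 3. -/
def topCover3 : List (ℕ × ℕ × Option ℕ) :=
  [(4, 12, none), (2, 16, none), (7, 39, none), (14, 44, none), (3, 4, some 40), (0, 4, some 44), (110, 4, some 48), (5, 2, some 40), (1, 2, some 44), (151, 2, some 48), (28, 7, some 14), (61, 7, some 15), (591, 7, some 16), (145, 7, some 17), (54, 7, some 40), (22, 7, some 44), (1371, 7, some 48), (60, 7, some 49), (13, 14, some 14), (32, 14, some 15), (318, 14, some 16), (983, 14, some 17), (39, 14, some 40), (15, 14, some 44), (27, 14, some 48), (1002, 14, some 49), (9, 3, some 44), (120, 3, some 48), (257, 0, some 48), (101, 110, some 14), (421, 110, some 15), (908, 110, some 16), (900, 110, some 17), (6, 5, some 44), (79, 5, some 48), (165, 1, some 48), (142, 151, some 14), (559, 151, some 15), (711, 151, some 16), (703, 151, some 17), (20, 28,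 some 14), (68, 28, some 40), (29, 28, some 44), (1317, 28, some 48), (401, 28, some 49), (1102, 61, some 15), (869, 61, some 16), (710, 61, some 17), (131, 61, some 40), (62, 61, some 44), (1236, 61, some 48), (201, 61, some 49), (395, 591, some 14), (516, 591, some 15), (566, 591, some 16), (993, 591, some 40), (595, 591, some 44), (918, 591, some 48), (1003, 591, some 49), (126, 145, some 14), (282, 145, some 15), (322, 145, some 40), (147, 145, some 44), (267, 145, some 48), (1321, 145, some 49), (17, 54, some 44), (1110, 54, some 48), (24, 54, some 49), (1372, 22, some 48), (58, 22, some 49), (1108, 1371, some 14), (148, 1371, some 15), (1056, 1371, some 16), (702, 1371, some 17), (704, 1371, some 48), (56, 60, some 14), (116, 60, some 15), (462, 60, some 16), (1104, 60, some 17), (464, 60, some 49), (48, 13, some 14), (31, 13, some 40), (11, 13, some 44), (455, 13, some 48), (1231, 13, some 49), (907, 32, some 15), (1063, 32, some 16), (517, 32, some 17), (64, 32, some 40), (26, 32, some 44), (109, 32, some 48), (1070, 32, some 49), (270, 318, some 14), (537, 318, some 15), (393, 318,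 some 16), (602, 318, some 40), (319, 318, some 44), (811, 318, some 48), (1012, 318, some 49), (190, 983, some 14), (864, 983, some 15), (1269, 983, some 40), (984, 983, some 44), (1033, 983, some 48), (175, 983, some 49), (37, 39, some 44), (12, 39, some 48), (598, 39, some 49), (33, 15, some 48), (999, 15, some 49), (47, 27, some 14), (90, 27, some 15), (800, 27, some 16), (230, 27, some 17), (1097, 27, some 48), (876, 1002, some 14), (881, 1002, some 15), (912, 1002, some 16), (522, 1002, some 17), (806, 1002, some 49), (51, 9, some 48), (118, 120, some 14), (496, 120, some 15), (650, 120, some 16), (796, 120, some 17), (254, 257, some 14), (692, 257, some 15), (911, 257, some 16), (903, 257, some 17), (793, 101, some 48), (81, 421, some 48), (182, 421, some 49), (86, 908, some 16), (647, 908, some 48), (45, 900, some 48), (72, 6, some 48), (77, 79, some 14), (343, 79, some 15), (859, 79, some 16), (990, 79, some 17), (162, 165, some 14), (632, 165, some 15), (708, 165, some 16), (700, 165, some 17), (987, 142, some 48), (122, 559, some 48), (274, 559, some 49), (127, 711, some 16), (856,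 711, some 48), (66, 703, some 48), (119, 20, some 40), (55, 20, some 44), (1210, 20, some 48), (1224, 20, some 49), (67, 68, some 44), (973, 68, some 48), (723, 68, some 49), (1318, 29, some 48), (405, 29, some 49), (1149, 1317, some 14), (584, 1317, some 15), (1000, 1317, some 16), (875, 1317, some 17), (509, 401, some 14), (728, 401, some 15), (1177, 401, some 16), (1154, 401, some 17), (377, 1102, some 16), (16, 1102, some 17), (1368, 1102, some 40), (1098, 1102, some 44), (1206, 1102, some 48), (272, 869, some 14), (998, 869, some 15), (1242, 869, some 40), (868, 869, some 44), (707, 710, some 44), (1148, 710, some 48), (592, 710, some 49), (128, 131, some 44), (1351, 131, some 48), (246, 131, some 49), (1234, 62, some 48), (202, 62, some 49), (1310, 1236, some 14), (1044, 1236, some 15), (212, 1236, some 16), (927, 1236, some 17), (463, 1236, some 48), (141, 201, some 14), (65, 201, some 15), (1316, 201, some 16), (1059, 201, some 17), (453, 201, some 49), (227, 395, some 14), (394, 395, some 44), (743, 395, some 49), (398, 516, some 15), (996, 516, some 17), (865, 516, some 40), (512,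 516, some 44), (1298, 516, some 48), (1228, 516, some 49), (312, 566, some 14), (269, 566, some 15), (301, 566, some 40), (570, 566, some 44), (410, 566, some 48), (1006, 566, some 49), (985, 993, some 44), (1235, 993, some 48), (893, 993, some 49), (917, 595, some 48), (176, 918, some 14), (629, 918, some 15), (942, 918, some 16), (977, 918, some 17), (878, 1003, some 14), (882, 1003, some 15), (957, 1003, some 16), (283, 126, some 14), (872, 126, some 16), (278, 126, some 40), (129, 126, some 44), (1176, 126, some 48), (764, 126, some 49), (790, 282, some 15), (545, 282, some 40), (285, 282, some 44), (781, 282, some 48), (320, 322, some 44), (506, 322, some 48), (979, 322, some 49), (261, 147, some 48), (1322, 147, some 49), (407, 267, some 14), (289, 267, some 15), (638, 267, some 16), (439, 267, some 17), (1392, 1321, some 14), (1347, 1321, some 15), (727, 1321, some 16), (883, 1321, some 17), (1107, 17, some 48), (25, 17, some 49), (69, 1110, some 15), (655, 1110, some 16), (1099, 1110, some 48), (8, 24, some 14), (807, 24, some 49), (1111, 1372, some 14), (146, 1372, some 15), (1055,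 1372, some 16), (705, 1372, some 17), (701, 1372, some 48), (21, 58, some 14), (43, 58, some 15), (465, 58, some 16), (1100, 58, some 17), (461, 58, some 49), (532, 1108, some 17), (1152, 1108, some 48), (991, 1108, some 49), (1377, 148, some 48), (344, 148, some 49), (546, 1056, some 15), (782, 1056, some 16), (457, 1056, some 48), (777, 1056, some 49), (843, 702, some 49), (1331, 704, some 48), (1198, 56, some 49), (663, 116, some 17), (352, 116, some 48), (952, 116, some 49), (372, 462, some 14), (276, 462, some 16), (847, 462, some 49), (373, 464, some 14), (179, 464, some 17), (107, 48, some 40), (49, 48, some 44), (1287, 48, some 48), (95, 48, some 49), (35, 31, some 44), (797, 31, some 48), (1167, 31, some 49), (456, 11, some 48), (783, 11, some 49), (547, 455, some 14), (527, 455, some 15), (317, 455, some 16), (321, 455, some 17), (1233, 1231, some 14), (812, 1231, some 15), (717, 1231, some 16), (383, 1231, some 17), (40, 907, some 16), (180, 907, some 17), (1276, 907, some 40), (910, 907, some 44), (1105, 907, some 48), (901, 1063, some 15), (523, 1063, some 16), (1359, 1063, some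 40), (1062, 1063, some 44), (1333, 1063, some 48), (1178, 1063, some 49), (520, 517, some 44), (75, 64, some 44), (502, 64, some 48), (756, 64, some 49), (256, 26, some 48), (1067, 26, some 49), (325, 109, some 14), (1181, 109, some 15), (258, 109, some 16), (333, 109, some 17), (804, 109, some 48), (684, 1070, some 14), (1072, 1070, some 15), (920, 1070, some 16), (1223, 1070, some 17), (220, 1070, some 49), (540, 270, some 14), (518, 270, some 17), (271, 270, some 44), (938, 270, some 48), (168, 270, some 49), (454, 537, some 15), (597, 537, some 17), (905, 537, some 40), (538, 537, some 44), (1184, 537, some 48), (589, 393, some 14), (507, 393, some 15), (184, 393, some 40), (386, 393, some 44), (1265, 393, some 48), (328, 393, some 49), (599, 602, some 44), (690, 602, some 48), (583, 602, some 49), (808, 319, some 48), (975, 319, some 49), (671, 811, some 14), (675, 811, some 15), (761, 811, some 16), (1179, 811, some 17), (1024, 1012, some 14), (682, 1012, some 15), (621, 1012, some 16), (1334, 1012, some 17), (104, 190, some 14), (402, 190, some 40), (193, 190, some 44), (718, 190, some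 49), (191, 864, some 15), (1238, 864, some 40), (863, 864, some 44), (315, 864, some 48), (1200, 864, some 49), (1272, 1269, some 44), (558, 1269, some 48), (357, 1269, some 49), (939, 984, some 48), (169, 984, some 49), (1120, 1033, some 14), (1254, 1033, some 15), (534, 1033, some 16), (607, 1033, some 17), (382, 175, some 14), (197, 175, some 15), (848, 175, some 16), (576, 175, some 17), (10, 37, some 48), (601, 37, some 49), (18, 12, some 14), (1366, 12, some 48), (1203, 598, some 49), (46, 33, some 14), (87, 33, some 15), (791, 33, some 16), (228, 33, some 17), (1096, 33, some 48), (870, 999, some 14), (880, 999, some 15), (909, 999, some 16), (519, 999, some 17), (805, 999, some 49), (71, 47, some 14), (779, 47, some 48), (919, 47, some 49), (1060, 90, some 16), (1356, 90, some 48), (354, 90, some 49), (657, 800, some 15), (209, 800, some 16), (1048, 800, some 48), (186, 230, some 14), (785, 230, some 49), (1271, 1097, some 48), (1122, 876, some 49), (1213, 881, some 48), (1077, 881, some 49), (877, 912, some 16), (1081, 912, some 48), (596, 912, some 49), (630, 522, some 48), (365,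 522, some 49), (662, 806, some 14), (85, 806, some 16), (203, 51, some 15), (38, 496, some 48), (89, 496, some 49), (187, 650, some 16), (83, 692, some 48), (36, 182, some 49), (295, 72, some 15), (59, 343, some 48), (130, 343, some 49), (279, 859, some 16), (124, 632, some 48), (57, 274, some 49), (50, 119, some 44), (1095, 119, some 48), (729, 119, some 49), (1211, 55, some 48), (1135, 55, some 49), (1382, 1210, some 14), (426, 1210, some 15), (205, 1210, some 16), (413, 1210, some 17), (1106, 1224, some 14), (111, 1224, some 15), (1191, 1224, some 16), (713, 1224, some 17), (972, 67, some 48), (719, 67, some 49), (1216, 973, some 14), (347, 973, some 15), (898, 973, some 16), (643, 973, some 17), (861, 723, some 14), (491, 723, some 15), (776, 723, some 16), (753, 723, some 17), (1275, 1318, some 14), (879, 1318, some 17), (510, 405, some 14), (1155, 405, some 17), (329, 1149, some 14), (1192, 1149, some 16), (1029, 1149, some 48), (862, 1149, some 49), (915, 584, some 15), (149, 584, some 16), (431, 584, some 48), (636, 584, some 49), (874, 1000, some 14), (956, 1000, some 16), (226, 1000,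 some 49), (614, 875, some 14), (166, 875, some 15), (1387, 875, some 48), (1315, 875, some 49), (438, 509, some 14), (1091, 509, some 17), (1289, 509, some 49), (677, 728, some 15), (1180, 728, some 16), (1218, 728, some 48), (786, 728, some 49), (1226, 1177, some 14), (466, 1177, some 15), (183, 1177, some 16), (656, 1177, some 48), (412, 1154, some 14), (633, 1154, some 48), (1258, 1154, some 49), (673, 377, some 40), (376, 377, some 44), (1247, 377, some 49), (53, 16, some 44), (150, 16, some 48), (1248, 16, some 49), (1369, 1368, some 44), (1089, 1368, some 48), (1205, 1098, some 48), (1066, 1206, some 14), (388, 1206, some 15), (820, 1206, some 16), (434, 1206, some 17), (277, 272, some 44), (235, 272, some 48), (1364, 272, some 49), (997, 998, some 44), (1243, 1242, some 44), (1270, 707, some 48), (593, 707, some 49), (1253, 1148, some 14), (305, 1148, some 15), (762, 1148, some 16), (982, 1148, some 17), (400, 592, some 14), (389, 592, some 15), (223, 592, some 16), (231, 592, some 17), (1344, 128, some 48), (420, 128, some 49), (1290, 1351, some 14), (1355, 1351, some 15), (435, 1351,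 some 16), (1183, 1351, some 17), (349, 246, some 14), (160, 246, some 15), (1036, 246, some 16), (1288, 246, some 17), (221, 246, some 49), (1309, 1234, some 14), (1045, 1234, some 15), (211, 1234, some 16), (926, 1234, some 17), (460, 1234, some 48), (161, 202, some 14), (76, 202, some 15), (1349, 202, some 16), (1057, 202, some 17), (452, 202, some 49), (443, 1310, some 48), (1185, 1310, some 49), (167, 1044, some 48), (772, 1044, some 49), (970, 212, some 16), (1007, 212, some 48), (950, 212, some 49), (604, 927, some 14), (1291, 927, some 48), (42, 463, some 14), (1403, 463, some 48), (471, 141, some 48), (429, 141, some 49), (1329, 65, some 16), (887, 65, some 17), (292, 65, some 48), (757, 65, some 49), (1345, 1316, some 14), (158, 1316, some 16), (1162, 1316, some 48), (894, 1316, some 49), (721, 1059, some 14), (716, 1059, some 48), (1160, 1059, some 49), (536, 453, some 15), (1229, 394, some 49), (1283, 743, some 14), (380, 743, some 16), (374, 398, some 16), (709, 398, some 40), (397, 398, some 44), (225, 398, some 49), (132, 996, some 14), (885, 996, some 40), (995, 996, some 44),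 (1278, 996, some 48), (867, 865, some 44), (1015, 865, some 48), (418, 865, some 49), (1343, 512, some 48), (742, 512, some 49), (1350, 1298, some 14), (1402, 1298, some 15), (379, 1298, some 16), (646, 1298, some 17), (1168, 1228, some 14), (1280, 1228, some 15), (1005, 1228, some 16), (351, 1228, some 17), (143, 312, some 40), (316, 312, some 44), (359, 269, some 17), (123, 269, some 40), (265, 269, some 44), (341, 269, some 49), (298, 301, some 44), (609, 301, some 48), (1340, 301, some 49), (409, 570, some 48), (1009, 570, some 49), (266, 410, some 14), (1166, 410, some 15), (1065, 410, some 16), (693, 410, some 17), (1336, 1006, some 14), (947, 1006, some 15), (930, 1006, some 16), (563, 1006, some 17), (1237, 985, some 48), (362, 1235, some 14), (355, 1235, some 15), (642, 1235, some 16), (1199, 1235, some 17), (1011, 893, some 14), (1021, 893, some 15), (172, 917, some 14), (944, 917, some 16), (1038, 917, some 17), (857, 176, some 17), (854, 176, some 48), (1279, 176, some 49), (1376, 629, some 48), (350, 629, some 49), (159, 942, some 15), (529, 942, some 16), (679, 942, some 48),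 (427, 942, some 49), (1031, 977, some 14), (23, 977, some 48), (370, 977, some 49), (1004, 878, some 14), (840, 878, some 48), (1039, 878, some 49), (1043, 882, some 15), (1215, 882, some 48), (726, 882, some 49), (732, 957, some 49), (286, 283, some 44), (260, 283, some 48), (964, 872, some 40), (871, 872, some 44), (273, 278, some 44), (1034, 278, some 49), (1225, 1176, some 14), (470, 1176, some 15), (188, 1176, some 16), (1190, 764, some 16), (789, 790, some 44), (539, 545, some 44), (833, 781, some 14), (725, 781, some 15), (483, 781, some 16), (514, 320, some 48), (978, 320, some 49), (561, 506, some 14), (625, 506, some 15), (307, 506, some 16), (767, 506, some 17), (1386, 979, some 14), (1323, 979, some 15), (492, 979, some 16), (1022, 979, some 17), (406, 261, some 14), (1391, 1322, some 14), (1353, 1322, some 15), (758, 407, some 49), (914, 638, some 15), (163, 638, some 16), (580, 638, some 49), (472, 439, some 49), (1320, 1392, some 16), (479, 1392, some 48), (623, 1392, some 49), (358, 1347, some 48), (371, 1347, some 49), (1134, 727, some 16), (1150, 727, some 48), (787, 727,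 some 49), (1214, 883, some 48), (780, 883, some 49), (70, 1107, some 15), (1103, 1107, some 48), (810, 25, some 49), (1113, 69, some 48), (136, 69, some 49), (525, 1111, some 17), (1153, 1111, some 48), (988, 1111, some 49), (1373, 146, some 48), (296, 146, some 49), (542, 1055, some 15), (809, 1055, some 16), (459, 1055, some 48), (419, 705, some 49), (1332, 701, some 48), (669, 43, some 17), (330, 43, some 48), (955, 43, some 49), (375, 465, some 14), (281, 465, some 16), (445, 465, some 49), (178, 461, some 17), (422, 532, some 48), (1147, 532, some 49), (634, 1152, some 15), (941, 1152, some 16), (639, 1152, some 17), (722, 991, some 14), (469, 991, some 17), (1145, 1377, some 15), (738, 1377, some 16), (306, 1377, some 17), (666, 1377, some 48), (450, 344, some 14), (210, 344, some 15), (1282, 344, some 16), (969, 344, some 17), (170, 344, some 49), (513, 546, some 48), (248, 782, some 14), (1393, 782, some 48), (641, 457, some 15), (1010, 457, some 16), (385, 777, some 16), (1040, 843, some 14), (834, 843, some 15), (695, 843, some 16), (433, 843, some 17), (1052, 1198, some 14), (892,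 1198, some 17), (216, 352, some 14), (1396, 352, some 15), (337, 352, some 16), (481, 352, some 17), (1261, 952, some 14), (1302, 952, some 15), (1042, 952, some 17), (1170, 276, some 48), (737, 847, some 16), (1088, 847, some 17), (105, 107, some 44), (1384, 107, some 48), (489, 107, some 49), (1277, 49, some 48), (250, 49, some 49), (1292, 1287, some 14), (648, 1287, some 15), (554, 1287, some 16), (251, 1287, some 17), (310, 95, some 14), (138, 95, some 15), (1241, 95, some 16), (1361, 95, some 17), (794, 35, some 48), (1169, 35, some 49), (916, 797, some 14), (897, 797, some 15), (594, 797, some 16), (608, 797, some 17), (1093, 1167, some 14), (754, 1167, some 15), (1051, 1167, some 16), (689, 1167, some 17), (543, 456, some 14), (323, 456, some 17), (841, 783, some 14), (813, 783, some 15), (384, 783, some 17), (1116, 547, some 17), (802, 547, some 48), (1118, 547, some 49), (1398, 527, some 16), (928, 527, some 48), (851, 527, some 49), (714, 317, some 14), (501, 317, some 15), (468, 317, some 16), (541, 317, some 48), (300, 321, some 14), (824, 321, some 48), (219, 321, some 49), (792,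 1233, some 16), (1407, 1233, some 17), (1129, 1233, some 48), (837, 1233, some 49), (1209, 812, some 16), (1032, 812, some 17), (575, 812, some 48), (535, 812, some 49), (268, 717, some 14), (855, 717, some 15), (748, 717, some 16), (458, 717, some 49), (734, 383, some 14), (478, 383, some 15), (448, 383, some 48), (1342, 383, some 49), (41, 40, some 44), (1049, 40, some 48), (294, 40, some 49), (387, 180, some 40), (185, 180, some 44), (1357, 180, some 49), (1274, 1276, some 44), (1101, 910, some 48), (1075, 1105, some 14), (213, 1105, some 15), (960, 1105, some 16), (788, 1105, some 17), (34, 901, some 15), (369, 901, some 17), (904, 901, some 44), (524, 523, some 44), (814, 523, some 48), (1068, 523, some 49), (1360, 1359, some 44), (1262, 1359, some 48), (1244, 1333, some 14), (526, 1333, some 15), (574, 1333, some 17), (1112, 1178, some 14), (446, 1178, some 15), (668, 1178, some 17), (238, 75, some 48), (759, 75, some 49), (348, 502, some 14), (1381, 502, some 15), (245, 502, some 16), (615, 502, some 17), (678, 502, some 48), (1087, 756, some 14), (1157, 756, some 15), (653, 756, some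 16), (1232, 756, some 17), (102, 756, some 49), (324, 256, some 14), (1208, 256, some 15), (113, 256, some 16), (331, 256, some 17), (803, 256, some 48), (687, 1067, some 14), (1073, 1067, some 15), (906, 1067, some 16), (1390, 1067, some 17), (224, 1067, some 49), (52, 325, some 14), (963, 325, some 48), (617, 325, some 49), (1196, 1181, some 15), (1054, 1181, some 16), (332, 1181, some 48), (441, 1181, some 49), (290, 258, some 16), (530, 258, some 48), (618, 258, some 49), (275, 333, some 14), (308, 333, some 48), (1374, 333, some 49), (91, 804, some 14), (1114, 804, some 48), (751, 684, some 14), (44, 684, some 16), (949, 684, some 48), (582, 684, some 49), (1028, 1072, some 48), (1050, 1072, some 49), (1327, 920, some 14), (1358, 920, some 16), (1119, 920, some 48), (652, 920, some 49), (1175, 1223, some 15), (1078, 1223, some 48), (1127, 1223, some 49), (428, 220, some 15), (958, 540, some 48), (177, 518, some 14), (74, 518, some 15), (521, 518, some 44), (1389, 518, some 48), (174, 271, some 49), (1311, 938, some 14), (366, 168, some 14), (390, 168, some 15), (497, 168, some 16), (697,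 168, some 17), (1001, 597, some 40), (600, 597, some 44), (1406, 597, some 48), (902, 905, some 44), (1186, 538, some 48), (1404, 1184, some 14), (1227, 1184, some 15), (696, 1184, some 16), (676, 1184, some 17), (314, 589, some 40), (590, 589, some 44), (665, 507, some 15), (263, 507, some 40), (508, 507, some 44), (189, 184, some 44), (1026, 184, some 48), (610, 184, some 49), (327, 386, some 49), (391, 1265, some 15), (361, 1265, some 16), (108, 328, some 14), (335, 328, some 17), (698, 599, some 48), (637, 599, some 49), (819, 690, some 14), (829, 690, some 15), (846, 690, some 16), (778, 690, some 17), (1080, 583, some 14), (937, 583, some 16), (1263, 583, some 17), (667, 808, some 14), (760, 808, some 16), (1025, 975, some 14), (619, 975, some 16), (659, 671, some 48), (1341, 675, some 48), (974, 675, some 49), (425, 761, some 15), (672, 761, some 16), (499, 761, some 48), (934, 761, some 49), (1109, 1179, some 14), (19, 1179, some 49), (628, 1024, some 49), (1132, 682, some 49), (572, 621, some 16), (844, 621, some 48), (828, 621, some 49), (1245, 1334, some 14), (533, 1334, some 15),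 (661, 1334, some 48), (106, 104, some 44), (396, 402, some 44), (264, 718, some 14), (494, 718, some 15), (746, 718, some 16), (403, 191, some 40), (194, 191, some 44), (1151, 191, some 49), (1239, 1238, some 44), (801, 1238, some 49), (1202, 863, some 49), (715, 315, some 14), (237, 315, some 15), (467, 315, some 16), (603, 1200, some 15), (544, 1200, some 17), (631, 1272, some 48), (367, 1272, some 49), (1171, 558, some 14), (1041, 558, some 15), (886, 558, some 16), (567, 558, some 17), (423, 357, some 14), (490, 357, some 15), (215, 357, some 16), (965, 357, some 17), (1121, 939, some 14), (364, 169, some 15), (577, 169, some 17), (1312, 1120, some 16), (1182, 1120, some 17), (620, 1120, some 48), (606, 1120, some 49), (360, 1254, some 16), (92, 1254, some 48), (1399, 534, some 16), (476, 534, some 49), (825, 607, some 49), (1137, 382, some 48), (173, 197, some 48), (664, 197, some 49), (255, 848, some 16), (569, 848, some 48), (442, 848, some 49), (1174, 576, some 48), (1367, 10, some 48), (1204, 601, some 49), (548, 18, some 49), (78, 46, some 14), (923, 46, some 49), (1061, 87, some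 16), (1222, 87, some 48), (338, 87, some 49), (660, 791, some 15), (206, 791, some 16), (181, 228, some 14), (784, 228, some 49), (1268, 1096, some 48), (1128, 870, some 49), (1212, 880, some 48), (1092, 880, some 49), (873, 909, some 16), (745, 909, some 48), (557, 519, some 48), (356, 519, some 49), (88, 805, some 16), (1264, 71, some 48), (1030, 71, some 49), (852, 779, some 17), (627, 919, some 15), (798, 919, some 16), (954, 919, some 17), (1365, 1356, some 15), (1136, 1356, some 17), (500, 354, some 14), (252, 354, some 15), (1230, 354, some 16), (1126, 354, some 17), (823, 657, some 48), (82, 209, some 15), (473, 209, some 48), (515, 1048, some 14), (504, 1048, some 15), (768, 186, some 16), (1378, 785, some 14), (1187, 785, some 15), (626, 785, some 16), (830, 785, some 17), (691, 1122, some 14), (849, 1122, some 17), (831, 1213, some 14), (1158, 1213, some 15), (1139, 1213, some 16), (747, 1213, some 17), (1397, 1077, some 14), (259, 1077, some 15), (1123, 1077, some 17), (134, 1077, some 49), (1189, 877, some 48), (981, 1081, some 16), (1115, 596, some 14), (850, 596, some 15), (818,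 596, some 16), (971, 630, some 14), (770, 630, some 15), (755, 630, some 16), (475, 630, some 17), (408, 365, some 14), (681, 365, some 15), (440, 365, some 16), (581, 365, some 17), (1090, 50, some 48), (838, 50, some 49), (1146, 1095, some 14), (739, 1095, some 17), (242, 729, some 15), (992, 729, some 17), (1383, 1211, some 14), (430, 1211, some 15), (208, 1211, some 16), (416, 1211, some 17), (1124, 1135, some 14), (112, 1135, some 15), (1201, 1135, some 16), (1130, 1382, some 14), (945, 1382, some 49), (1082, 426, some 15), (836, 426, some 49), (1085, 205, some 16), (612, 205, some 48), (326, 413, some 48), (1306, 413, some 49), (986, 1106, some 14), (96, 1106, some 16), (588, 1106, some 48), (635, 111, some 48), (720, 1191, some 15), (1249, 1191, some 16), (899, 713, some 48), (1217, 972, some 14), (858, 719, some 14), (1352, 1216, some 48), (706, 1216, some 49), (1013, 898, some 14), (1018, 643, some 14), (1328, 643, some 49), (769, 861, some 14), (839, 776, some 14), (392, 776, some 16), (890, 753, some 49), (1193, 1275, some 16), (866, 1275, some 49), (613, 879, some 14), (154, 879,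 some 15), (1348, 879, some 49), (1076, 510, some 17), (1285, 510, some 49), (415, 1155, some 14), (579, 1192, some 49), (1143, 862, some 16), (735, 149, some 49), (736, 431, some 14), (835, 431, some 16), (943, 636, some 15), (946, 874, some 17), (1014, 874, some 49), (139, 956, some 14), (562, 956, some 15), (531, 226, some 16), (528, 614, some 14), (157, 614, some 16), (741, 614, some 48), (199, 166, some 16), (480, 166, some 49), (1325, 1387, some 14), (1308, 1387, some 16), (1220, 1387, some 17), (239, 1387, some 48), (1395, 1315, some 14), (1266, 1315, some 15), (1301, 1315, some 16), (140, 1315, some 17), (133, 1091, some 48), (346, 1180, some 49), (644, 1218, some 16), (1188, 1218, some 48), (484, 786, some 14), (929, 786, some 49), (1281, 1226, some 48), (311, 466, some 48), (1017, 466, some 49), (241, 183, some 15), (951, 183, some 48), (1173, 412, some 16), (1304, 1258, some 14), (724, 1258, some 49), (674, 673, some 44), (1255, 673, some 49), (73, 1247, some 15), (164, 53, some 48), (1246, 53, some 49), (232, 150, some 14), (1250, 1248, some 15), (436, 1205, some 17), (832, 820,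 some 14), (485, 820, some 16), (775, 434, some 48), (449, 434, some 49), (236, 277, some 48), (1363, 277, some 49), (244, 235, some 17), (1252, 1270, some 14), (345, 1270, some 15), (1019, 1270, some 17), (404, 593, some 14), (229, 593, some 17), (994, 1253, some 49), (1370, 982, some 49), (605, 223, some 16), (1016, 231, some 48), (1354, 1344, some 15), (437, 1344, some 16), (222, 420, some 49), (1172, 1355, some 49), (444, 1309, some 48), (155, 1045, some 48), (771, 1045, some 49), (1008, 211, some 16), (115, 460, some 14), (342, 76, some 48), (752, 76, some 49), (505, 443, some 16), (888, 167, some 48), (414, 772, some 14), (97, 772, some 49), (135, 970, some 14), (1086, 970, some 15), (1023, 950, some 16), (842, 950, some 17), (339, 1291, some 16), (482, 1291, some 17), (624, 292, some 14), (860, 292, some 48), (1053, 1345, some 48), (218, 158, some 14), (640, 1162, some 17), (1303, 894, some 16), (1141, 716, some 16), (1035, 716, some 17), (1284, 1229, some 14), (486, 1283, some 48), (712, 709, some 44), (287, 132, some 40), (896, 885, some 44), (288, 1278, some 15), (940, 867, some 48),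 (1394, 1015, some 15), (966, 418, some 15), (611, 418, some 17), (353, 379, some 48), (740, 1168, some 49), (340, 1280, some 15), (1335, 1005, some 16), (1142, 351, some 49), (144, 143, some 44), (125, 123, some 44), (550, 123, some 49), (1339, 298, some 49), (493, 609, some 17), (368, 693, some 49), (763, 947, some 48), (417, 947, some 49), (889, 642, some 16), (217, 857, some 15), (1144, 1376, some 14), (585, 159, some 49), (549, 529, some 48), (989, 1031, some 16), (962, 964, some 44), (1020, 483, some 49), (233, 767, some 49), (171, 1323, some 48), (670, 1323, some 49), (1083, 1022, some 48), (578, 472, some 17), (1125, 371, some 49), (765, 1214, some 16), (207, 1214, some 17), (474, 525, some 48), (93, 809, some 14), (243, 1040, some 48), (284, 834, some 48), (1385, 105, some 48), (204, 105, some 49), (214, 1384, some 17), (586, 489, some 14), (299, 489, some 15), (773, 489, some 17), (1319, 1277, some 14), (651, 1277, some 15), (551, 1277, some 16), (98, 1277, some 17), (309, 250, some 14), (137, 250, some 15), (1240, 250, some 16), (680, 1292, some 17), (498, 1292, some 49), (495, 648,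 some 49), (1300, 554, some 15), (1313, 554, some 16), (924, 251, some 48), (932, 310, some 48), (1257, 138, some 16), (1286, 138, some 17), (968, 138, some 48), (1197, 138, some 49), (921, 1241, some 14), (293, 1241, some 16), (1305, 1241, some 49), (913, 1361, some 15), (1307, 1361, some 48), (699, 1361, some 49), (922, 794, some 14), (686, 1169, some 17), (1294, 897, some 16), (1117, 594, some 14), (815, 594, some 16), (565, 608, some 14), (253, 608, some 49), (1375, 1093, some 17), (1330, 1093, some 48), (303, 754, some 48), (511, 1051, some 14), (247, 1051, some 15), (826, 689, some 15), (196, 689, some 48), (1256, 689, some 49), (799, 543, some 48), (297, 323, some 14), (795, 841, some 16), (1207, 813, some 16), (573, 813, some 48), (733, 384, some 14), (477, 384, some 15), (925, 802, some 16), (1094, 1398, some 14), (1338, 1398, some 15), (749, 1398, some 49), (1069, 714, some 17), (654, 714, some 49), (587, 501, some 48), (1296, 501, some 49), (424, 468, some 14), (730, 468, some 15), (616, 468, some 48), (363, 541, some 14), (1260, 300, some 16), (411, 824, some 14), (1163, 824, some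 17), (1362, 219, some 14), (334, 219, some 16), (488, 792, some 49), (1388, 1407, some 15), (658, 1129, some 15), (1295, 837, some 17), (571, 1209, some 48), (936, 575, some 15), (845, 575, some 16), (931, 535, some 14), (645, 268, some 48), (1074, 855, some 15), (1164, 855, some 17), (1401, 855, some 48), (234, 855, some 49), (432, 458, some 16), (685, 734, some 16), (980, 734, some 48), (249, 478, some 16), (933, 478, some 48), (1221, 448, some 14), (953, 1342, some 14), (1297, 1342, some 15), (959, 1342, some 16), (302, 1342, some 17), (1046, 41, some 48), (1165, 1049, some 14), (1064, 1049, some 15), (731, 1049, some 17), (100, 294, some 14), (378, 387, some 44), (827, 1101, some 17), (884, 960, some 14), (1326, 960, some 16), (1161, 788, some 48), (30, 34, some 44), (1293, 34, some 49), (817, 524, some 48), (1071, 524, some 49), (568, 1244, some 16), (1219, 526, some 17), (1037, 574, some 48), (1380, 238, some 15), (503, 238, some 16), (694, 238, some 48), (1084, 759, some 14), (1156, 759, some 15), (103, 759, some 49), (153, 1381, some 48), (816, 1381, some 49), (556, 245, some 16), (280,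 245, some 48), (1405, 615, some 49), (195, 678, some 14), (1299, 1087, some 48), (121, 324, some 14), (1194, 1208, some 15), (1058, 1208, some 16), (291, 113, some 16), (750, 687, some 14), (117, 687, some 16), (1027, 1073, some 48), (1047, 1073, some 49), (649, 906, some 49), (853, 52, some 48), (447, 963, some 17), (553, 617, some 17), (487, 1196, some 48), (774, 332, some 48), (200, 441, some 14), (152, 441, some 49), (1259, 290, some 14), (1314, 290, some 15), (1159, 290, some 48), (961, 290, some 49), (935, 530, some 14), (744, 618, some 17), (555, 275, some 14), (114, 308, some 14), (948, 44, some 49), (564, 1028, some 48), (94, 1050, some 49), (1346, 1327, some 17), (1079, 1358, some 15), (1195, 1078, some 16), (1379, 1078, some 17), (381, 428, some 48), (895, 958, some 14), (1324, 958, some 16), (63, 74, some 44), (1133, 697, some 49), (976, 1001, some 44), (1140, 696, some 48), (313, 314, some 44), (262, 263, some 44), (560, 189, some 49), (683, 1026, some 15), (622, 610, some 17), (336, 327, some 17), (821, 698, some 14), (822, 637, some 14), (967, 934, some 16), (304, 572, some 14),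 (1400, 494, some 48), (399, 403, some 44), (192, 1041, some 48), (84, 490, some 48), (766, 490, some 49), (1337, 1399, some 15), (1267, 569, some 17), (99, 1174, some 17), (451, 1128, some 17), (156, 1092, some 49), (1273, 849, some 49), (240, 838, some 15), (1131, 1383, some 14), (1251, 836, some 49), (198, 1085, some 15), (80, 1249, some 15), (1138, 1014, some 17), (891, 562, some 17), (688, 1313, some 15), (552, 1163, some 48)]

/-- The points of class 4. -/
def topCover4 : List (ℕ × ℕ × Option ℕ) :=
  [(37, 6, none), (4, 14, none), (2, 19, none), (453, 38, none), (10, 40, none), (12, 42, none), (22, 43, none), (1, 49, none), (0, 52, none), (8, 60, none), (6, 63, none), (25, 76, none), (14, 77, none), (15, 79, none), (24, 81, none), (144, 87, none), (181, 37, some 18), (1249, 37, some 20), (1008, 37, some 21), (926, 37, some 22), (952, 37, some 46), (772, 37, some 47), (912, 37, some 50), (90, 37, some 51), (28, 4, some 46), (67, 4, some 50), (19, 2, some 46), (47, 2, some 50), (566, 453, some 18), (404, 453, some 46), (288, 453, some 47), (193, 10, some 18), (363, 10, some 20), (366, 10,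 some 46), (547, 10, some 47), (190, 12, some 18), (369, 12, some 20), (196, 12, some 46), (543, 12, some 47), (285, 22, some 18), (512, 22, some 20), (340, 22, some 46), (400, 22, some 47), (18, 1, some 46), (46, 1, some 50), (29, 0, some 46), (68, 0, some 50), (373, 8, some 18), (1102, 8, some 20), (869, 8, some 21), (1368, 8, some 46), (663, 8, some 47), (707, 8, some 50), (1098, 8, some 51), (662, 6, some 20), (517, 6, some 21), (1060, 6, some 46), (5, 6, some 50), (129, 25, some 18), (701, 25, some 20), (460, 25, some 21), (394, 25, some 22), (98, 25, some 46), (1333, 25, some 47), (1048, 25, some 50), (473, 25, some 51), (85, 14, some 18), (901, 14, some 20), (597, 14, some 21), (537, 14, some 22), (139, 14, some 46), (1206, 14, some 47), (1235, 14, some 50), (609, 14, some 51), (88, 15, some 18), (904, 15, some 20), (600, 15, some 21), (538, 15, some 22), (159, 15, some 46), (1205, 15, some 47), (1237, 15, some 50), (640, 15, some 51), (126, 24, some 18), (704, 24, some 20), (463, 24, some 21), (395, 24, some 22), (251, 24, some 46), (1334, 24, some 47), (1051, 24, some 50), (681, 24,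 some 51), (896, 144, some 18), (1067, 144, some 20), (1223, 144, some 21), (808, 144, some 22), (1077, 144, some 46), (441, 144, some 47), (666, 144, some 50), (546, 144, some 51), (82, 181, some 20), (436, 181, some 21), (1345, 181, some 22), (1354, 181, some 46), (580, 181, some 47), (134, 181, some 50), (195, 181, some 51), (154, 1249, some 18), (235, 1249, some 20), (75, 1249, some 22), (1401, 1249, some 46), (357, 1249, some 47), (562, 1249, some 50), (157, 1008, some 18), (1271, 1008, some 21), (387, 1008, some 22), (367, 1008, some 46), (1400, 1008, some 47), (1318, 1008, some 51), (1155, 926, some 18), (380, 926, some 20), (791, 926, some 21), (630, 926, some 46), (1084, 926, some 47), (957, 926, some 50), (629, 926, some 51), (1018, 952, some 18), (1090, 952, some 20), (824, 952, some 22), (192, 952, some 46), (1183, 952, some 50), (771, 952, some 51), (835, 772, some 18), (1161, 772, some 22), (955, 772, some 50), (1199, 772, some 51), (1366, 912, some 18), (65, 912, some 20), (1224, 912, some 21), (1029, 912, some 46), (355, 912, some 47), (1204, 912, some 50), (881, 90, some 18),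 (1403, 90, some 20), (466, 90, some 21), (636, 90, some 46), (1355, 90, some 47), (254, 28, some 50), (162, 19, some 50), (20, 566, some 20), (516, 566, some 21), (282, 566, some 22), (172, 566, some 46), (260, 404, some 18), (233, 404, some 22), (7, 404, some 46), (30, 193, some 21), (432, 193, some 22), (174, 193, some 46), (310, 193, some 47), (325, 363, some 46), (264, 366, some 22), (590, 366, some 46), (34, 190, some 21), (428, 190, some 22), (168, 190, some 46), (309, 190, some 47), (324, 369, some 46), (268, 196, some 22), (589, 196, some 46), (55, 285, some 21), (570, 285, some 22), (266, 285, some 46), (217, 285, some 47), (232, 512, some 46), (176, 340, some 22), (452, 340, some 46), (142, 18, some 50), (101, 29, some 50), (3, 373, some 20), (56, 373, some 46), (1108, 373, some 47), (710, 1102, some 22), (23, 1102, some 50), (370, 1102, some 51), (118, 869, some 46), (868, 869, some 50), (1242, 1368, some 18), (21, 1368, some 50), (669, 1368, some 51), (1369, 663, some 50), (1111, 663, some 51), (1063, 662, some 18), (13, 662, some 20), (66, 662, some 46), (661, 662, some 50), (31,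 517, some 46), (1276, 517, some 47), (1062, 517, some 50), (910, 517, some 51), (1359, 1060, some 18), (1061, 1060, some 50), (520, 5, some 21), (59, 129, some 20), (286, 129, some 21), (921, 129, some 46), (697, 129, some 47), (214, 129, some 50), (556, 129, some 51), (595, 701, some 18), (358, 701, some 20), (53, 701, some 22), (685, 701, some 46), (250, 701, some 47), (489, 701, some 50), (797, 701, some 51), (115, 460, some 18), (165, 460, some 21), (632, 460, some 22), (301, 460, some 46), (755, 460, some 50), (844, 460, some 51), (789, 394, some 18), (62, 394, some 20), (390, 394, some 46), (300, 394, some 47), (582, 394, some 50), (937, 394, some 51), (827, 98, some 18), (568, 98, some 20), (133, 98, some 46), (141, 98, some 50), (887, 98, some 51), (1330, 1333, some 18), (651, 1333, some 22), (742, 1333, some 50), (1229, 1333, some 51), (745, 1048, some 18), (475, 1048, some 21), (878, 1048, some 46), (833, 1048, some 47), (997, 1048, some 50), (569, 473, some 20), (1310, 473, some 46), (149, 473, some 47), (36, 85, some 20), (191, 85, some 21), (713, 85, some 46), (724, 85, some 47),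 (306, 85, some 50), (414, 85, some 51), (454, 901, some 18), (507, 901, some 20), (32, 901, some 22), (888, 901, some 46), (158, 901, some 47), (344, 901, some 50), (991, 901, some 51), (74, 597, some 18), (110, 597, some 21), (421, 597, some 22), (206, 597, some 46), (951, 597, some 50), (634, 597, some 51), (983, 537, some 18), (40, 537, some 20), (409, 537, some 46), (205, 537, some 47), (443, 537, some 50), (737, 537, some 51), (1019, 139, some 18), (426, 139, some 20), (91, 139, some 46), (253, 139, some 50), (687, 139, some 51), (1191, 1206, some 18), (860, 1206, some 22), (938, 1206, some 50), (1033, 1206, some 51), (941, 1235, some 18), (611, 1235, some 21), (667, 1235, some 46), (1025, 1235, some 47), (806, 1235, some 50), (427, 609, some 20), (1164, 609, some 46), (255, 609, some 47), (38, 88, some 20), (194, 88, some 21), (721, 88, some 46), (725, 88, some 47), (346, 88, some 50), (417, 88, some 51), (458, 904, some 18), (508, 904, some 20), (26, 904, some 22), (891, 904, some 46), (136, 904, some 47), (296, 904, some 50), (988, 904, some 51), (63, 600, some 18), (257, 600, some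 21), (692, 600, some 22), (209, 600, some 46), (950, 600, some 50), (578, 600, some 51), (984, 538, some 18), (41, 538, some 20), (410, 538, some 46), (208, 538, some 47), (444, 538, some 50), (741, 538, some 51), (982, 159, some 18), (430, 159, some 20), (92, 159, some 46), (100, 159, some 50), (684, 159, some 51), (1201, 1205, some 18), (857, 1205, some 22), (1032, 1205, some 50), (939, 1205, some 51), (1034, 1237, some 18), (641, 1237, some 21), (671, 1237, some 46), (1024, 1237, some 47), (805, 1237, some 50), (431, 640, some 20), (1165, 640, some 46), (108, 640, some 47), (57, 126, some 20), (283, 126, some 21), (913, 126, some 46), (682, 126, some 47), (498, 126, some 50), (553, 126, some 51), (591, 704, some 18), (359, 704, some 20), (16, 704, some 22), (688, 704, some 46), (95, 704, some 47), (204, 704, some 50), (794, 704, some 51), (42, 463, some 18), (151, 463, some 21), (559, 463, some 22), (298, 463, some 46), (754, 463, some 50), (440, 463, some 51), (790, 395, some 18), (61, 395, some 20), (381, 395, some 46), (297, 395, some 47), (581, 395, some 50), (933, 395, some 51), (788,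 251, some 18), (564, 251, some 20), (132, 251, some 46), (161, 251, some 50), (890, 251, some 51), (1327, 1334, some 18), (648, 1334, some 22), (1228, 1334, some 50), (743, 1334, some 51), (1081, 1051, some 18), (850, 1051, some 21), (874, 1051, some 46), (832, 1051, some 47), (998, 1051, some 50), (565, 681, some 20), (1309, 681, some 46), (163, 681, some 47), (993, 896, some 20), (1202, 896, some 21), (1406, 896, some 22), (596, 896, some 46), (1156, 896, some 47), (964, 896, some 50), (322, 896, some 51), (477, 1067, some 18), (576, 1067, some 20), (284, 1067, some 22), (843, 1067, some 46), (311, 1067, some 47), (1069, 1067, some 50), (544, 1223, some 18), (278, 1223, some 22), (861, 1223, some 46), (1040, 1223, some 47), (783, 1223, some 51), (1200, 808, some 18), (848, 808, some 20), (125, 808, some 21), (780, 808, some 46), (1017, 808, some 47), (746, 808, some 50), (675, 808, some 51), (245, 1077, some 18), (571, 1077, some 20), (1370, 1077, some 22), (1372, 1077, some 46), (1158, 1077, some 50), (1118, 1077, some 51), (200, 441, some 18), (899, 441, some 21), (979, 441, some 22), (829,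 441, some 50), (851, 441, some 51), (287, 666, some 18), (1357, 666, some 21), (1189, 666, some 46), (828, 666, some 47), (171, 666, some 50), (372, 546, some 18), (99, 546, some 46), (690, 546, some 47), (768, 82, some 18), (1000, 82, some 20), (999, 82, some 22), (1307, 82, some 46), (1374, 82, some 47), (638, 436, some 21), (1364, 436, some 22), (471, 436, some 46), (623, 436, some 47), (401, 436, some 50), (405, 1345, some 18), (102, 1345, some 20), (399, 1345, some 21), (649, 1345, some 46), (1246, 1345, some 50), (977, 1345, some 51), (765, 1354, some 18), (836, 1354, some 20), (234, 1354, some 22), (87, 1354, some 46), (1301, 1354, some 50), (353, 1354, some 51), (1344, 580, some 18), (1133, 580, some 21), (822, 580, some 22), (1393, 580, some 50), (457, 580, some 51), (1001, 134, some 18), (1347, 134, some 20), (183, 134, some 21), (105, 134, some 50), (877, 195, some 18), (728, 195, some 21), (470, 154, some 20), (184, 154, some 21), (230, 154, some 22), (1132, 154, some 46), (447, 154, some 47), (223, 154, some 50), (1402, 154, some 51), (188, 235, some 18), (307, 235, some 46), (480,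 235, some 47), (989, 235, some 50), (1349, 235, some 51), (1250, 75, some 20), (388, 75, some 21), (1282, 75, some 46), (1021, 75, some 47), (1238, 75, some 51), (972, 1401, some 20), (1266, 1401, some 22), (970, 1401, some 46), (1093, 1401, some 50), (423, 1401, some 51), (1078, 357, some 18), (943, 357, some 22), (1119, 357, some 50), (971, 357, some 51), (1085, 562, some 20), (522, 562, some 21), (1397, 562, some 46), (784, 562, some 47), (1131, 157, some 20), (947, 157, some 21), (229, 157, some 22), (866, 157, some 46), (767, 157, some 47), (1154, 157, some 51), (800, 1271, some 18), (973, 1271, some 46), (945, 1271, some 47), (189, 1271, some 50), (1272, 1271, some 51), (107, 387, some 18), (880, 387, some 20), (1304, 387, some 46), (612, 387, some 47), (599, 387, some 50), (1247, 367, some 46), (1127, 367, some 50), (1037, 367, some 51), (482, 1400, some 21), (1255, 1400, some 22), (683, 1400, some 51), (720, 1318, some 18), (929, 1318, some 20), (228, 1318, some 21), (785, 1318, some 46), (1174, 1318, some 47), (1269, 1155, some 20), (1086, 1155, some 21), (243, 1155, some 22), (135,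 1155, some 50), (1177, 380, some 20), (1095, 380, some 47), (97, 380, some 51), (1268, 791, some 18), (678, 791, some 21), (744, 791, some 46), (1341, 791, some 47), (1302, 630, some 22), (1038, 630, some 46), (819, 630, some 51), (777, 1084, some 21), (1394, 1084, some 22), (1080, 1084, some 50), (1236, 957, some 18), (289, 957, some 20), (1163, 957, some 46), (691, 957, some 47), (1172, 957, some 50), (882, 629, some 18), (1210, 629, some 20), (905, 629, some 21), (1171, 629, some 46), (652, 629, some 47), (628, 1018, some 22), (893, 1018, some 50), (1325, 1018, some 51), (787, 1090, some 18), (557, 1090, some 20), (769, 1090, some 22), (389, 1090, some 46), (727, 1090, some 47), (1396, 1090, some 50), (862, 1090, some 51), (140, 824, some 20), (492, 824, some 21), (646, 824, some 47), (873, 192, some 18), (1248, 192, some 22), (186, 192, some 50), (753, 1183, some 18), (342, 1183, some 20), (659, 1183, some 21), (1203, 1183, some 47), (1198, 1183, some 50), (39, 771, some 46), (207, 835, some 20), (736, 835, some 51), (1378, 1161, some 20), (1045, 1161, some 46), (956, 1161, some 47), (1020,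 955, some 18), (1185, 955, some 50), (969, 1199, some 18), (437, 1199, some 20), (239, 1366, some 21), (614, 1366, some 22), (579, 1366, some 46), (986, 65, some 18), (211, 65, some 20), (831, 65, some 46), (974, 65, some 47), (1057, 65, some 50), (930, 1224, some 18), (1138, 1224, some 47), (723, 1029, some 18), (1117, 1029, some 20), (337, 1029, some 50), (459, 355, some 50), (1239, 1204, some 18), (946, 881, some 20), (378, 881, some 21), (976, 881, some 22), (1342, 881, some 46), (823, 881, some 47), (519, 881, some 50), (166, 1403, some 50), (439, 466, some 18), (838, 466, some 47), (1234, 466, some 50), (1125, 466, some 51), (1351, 636, some 18), (469, 636, some 20), (763, 1355, some 18), (218, 20, some 46), (9, 3, some 50), (45, 118, some 50), (1243, 1242, some 50), (907, 1063, some 22), (11, 1063, some 50), (876, 13, some 47), (77, 66, some 50), (1274, 31, some 50), (1360, 31, some 51), (870, 1276, some 50), (35, 1276, some 51), (130, 59, some 18), (461, 59, some 20), (812, 59, some 46), (497, 59, some 47), (449, 59, some 50), (178, 286, some 18), (70, 286, some 21), (371, 286, some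 22), (958, 286, some 46), (121, 286, some 47), (259, 286, some 50), (928, 286, some 51), (456, 921, some 18), (294, 921, some 22), (1283, 921, some 50), (1253, 921, some 51), (291, 697, some 21), (1350, 697, some 50), (509, 697, some 51), (849, 214, some 18), (488, 556, some 18), (700, 595, some 22), (221, 595, some 46), (54, 595, some 47), (686, 595, some 51), (531, 358, some 18), (277, 358, some 22), (935, 358, some 50), (397, 53, some 21), (467, 53, some 47), (953, 53, some 50), (1123, 53, some 51), (555, 685, some 22), (1043, 685, some 50), (407, 685, some 51), (551, 250, some 18), (1149, 250, some 50), (1168, 250, some 51), (1329, 489, some 46), (1322, 489, some 47), (1107, 489, some 50), (802, 797, some 18), (472, 797, some 20), (770, 797, some 21), (261, 797, some 46), (1106, 797, some 47), (147, 115, some 22), (334, 115, some 50), (708, 165, some 18), (265, 165, some 22), (513, 165, some 50), (376, 632, some 20), (814, 632, some 46), (256, 632, some 47), (368, 632, some 51), (856, 301, some 50), (295, 301, some 51), (122, 755, some 46), (72, 755, some 47), (338, 844, some 20), (585,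 844, some 21), (871, 789, some 21), (1263, 62, some 51), (717, 390, some 22), (995, 582, some 50), (502, 937, some 18), (119, 827, some 22), (1066, 827, some 50), (1392, 827, some 51), (153, 568, some 18), (656, 568, some 46), (1180, 568, some 50), (677, 568, some 51), (1336, 141, some 18), (1225, 141, some 21), (226, 1330, some 46), (545, 651, some 20), (915, 878, some 18), (987, 878, some 20), (1050, 569, some 22), (86, 36, some 18), (598, 36, some 20), (1004, 36, some 46), (345, 36, some 47), (586, 36, some 50), (270, 191, some 18), (48, 191, some 21), (518, 191, some 22), (764, 191, some 46), (80, 191, some 47), (167, 191, some 50), (738, 191, some 51), (593, 713, some 18), (201, 713, some 22), (1121, 713, some 50), (1074, 713, some 51), (198, 724, some 21), (1182, 724, some 50), (361, 724, some 51), (639, 306, some 18), (624, 414, some 18), (900, 454, some 22), (313, 454, some 46), (33, 454, some 47), (889, 454, some 51), (393, 507, some 18), (180, 507, some 22), (735, 507, some 50), (540, 32, some 21), (604, 32, some 47), (752, 32, some 50), (1285, 32, some 51), (413, 888, some 22), (841,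 888, some 50), (391, 888, some 51), (415, 158, some 18), (1109, 158, some 50), (1312, 158, some 51), (1194, 344, some 46), (1184, 344, some 47), (1097, 344, some 50), (994, 991, some 18), (348, 991, some 20), (966, 991, some 21), (175, 991, some 46), (1273, 991, some 47), (104, 74, some 22), (240, 74, some 50), (908, 110, some 18), (177, 110, some 22), (356, 110, some 50), (523, 421, some 20), (1006, 421, some 46), (164, 421, some 47), (515, 421, some 51), (650, 206, some 50), (496, 206, some 51), (83, 951, some 46), (120, 951, some 47), (420, 634, some 20), (408, 634, some 21), (665, 983, some 21), (1088, 40, some 51), (917, 409, some 22), (804, 443, some 50), (352, 737, some 18), (78, 1019, some 22), (1245, 1019, some 50), (1405, 1019, some 51), (111, 426, some 18), (864, 426, some 46), (1319, 426, some 50), (884, 426, some 51), (1207, 253, some 18), (1058, 253, some 21), (318, 1191, some 46), (396, 860, some 20), (714, 667, some 18), (796, 667, some 20), (1145, 427, some 22), (89, 38, some 18), (601, 38, some 20), (1005, 38, some 46), (305, 38, some 47), (587, 38, some 50), (271, 194, some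 18), (49, 194, some 21), (521, 194, some 22), (762, 194, some 46), (73, 194, some 47), (155, 194, some 50), (732, 194, some 51), (592, 721, some 18), (202, 721, some 22), (1120, 721, some 50), (1075, 721, some 51), (199, 725, some 21), (1388, 725, some 50), (360, 725, some 51), (588, 346, some 18), (644, 417, some 18), (903, 458, some 22), (314, 458, some 46), (27, 458, some 47), (892, 458, some 51), (386, 508, some 18), (185, 508, some 22), (739, 508, some 50), (541, 26, some 21), (605, 26, some 47), (757, 26, some 50), (1289, 26, some 51), (416, 891, some 22), (1233, 891, some 50), (382, 891, some 51), (412, 136, some 18), (1112, 136, some 50), (1311, 136, some 51), (1196, 296, some 46), (1186, 296, some 47), (1096, 296, some 50), (992, 988, some 18), (308, 988, some 20), (1035, 988, some 21), (169, 988, some 46), (1286, 988, some 47), (106, 63, some 22), (242, 63, some 50), (911, 257, some 18), (173, 257, some 22), (365, 257, some 50), (524, 692, some 20), (1009, 692, some 46), (150, 692, some 47), (511, 692, some 51), (647, 209, some 50), (203, 209, some 51), (81, 950, some 46), (51, 950,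 some 47), (246, 578, some 20), (448, 578, some 21), (664, 984, some 21), (1089, 41, some 51), (918, 410, some 22), (803, 444, some 50), (330, 741, some 18), (71, 982, some 22), (1244, 982, some 50), (1404, 982, some 51), (112, 430, some 18), (863, 430, some 46), (1292, 430, some 50), (895, 430, some 51), (1209, 100, some 18), (1054, 100, some 21), (319, 1201, some 46), (402, 857, some 20), (715, 671, some 18), (793, 671, some 20), (1141, 431, some 22), (127, 57, some 18), (464, 57, some 20), (813, 57, some 46), (213, 57, some 47), (450, 57, some 50), (179, 283, some 18), (69, 283, some 21), (374, 283, some 22), (960, 283, some 46), (52, 283, some 47), (114, 283, some 50), (934, 283, some 51), (455, 913, some 18), (293, 913, some 22), (1284, 913, some 50), (1252, 913, some 51), (290, 682, some 21), (1320, 682, some 50), (510, 682, some 51), (451, 498, some 18), (853, 553, some 18), (703, 591, some 22), (222, 591, some 46), (17, 591, some 47), (689, 591, some 51), (536, 359, some 18), (272, 359, some 22), (931, 359, some 50), (398, 16, some 21), (468, 16, some 47), (948, 16, some 50), (1129,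 16, some 51), (552, 688, some 22), (1031, 688, some 50), (406, 688, some 51), (554, 95, some 18), (1275, 95, some 50), (1166, 95, some 51), (1328, 204, some 46), (1321, 204, some 47), (1110, 204, some 50), (799, 794, some 18), (216, 794, some 20), (1221, 794, some 21), (267, 794, some 46), (1124, 794, some 47), (145, 42, some 22), (332, 42, some 50), (711, 151, some 18), (269, 151, some 22), (505, 151, some 50), (377, 559, some 20), (817, 559, some 46), (109, 559, some 47), (362, 559, some 51), (859, 298, some 50), (343, 298, some 51), (124, 754, some 46), (79, 754, some 47), (354, 440, some 20), (549, 440, some 21), (872, 790, some 21), (1262, 61, some 51), (718, 381, some 22), (996, 581, some 50), (238, 933, some 18), (50, 788, some 22), (1065, 788, some 50), (1391, 788, some 51), (152, 564, some 18), (655, 564, some 46), (1134, 564, some 50), (693, 564, some 51), (1335, 161, some 18), (1226, 161, some 21), (227, 1327, some 46), (539, 648, some 20), (914, 874, some 18), (990, 874, some 20), (1047, 565, some 22), (1099, 993, some 18), (730, 993, some 20), (375, 993, some 22), (1015, 993, some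 46), (1214, 993, some 47), (809, 993, some 50), (811, 1202, some 18), (534, 1202, some 21), (1293, 1202, some 22), (1139, 1202, some 46), (1041, 1202, some 47), (1260, 1202, some 50), (333, 1202, some 51), (276, 1406, some 20), (128, 1406, some 21), (326, 1406, some 46), (1291, 1406, some 47), (258, 1406, some 50), (1072, 1406, some 51), (637, 596, some 18), (897, 596, some 20), (962, 596, some 46), (442, 596, some 50), (247, 596, some 51), (1380, 1156, some 18), (1217, 1156, some 21), (418, 1156, some 22), (1232, 1156, some 50), (1362, 1156, some 51), (123, 964, some 18), (1241, 964, some 20), (1338, 964, some 21), (1157, 964, some 46), (594, 964, some 47), (705, 964, some 50), (1179, 322, some 20), (335, 322, some 21), (1375, 322, some 46), (1324, 477, some 20), (1056, 477, some 21), (1371, 477, some 22), (854, 477, some 46), (1279, 477, some 47), (750, 477, some 50), (1240, 477, some 51), (607, 576, some 18), (919, 576, some 46), (620, 576, some 47), (920, 576, some 50), (1181, 576, some 51), (670, 284, some 18), (680, 284, some 21), (968, 284, some 46), (759, 284, some 47), (148, 284, some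 51), (476, 843, some 20), (503, 843, some 22), (1313, 843, some 46), (1011, 843, some 50), (350, 843, some 51), (1290, 311, some 50), (1039, 311, some 51), (1079, 1069, some 18), (548, 1069, some 20), (807, 1069, some 21), (894, 1069, some 46), (1308, 1069, some 47), (975, 544, some 20), (1064, 544, some 21), (672, 544, some 22), (530, 544, some 47), (574, 544, some 51), (60, 278, some 18), (572, 278, some 21), (93, 278, some 50), (978, 861, some 18), (1137, 861, some 22), (855, 861, some 46), (1016, 861, some 50), (626, 1040, some 21), (756, 1040, some 22), (1306, 1040, some 50), (858, 1040, some 51), (1361, 783, some 18), (1265, 783, some 20), (1258, 783, some 46), (885, 1200, some 20), (527, 1200, some 21), (1346, 1200, some 22), (1140, 1200, some 46), (1026, 1200, some 47), (1259, 1200, some 50), (331, 1200, some 51), (1389, 848, some 18), (1385, 848, some 46), (610, 848, some 47), (1012, 848, some 51), (1162, 125, some 46), (1386, 125, some 47), (837, 780, some 20), (252, 780, some 22), (44, 780, some 46), (1023, 780, some 51), (583, 1017, some 21), (1187, 1017, some 22), (726, 1017, some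 50), (1287, 746, some 18), (668, 746, some 20), (1052, 746, some 46), (1220, 746, some 47), (1227, 746, some 50), (494, 675, some 18), (280, 675, some 20), (1216, 675, some 46), (561, 675, some 47), (419, 245, some 22), (702, 245, some 47), (1365, 245, some 50), (963, 571, some 18), (1101, 571, some 46), (773, 571, some 50), (1195, 571, some 51), (779, 1370, some 20), (616, 1370, some 21), (816, 1370, some 46), (1068, 1370, some 47), (712, 1372, some 18), (761, 1372, some 20), (478, 1372, some 22), (1104, 1372, some 50), (299, 1158, some 18), (1128, 1158, some 20), (940, 1158, some 21), (462, 1158, some 46), (532, 1158, some 47), (1122, 1118, some 18), (116, 1118, some 47), (936, 200, some 20), (275, 200, some 47), (1169, 899, some 22), (1146, 979, some 20), (959, 979, some 21), (424, 979, some 46), (1178, 979, some 47), (504, 829, some 18), (749, 829, some 50), (1384, 851, some 18), (1231, 287, some 20), (696, 287, some 21), (1070, 287, some 22), (967, 287, some 46), (273, 287, some 50), (146, 287, some 51), (303, 1357, some 18), (653, 1357, some 47), (215, 1189, some 18), (826, 1189, some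 50), (698, 828, some 50), (281, 171, some 18), (425, 372, some 20), (1100, 372, some 21), (985, 372, some 22), (1142, 372, some 46), (674, 372, some 51), (852, 99, some 20), (798, 690, some 18), (1059, 768, some 20), (1211, 768, some 21), (1251, 768, some 22), (902, 768, some 50), (694, 768, some 51), (1176, 1000, some 18), (942, 1000, some 50), (263, 999, some 21), (1305, 999, some 47), (1002, 1307, some 46), (1294, 1307, some 50), (1353, 638, some 18), (1076, 638, some 22), (1373, 638, some 46), (422, 638, some 47), (781, 638, some 51), (212, 1364, some 18), (1192, 1364, some 21), (875, 1364, some 51), (479, 471, some 18), (1153, 471, some 22), (486, 623, some 18), (160, 623, some 21), (481, 623, some 50), (1352, 401, some 18), (385, 401, some 47), (820, 405, some 20), (1044, 405, some 21), (879, 405, some 22), (1395, 405, some 46), (392, 405, some 47), (434, 405, some 51), (613, 1246, some 18), (631, 1246, some 46), (500, 1246, some 47), (1087, 977, some 46), (491, 765, some 22), (1091, 765, some 47), (210, 836, some 20), (643, 836, some 22), (1316, 836, some 46), (740, 836, some 51), (1323,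 234, some 21), (1218, 1301, some 20), (1042, 1301, some 50), (484, 1344, some 20), (834, 1344, some 21), (339, 1133, some 22), (654, 822, some 18), (429, 822, some 21), (695, 1393, some 18), (445, 457, some 18), (679, 457, some 20), (225, 1001, some 20), (584, 1347, some 18), (1115, 1347, some 46), (236, 183, some 18), (1147, 183, some 47), (706, 183, some 51), (944, 877, some 20), (1363, 877, some 21), (883, 877, some 22), (262, 877, some 50), (103, 877, some 51), (438, 470, some 18), (729, 470, some 47), (1113, 470, some 51), (1367, 184, some 50), (1317, 230, some 20), (219, 1132, some 51), (558, 447, some 50), (1270, 223, some 20), (821, 223, some 47), (156, 188, some 20), (292, 188, some 46), (1143, 188, some 47), (1193, 188, some 50), (1036, 480, some 21), (550, 480, some 51), (76, 989, some 18), (244, 989, some 20), (766, 1250, some 22), (1152, 1282, some 18), (1022, 1238, some 46), (1288, 1238, some 47), (433, 1266, some 20), (758, 1093, some 21), (347, 943, some 20), (1144, 1085, some 46), (786, 1085, some 47), (403, 522, some 18), (1296, 522, some 46), (1170, 1131, some 46), (1150,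 1131, some 47), (1148, 1131, some 50), (96, 947, some 18), (241, 229, some 18), (927, 1154, some 18), (625, 973, some 20), (1303, 973, some 51), (642, 945, some 50), (602, 1304, some 46), (635, 612, some 50), (1188, 599, some 21), (64, 1247, some 22), (563, 1247, some 50), (776, 482, some 22), (1135, 929, some 18), (898, 1269, some 46), (1173, 1086, some 18), (341, 1086, some 50), (231, 243, some 51), (1130, 135, some 20), (1003, 1177, some 18), (435, 97, some 46), (379, 1236, some 20), (1190, 1236, some 50), (699, 1163, some 50), (825, 628, some 50), (1377, 769, some 50), (474, 1396, some 50), (924, 140, some 22), (909, 646, some 22), (84, 186, some 20), (847, 342, some 51), (645, 1198, some 21), (719, 763, some 21), (716, 130, some 50), (1382, 812, some 50), (1114, 497, some 18), (865, 497, some 22), (316, 178, some 20), (619, 70, some 46), (383, 121, some 21), (1343, 1253, some 18), (237, 291, some 21), (1082, 509, some 21), (815, 488, some 22), (274, 686, some 46), (1212, 802, some 21), (916, 86, some 50), (1399, 1004, some 50), (1278, 345, some 18), (660, 345, some 22), (220, 270, some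 20), (485, 48, some 46), (528, 80, some 21), (1151, 1074, some 18), (329, 198, some 21), (1256, 361, some 21), (1007, 624, some 22), (187, 889, some 46), (1339, 994, some 21), (922, 89, some 50), (1398, 1005, some 50), (1280, 305, some 18), (657, 305, some 22), (224, 271, some 20), (483, 49, some 46), (529, 73, some 21), (1219, 1075, some 18), (351, 199, some 21), (1257, 360, some 21), (1010, 644, some 22), (182, 892, some 46), (1340, 992, some 21), (722, 127, some 50), (1383, 813, some 50), (1116, 213, some 18), (867, 213, some 22), (312, 179, some 20), (621, 69, some 46), (384, 52, some 21), (1298, 1252, some 18), (501, 290, some 21), (1083, 510, some 21), (818, 853, some 22), (279, 689, some 46), (1213, 799, some 21), (774, 1099, some 20), (327, 1099, some 21), (117, 1099, some 22), (778, 1099, some 46), (747, 1099, some 47), (1299, 730, some 18), (842, 730, some 46), (1261, 730, some 47), (542, 375, some 18), (673, 375, some 51), (1159, 1015, some 20), (1215, 1015, some 22), (315, 809, some 20), (1331, 809, some 21), (840, 809, some 46), (446, 811, some 20), (143, 811, some 22), (748, 811,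 some 50), (676, 811, some 51), (733, 534, some 22), (1222, 534, some 46), (1264, 534, some 47), (137, 534, some 51), (734, 1293, some 18), (980, 1293, some 46), (304, 1293, some 51), (1030, 1139, some 18), (495, 1139, some 22), (1094, 1139, some 46), (1297, 1139, some 50), (923, 1139, some 51), (618, 1041, some 18), (622, 1041, some 50), (1314, 1260, some 18), (1300, 1260, some 20), (1197, 1260, some 46), (981, 1260, some 47), (197, 1260, some 50), (321, 333, some 18), (1277, 333, some 21), (1230, 333, some 47), (170, 276, some 18), (751, 276, some 22), (1103, 276, some 51), (846, 128, some 46), (113, 326, some 46), (349, 1291, some 51), (323, 1072, some 20), (1295, 637, some 22), (954, 897, some 20), (490, 897, some 22), (1049, 897, some 46), (1337, 897, some 47), (1073, 962, some 22), (606, 442, some 20), (131, 442, some 47), (1379, 442, some 50), (830, 247, some 18), (709, 247, some 46), (615, 1380, some 20), (573, 1380, some 21), (514, 1217, some 51), (1160, 418, some 18), (1267, 418, some 21), (731, 418, some 47), (1281, 1232, some 20), (1027, 1362, some 20), (810, 123, some 22), (1387,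 123, some 47), (1105, 1241, some 18), (1326, 1338, some 22), (886, 1338, some 46), (627, 1338, some 47), (795, 1338, some 51), (1381, 1157, some 18), (906, 1179, some 18), (1348, 1179, some 47), (633, 1375, some 20), (465, 1324, some 20), (617, 1324, some 47), (43, 1056, some 50), (760, 1371, some 20), (845, 1371, some 46), (1092, 1371, some 47), (1167, 854, some 20), (493, 1279, some 50), (94, 750, some 20), (775, 750, some 46), (1053, 750, some 47), (328, 607, some 22), (1028, 607, some 46), (925, 607, some 47), (1046, 607, some 50), (302, 919, some 51), (487, 620, some 18), (1356, 620, some 21), (1358, 670, some 21), (58, 968, some 46), (506, 759, some 21), (525, 476, some 46), (535, 503, some 20), (320, 503, some 46), (1332, 1313, some 22), (839, 1011, some 20), (932, 1011, some 21), (317, 1011, some 46), (1407, 350, some 47), (1376, 1290, some 18), (249, 1079, some 21), (1390, 548, some 18), (411, 975, some 46), (336, 672, some 18), (1208, 672, some 20), (949, 672, some 47), (560, 530, some 18), (608, 574, some 46), (1071, 60, some 20), (1136, 93, some 47), (961, 978, some 21), (248, 1137,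 some 46), (575, 626, some 51), (533, 1265, some 18), (138, 527, some 51), (1175, 1346, some 21), (658, 1140, some 20), (364, 1259, some 50), (567, 331, some 46), (526, 1385, some 46), (965, 1385, some 51), (1013, 837, some 22), (792, 44, some 18), (499, 583, some 21), (603, 1287, some 50), (1315, 1052, some 50), (1055, 478, some 21), (1126, 1128, some 18), (801, 1122, some 20), (1254, 959, some 47), (577, 1070, some 20), (782, 985, some 50), (1014, 1261, some 50)]

/-- The points of class 5. -/
def topCover5 : List (ℕ × ℕ × Option ℕ) :=
  [(4, 15, none), (2, 21, none), (0, 22, none), (1, 23, none), (283, 67, none), (6, 71, none), (9, 72, none), (5, 73, none), (143, 78, none), (11, 82, none), (8, 83, none), (23, 84, none), (876, 98, none), (33, 102, none), (116, 103, none), (43, 104, none), (259, 4, some 60), (167, 2, some 60), (114, 0, some 60), (155, 1, some 60), (790, 283, some 24), (516, 283, some 25), (869, 283, some 26), (655, 283, some 28), (7, 283, some 29), (137, 283, some 60), (369, 6, some 24), (537, 6, some 25), (393, 6, some 26), (517, 6, some 27), (598, 6, some 29), (35, 6, some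 60), (512, 9, some 24), (394, 9, some 25), (531, 9, some 26), (370, 9, some 27), (461, 9, some 29), (56, 9, some 60), (363, 5, some 24), (538, 5, some 25), (386, 5, some 26), (520, 5, some 27), (601, 5, some 29), (31, 5, some 60), (1399, 143, some 24), (960, 143, some 25), (455, 143, some 26), (275, 143, some 27), (1330, 143, some 29), (13, 143, some 60), (254, 11, some 24), (49, 11, some 25), (664, 11, some 26), (89, 11, some 27), (63, 11, some 28), (903, 11, some 29), (144, 11, some 60), (142, 8, some 24), (69, 8, some 25), (872, 8, some 26), (127, 8, some 27), (42, 8, some 28), (703, 8, some 29), (103, 8, some 60), (162, 23, some 24), (70, 23, some 25), (871, 23, some 26), (130, 23, some 27), (115, 23, some 28), (700, 23, some 29), (102, 23, some 60), (404, 876, some 24), (267, 876, some 25), (274, 876, some 26), (857, 876, some 27), (430, 876, some 28), (677, 876, some 29), (1150, 876, some 60), (1364, 33, some 24), (1228, 33, some 25), (724, 33, some 26), (263, 33, some 27), (399, 33, some 28), (485, 33, some 29), (474, 33, some 60), (1324, 116, some 24), (670, 116, some 25), (300, 116,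 some 26), (576, 116, some 27), (1358, 116, some 28), (1244, 116, some 29), (1158, 116, some 60), (1326, 43, some 24), (666, 43, some 25), (297, 43, some 26), (577, 43, some 27), (1357, 43, some 28), (1245, 43, some 29), (1159, 43, some 60), (395, 790, some 24), (559, 790, some 26), (312, 790, some 27), (24, 790, some 28), (1110, 790, some 29), (258, 790, some 60), (3, 516, some 25), (227, 516, some 27), (792, 516, some 60), (566, 869, some 24), (962, 869, some 60), (1102, 655, some 24), (57, 655, some 28), (885, 655, some 60), (374, 7, some 24), (20, 7, some 26), (282, 7, some 29), (526, 7, some 60), (1099, 137, some 26), (1287, 137, some 27), (310, 137, some 28), (1073, 137, some 29), (191, 369, some 24), (318, 369, some 27), (220, 369, some 28), (14, 369, some 29), (989, 369, some 60), (983, 537, some 25), (190, 537, some 26), (518, 537, some 27), (1271, 537, some 60), (907, 393, some 24), (1063, 393, some 28), (800, 393, some 60), (34, 517, some 27), (428, 517, some 28), (909, 517, some 60), (65, 598, some 60), (47, 35, some 24), (407, 35, some 25), (766, 35, some 26), (678, 35, some 27),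 (1130, 35, some 28), (230, 35, some 29), (286, 512, some 24), (226, 512, some 27), (316, 512, some 28), (25, 512, some 29), (795, 512, some 60), (789, 394, some 25), (285, 394, some 26), (371, 394, some 27), (1103, 394, some 60), (707, 531, some 24), (1098, 531, some 28), (985, 531, some 60), (55, 370, some 27), (570, 370, some 28), (709, 370, some 60), (44, 461, some 60), (67, 56, some 24), (382, 56, some 25), (964, 56, some 26), (896, 56, some 27), (1094, 56, some 28), (320, 56, some 29), (194, 363, some 24), (319, 363, some 27), (224, 363, some 28), (15, 363, some 29), (986, 363, some 60), (984, 538, some 25), (193, 538, some 26), (521, 538, some 27), (1268, 538, some 60), (910, 386, some 24), (1062, 386, some 28), (791, 386, some 60), (30, 520, some 27), (432, 520, some 28), (912, 520, some 60), (76, 601, some 60), (46, 31, some 24), (406, 31, some 25), (768, 31, some 26), (694, 31, some 27), (1131, 31, some 28), (228, 31, some 29), (294, 1399, some 24), (1024, 1399, some 27), (50, 1399, some 28), (468, 1399, some 29), (32, 1399, some 60), (1233, 960, some 25), (1033, 960, some 26), (921,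 960, some 27), (110, 960, some 60), (672, 455, some 24), (544, 455, some 28), (908, 455, some 60), (496, 275, some 27), (1074, 275, some 28), (540, 275, some 60), (177, 1330, some 60), (101, 13, some 24), (48, 13, some 25), (665, 13, some 26), (86, 13, some 27), (74, 13, some 28), (900, 13, some 29), (19, 254, some 24), (803, 254, some 27), (185, 254, some 28), (106, 254, some 29), (119, 254, some 60), (590, 49, some 25), (26, 49, some 26), (458, 49, some 28), (271, 49, some 29), (203, 49, some 60), (173, 664, some 24), (257, 664, some 28), (808, 664, some 60), (904, 89, some 28), (827, 89, some 60), (541, 63, some 24), (911, 63, some 25), (95, 63, some 60), (524, 903, some 26), (805, 903, some 27), (467, 903, some 60), (1398, 144, some 24), (958, 144, some 25), (456, 144, some 26), (280, 144, some 27), (1327, 144, some 29), (28, 142, some 24), (996, 142, some 27), (272, 142, some 28), (145, 142, some 29), (71, 142, some 60), (453, 69, some 25), (16, 69, some 26), (591, 69, some 28), (179, 69, some 29), (343, 69, some 60), (269, 872, some 24), (151, 872, some 28), (1003, 872, some 60), (704,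 127, some 28), (982, 127, some 60), (398, 42, some 24), (711, 42, some 25), (158, 42, some 60), (377, 703, some 26), (998, 703, some 27), (605, 703, some 60), (1383, 103, some 24), (762, 103, some 25), (592, 103, some 26), (188, 103, some 27), (1191, 103, some 29), (29, 162, some 24), (995, 162, some 27), (277, 162, some 28), (147, 162, some 29), (78, 162, some 60), (452, 70, some 25), (53, 70, some 26), (595, 70, some 28), (178, 70, some 29), (295, 70, some 60), (265, 871, some 24), (165, 871, some 28), (1000, 871, some 60), (701, 130, some 28), (1019, 130, some 60), (397, 115, some 24), (708, 115, some 25), (136, 115, some 60), (376, 700, some 26), (997, 700, some 27), (604, 700, some 60), (1382, 102, some 24), (764, 102, some 25), (593, 102, some 26), (183, 102, some 27), (1201, 102, some 29), (313, 404, some 24), (1224, 404, some 26), (927, 404, some 27), (918, 404, some 28), (262, 404, some 29), (1384, 404, some 60), (1045, 267, some 25), (1248, 267, some 26), (1001, 267, some 27), (159, 267, some 28), (1269, 267, some 29), (444, 267, some 60), (351, 274, some 24), (163, 274, some 26),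 (1270, 274, some 28), (1353, 274, some 29), (596, 274, some 60), (1283, 857, some 25), (260, 857, some 27), (1106, 857, some 28), (956, 857, some 29), (352, 857, some 60), (186, 430, some 24), (1066, 430, some 25), (1238, 430, some 26), (1376, 430, some 60), (725, 677, some 24), (229, 677, some 25), (1363, 677, some 26), (1366, 677, some 27), (1280, 677, some 29), (476, 677, some 60), (640, 1150, some 24), (1146, 1150, some 25), (1016, 1150, some 26), (723, 1150, some 27), (775, 1150, some 28), (1303, 1150, some 29), (881, 1364, some 24), (902, 1364, some 26), (693, 1364, some 27), (1345, 1364, some 28), (64, 1364, some 29), (639, 1364, some 60), (211, 1228, some 25), (1008, 1228, some 26), (389, 1228, some 27), (977, 1228, some 28), (189, 1228, some 29), (583, 1228, some 60), (1321, 724, some 26), (1274, 724, some 28), (1247, 724, some 29), (346, 724, some 60), (415, 263, some 25), (781, 263, some 27), (400, 263, some 28), (296, 263, some 60), (1272, 399, some 24), (660, 399, some 25), (1391, 399, some 26), (1206, 399, some 27), (509, 399, some 28), (385, 399, some 60), (82, 485, some 24),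 (1335, 485, some 25), (1091, 485, some 26), (915, 485, some 27), (134, 485, some 29), (427, 485, some 60), (634, 474, some 24), (1040, 474, some 25), (954, 474, some 26), (1022, 474, some 27), (649, 474, some 28), (585, 474, some 29), (1292, 1324, some 24), (1369, 1324, some 26), (324, 1324, some 27), (287, 1324, some 28), (906, 1324, some 29), (866, 1324, some 60), (109, 670, some 25), (714, 670, some 26), (1111, 670, some 27), (975, 670, some 28), (532, 670, some 29), (852, 670, some 60), (1265, 300, some 24), (123, 300, some 26), (465, 300, some 28), (1208, 300, some 29), (959, 300, some 60), (555, 576, some 25), (1259, 576, some 27), (315, 576, some 28), (1178, 576, some 29), (482, 576, some 60), (673, 1358, some 24), (17, 1358, some 25), (705, 1358, some 26), (895, 1358, some 27), (1390, 1358, some 28), (451, 1358, some 60), (564, 1244, some 24), (733, 1244, some 25), (848, 1244, some 29), (1199, 1244, some 60), (489, 1158, some 24), (408, 1158, some 25), (1187, 1158, some 26), (819, 1158, some 27), (1140, 1158, some 28), (530, 1158, some 29), (1319, 1326, some 24), (1368, 1326, some 26),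 (325, 1326, some 27), (284, 1326, some 28), (920, 1326, some 29), (862, 1326, some 60), (256, 666, some 25), (715, 666, some 26), (1108, 666, some 27), (1012, 666, some 28), (525, 666, some 29), (487, 666, some 60), (1254, 297, some 24), (125, 297, some 26), (462, 297, some 28), (1181, 297, some 29), (961, 297, some 60), (552, 577, some 25), (1260, 577, some 27), (317, 577, some 28), (1179, 577, some 29), (480, 577, some 60), (674, 1357, some 24), (54, 1357, some 25), (702, 1357, some 26), (884, 1357, some 27), (1223, 1357, some 28), (849, 1357, some 60), (568, 1245, some 24), (734, 1245, some 25), (446, 1245, some 29), (1198, 1245, some 60), (204, 1159, some 24), (448, 1159, some 25), (1189, 1159, some 26), (821, 1159, some 27), (1139, 1159, some 28), (535, 1159, some 29), (536, 395, some 28), (126, 559, some 26), (68, 312, some 60), (373, 24, some 24), (463, 24, some 25), (464, 24, some 26), (322, 24, some 60), (710, 1110, some 26), (712, 258, some 25), (391, 258, some 29), (21, 3, some 60), (333, 227, some 60), (1313, 792, some 24), (152, 792, some 26), (1332, 792, some 28), (494, 566, some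 60), (117, 962, some 24), (1079, 962, some 29), (375, 1102, some 60), (1407, 282, some 60), (993, 526, some 24), (662, 191, some 26), (864, 191, some 28), (12, 191, some 29), (96, 191, some 60), (85, 318, some 29), (241, 318, some 60), (1097, 220, some 25), (597, 14, some 25), (1172, 989, some 24), (111, 989, some 26), (1204, 989, some 28), (154, 989, some 29), (421, 983, some 26), (36, 190, some 24), (1403, 190, some 60), (1250, 518, some 60), (1125, 1271, some 25), (519, 1063, some 60), (379, 800, some 25), (646, 428, some 60), (218, 909, some 29), (868, 286, some 26), (656, 286, some 28), (22, 286, some 29), (138, 286, some 60), (129, 226, some 29), (331, 226, some 60), (1107, 316, some 25), (460, 25, some 25), (1314, 795, some 24), (153, 795, some 26), (1331, 795, some 28), (113, 795, some 29), (632, 789, some 26), (59, 285, some 24), (1406, 285, some 60), (1072, 371, some 60), (1277, 1103, some 25), (372, 1098, some 60), (533, 985, some 25), (855, 570, some 60), (309, 709, some 29), (661, 194, some 26), (863, 194, some 28), (10, 194, some 29), (97, 194, some 60), (88, 319, some 29), (239,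 319, some 60), (1096, 224, some 25), (600, 15, some 25), (1173, 986, some 24), (112, 986, some 26), (1203, 986, some 28), (166, 986, some 29), (692, 984, some 26), (38, 193, some 24), (1402, 193, some 60), (1251, 521, some 60), (1113, 1268, some 25), (522, 1062, some 60), (388, 791, some 25), (629, 432, some 60), (217, 912, some 29), (811, 294, some 26), (788, 294, some 28), (667, 294, some 29), (507, 294, some 60), (250, 1024, some 29), (104, 1024, some 60), (1165, 50, some 25), (1219, 468, some 25), (804, 32, some 24), (589, 32, some 26), (806, 32, some 28), (454, 32, some 29), (81, 1233, some 26), (121, 1033, some 24), (523, 1033, some 60), (91, 921, some 60), (901, 110, some 25), (270, 544, some 60), (180, 908, some 25), (40, 1074, some 60), (18, 540, some 29), (508, 19, some 29), (83, 19, some 60), (92, 803, some 28), (1151, 803, some 60), (671, 185, some 60), (1025, 106, some 60), (1164, 119, some 25), (841, 119, some 26), (41, 590, some 29), (52, 590, some 60), (548, 271, some 60), (668, 203, some 25), (1075, 808, some 24), (293, 808, some 27), (913, 95, some 29), (939, 524, some 60),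 (359, 28, some 29), (122, 28, some 60), (132, 996, some 28), (1343, 996, some 60), (874, 272, some 60), (833, 145, some 60), (1310, 71, some 25), (1043, 71, some 26), (61, 453, some 29), (80, 453, some 60), (405, 179, some 60), (879, 343, some 25), (1252, 1003, some 24), (201, 1003, some 27), (713, 158, some 29), (743, 377, some 60), (358, 29, some 29), (124, 29, some 60), (133, 995, some 28), (1298, 995, some 60), (878, 277, some 60), (832, 147, some 60), (1309, 78, some 25), (1031, 78, some 26), (62, 452, some 29), (73, 452, some 60), (401, 178, some 60), (875, 295, some 25), (1253, 1000, some 24), (202, 1000, some 27), (721, 136, some 29), (1229, 376, some 60), (150, 313, some 26), (727, 313, some 27), (402, 313, some 28), (380, 313, some 29), (240, 313, some 60), (1086, 1224, some 24), (1276, 1224, some 26), (244, 1224, some 28), (929, 1224, some 29), (1306, 1224, some 60), (1154, 927, some 25), (888, 927, some 27), (946, 927, some 28), (856, 927, some 29), (924, 927, some 60), (944, 918, some 24), (1329, 918, some 25), (305, 918, some 26), (156, 918, some 27), (434, 918, some 28), (644,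 918, some 60), (970, 262, some 24), (412, 262, some 25), (27, 262, some 26), (820, 262, some 27), (212, 262, some 29), (344, 262, some 60), (643, 1384, some 24), (831, 1384, some 25), (1305, 1384, some 26), (759, 1384, some 27), (1018, 1384, some 28), (1034, 1384, some 29), (341, 1045, some 26), (1180, 1045, some 27), (529, 1045, some 29), (1197, 1045, some 60), (614, 1248, some 24), (638, 1248, some 26), (72, 1248, some 28), (84, 1001, some 25), (1359, 1001, some 27), (769, 1001, some 60), (720, 159, some 24), (602, 159, some 27), (1351, 159, some 60), (905, 1269, some 24), (403, 1269, some 25), (880, 1269, some 26), (1211, 1269, some 27), (1355, 1269, some 60), (801, 444, some 24), (447, 444, some 25), (1183, 444, some 26), (511, 444, some 27), (606, 444, some 28), (413, 351, some 26), (225, 351, some 29), (1261, 351, some 60), (578, 163, some 60), (1193, 1270, some 27), (1232, 1270, some 60), (1014, 1353, some 60), (933, 596, some 24), (586, 596, some 25), (922, 596, some 26), (778, 596, some 27), (765, 596, some 28), (1127, 596, some 29), (184, 1283, some 25), (1076, 1283, some 27), (1322,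 1283, some 28), (1230, 1283, some 60), (245, 260, some 60), (1317, 1106, some 27), (887, 1106, some 28), (233, 956, some 29), (950, 956, some 60), (1128, 352, some 24), (435, 352, some 26), (618, 352, some 28), (1030, 352, some 29), (1236, 186, some 24), (378, 186, some 27), (75, 1066, some 28), (1167, 1066, some 60), (652, 1238, some 60), (1340, 1376, some 25), (1375, 1376, some 26), (1301, 1376, some 27), (1348, 1376, some 29), (1038, 725, some 24), (1249, 725, some 29), (306, 725, some 60), (1316, 229, some 25), (1295, 229, some 60), (1352, 1363, some 28), (588, 1363, some 60), (347, 1366, some 60), (1002, 1280, some 24), (410, 1280, some 27), (414, 1280, some 60), (491, 476, some 27), (308, 476, some 28), (1215, 640, some 24), (628, 640, some 27), (968, 640, some 28), (654, 1146, some 25), (365, 1146, some 26), (949, 1146, some 27), (311, 1146, some 29), (422, 1016, some 24), (1059, 1016, some 60), (836, 775, some 24), (1051, 775, some 26), (625, 775, some 27), (894, 775, some 28), (549, 1303, some 25), (1323, 1303, some 26), (1011, 1303, some 27), (392, 1303, some 29), (1192, 881, some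 28), (1083, 881, some 29), (550, 881, some 60), (990, 902, some 24), (1004, 902, some 26), (149, 902, some 28), (79, 902, some 29), (1117, 902, some 60), (231, 693, some 25), (1367, 693, some 27), (870, 693, some 28), (1278, 693, some 29), (851, 693, some 60), (1318, 1345, some 24), (528, 1345, some 25), (195, 1345, some 26), (584, 1345, some 28), (991, 1345, some 60), (1188, 64, some 24), (873, 64, some 25), (208, 64, some 26), (438, 64, some 27), (1065, 64, some 29), (1304, 64, some 60), (1379, 639, some 24), (1185, 639, some 25), (1020, 639, some 26), (1007, 639, some 28), (1195, 639, some 29), (1166, 211, some 26), (436, 211, some 29), (784, 211, some 60), (236, 1008, some 24), (37, 1008, some 26), (340, 1008, some 28), (198, 1008, some 29), (1325, 1008, some 60), (90, 389, some 25), (314, 389, some 28), (882, 389, some 29), (779, 389, some 60), (1349, 977, some 24), (1176, 977, some 26), (77, 977, some 28), (1013, 977, some 60), (1284, 189, some 24), (613, 189, some 25), (141, 189, some 26), (470, 189, some 29), (357, 189, some 60), (943, 583, some 24), (1307, 583, some 25), (1315, 583,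 some 27), (732, 583, some 28), (1095, 583, some 29), (356, 1321, some 60), (1135, 1274, some 27), (1320, 1274, some 28), (206, 1247, some 29), (1220, 1247, some 60), (980, 346, some 24), (992, 346, some 25), (1258, 346, some 26), (630, 346, some 27), (609, 346, some 28), (890, 415, some 25), (1148, 415, some 27), (266, 415, some 28), (579, 415, some 60), (1142, 781, some 60), (926, 400, some 27), (917, 400, some 28), (1385, 400, some 60), (941, 296, some 26), (1370, 296, some 29), (1210, 1272, some 27), (261, 1272, some 28), (1354, 1272, some 60), (437, 660, some 60), (1118, 1391, some 60), (563, 1206, some 28), (289, 1206, some 29), (735, 1206, some 60), (1360, 509, some 24), (107, 509, some 25), (1134, 509, some 26), (1145, 509, some 60), (843, 385, some 25), (974, 385, some 26), (1308, 385, some 27), (899, 385, some 29), (976, 82, some 24), (1239, 82, some 29), (1275, 1335, some 29), (932, 1335, some 60), (1057, 1091, some 28), (135, 915, some 28), (966, 915, some 60), (957, 134, some 24), (396, 134, some 25), (181, 134, some 27), (246, 134, some 60), (1052, 427, some 24), (925, 427, some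 26), (1119, 427, some 27), (617, 427, some 28), (1290, 634, some 24), (719, 634, some 26), (624, 634, some 27), (893, 634, some 28), (645, 1040, some 25), (503, 1040, some 26), (1218, 1040, some 27), (417, 1040, some 29), (763, 954, some 24), (1039, 954, some 28), (242, 954, some 29), (947, 954, some 60), (1077, 1022, some 25), (1344, 1022, some 28), (587, 1022, some 29), (243, 1022, some 60), (349, 649, some 26), (611, 649, some 28), (608, 585, some 25), (951, 585, some 27), (492, 585, some 29), (1069, 1292, some 26), (361, 1292, some 27), (810, 1292, some 28), (249, 1292, some 29), (216, 1292, some 60), (168, 1369, some 24), (809, 1369, some 26), (1389, 1369, some 28), (323, 1369, some 29), (749, 1369, some 60), (1243, 324, some 25), (1257, 324, some 27), (760, 324, some 28), (684, 324, some 29), (479, 324, some 60), (1071, 287, some 24), (813, 287, some 25), (381, 287, some 26), (554, 287, some 28), (1123, 287, some 60), (1240, 906, some 24), (251, 906, some 25), (818, 906, some 60), (575, 866, some 24), (99, 866, some 25), (1152, 866, some 26), (737, 866, some 27), (1393, 866, some 28),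 (1341, 866, some 29), (196, 109, some 26), (221, 109, some 27), (676, 109, some 28), (539, 109, some 29), (622, 109, some 60), (45, 714, some 24), (621, 714, some 26), (793, 714, some 29), (1221, 714, some 60), (255, 1111, some 25), (1293, 1111, some 27), (1388, 1111, some 28), (682, 1111, some 29), (1267, 1111, some 60), (1372, 975, some 24), (290, 975, some 25), (170, 975, some 26), (131, 975, some 27), (1175, 975, some 28), (1294, 975, some 60), (1055, 532, some 24), (748, 532, some 25), (273, 532, some 26), (571, 532, some 60), (850, 852, some 24), (1373, 852, some 25), (1213, 852, some 26), (838, 852, some 27), (302, 852, some 28), (253, 1265, some 24), (1120, 1265, some 26), (424, 1265, some 29), (802, 123, some 60), (1041, 465, some 60), (1101, 1208, some 26), (1286, 1208, some 27), (1078, 1208, some 60), (740, 959, some 24), (753, 959, some 25), (1255, 959, some 26), (840, 959, some 27), (1282, 959, some 28), (459, 959, some 29), (268, 555, some 25), (501, 555, some 27), (889, 1259, some 60), (952, 315, some 60), (1337, 1178, some 29), (505, 482, some 25), (853, 482, some 26), (931,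 482, some 28), (502, 482, some 29), (303, 673, some 24), (1100, 673, some 27), (490, 673, some 60), (1032, 17, some 25), (542, 17, some 28), (610, 17, some 60), (51, 705, some 29), (1281, 705, some 60), (669, 895, some 28), (1116, 895, some 29), (642, 895, some 60), (384, 1390, some 25), (794, 1390, some 60), (1136, 451, some 25), (826, 451, some 26), (847, 451, some 27), (1138, 451, some 29), (1400, 564, some 60), (1049, 733, some 25), (1088, 733, some 60), (814, 848, some 25), (1070, 848, some 27), (339, 848, some 60), (698, 1199, some 24), (449, 1199, some 26), (219, 1199, some 27), (928, 489, some 24), (1081, 489, some 26), (1087, 489, some 27), (506, 489, some 28), (469, 408, some 25), (858, 408, some 26), (754, 408, some 27), (627, 408, some 29), (774, 1187, some 60), (418, 819, some 25), (565, 819, some 28), (1231, 819, some 60), (681, 1140, some 24), (824, 1140, some 26), (919, 1140, some 27), (1037, 1140, some 28), (631, 530, some 25), (726, 530, some 26), (1161, 530, some 27), (691, 530, some 29), (1064, 1319, some 26), (360, 1319, some 27), (807, 1319, some 28), (94, 1319, some 29),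 (472, 1319, some 60), (174, 1368, some 24), (782, 1368, some 26), (1227, 1368, some 28), (321, 1368, some 29), (747, 1368, some 60), (1242, 325, some 25), (1256, 325, some 27), (761, 325, some 28), (687, 325, some 29), (481, 325, some 60), (1068, 284, some 24), (812, 284, some 25), (390, 284, some 26), (551, 284, some 28), (1129, 284, some 60), (1241, 920, some 24), (98, 920, some 25), (815, 920, some 60), (573, 862, some 24), (252, 862, some 25), (1153, 862, some 26), (741, 862, some 27), (1394, 862, some 28), (1342, 862, some 29), (366, 256, some 26), (222, 256, some 27), (675, 256, some 28), (545, 256, some 29), (620, 256, some 60), (118, 715, some 24), (619, 715, some 26), (796, 715, some 29), (770, 715, some 60), (108, 1108, some 25), (1346, 1108, some 27), (1182, 1108, some 28), (697, 1108, some 29), (1264, 1108, some 60), (1371, 1012, some 24), (291, 1012, some 25), (171, 1012, some 26), (128, 1012, some 27), (1361, 1012, some 28), (1296, 1012, some 60), (1056, 525, some 24), (746, 525, some 25), (278, 525, some 26), (567, 525, some 60), (475, 487, some 24), (1377, 487, some 25), (1212,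 487, some 26), (729, 487, some 27), (299, 487, some 28), (100, 1254, some 24), (1121, 1254, some 26), (425, 1254, some 29), (799, 125, some 60), (1026, 462, some 60), (1105, 1181, some 26), (1273, 1181, some 27), (1093, 1181, some 60), (736, 961, some 24), (758, 961, some 25), (1266, 961, some 26), (839, 961, some 27), (1288, 961, some 28), (457, 961, some 29), (264, 552, some 25), (237, 552, some 27), (892, 1260, some 60), (955, 317, some 60), (1338, 1179, some 29), (513, 480, some 25), (488, 480, some 26), (935, 480, some 28), (238, 480, some 29), (304, 674, some 24), (1104, 674, some 27), (411, 674, some 60), (938, 54, some 25), (546, 54, some 28), (560, 54, some 60), (120, 702, some 29), (1279, 702, some 60), (663, 884, some 28), (1114, 884, some 29), (612, 884, some 60), (383, 1223, some 25), (797, 1223, some 60), (1137, 849, some 25), (828, 849, some 26), (445, 849, some 27), (1144, 849, some 29), (1401, 568, some 60), (1046, 734, some 25), (1089, 734, some 60), (817, 446, some 25), (1067, 446, some 27), (355, 446, some 60), (690, 1198, some 24), (450, 1198, some 26), (500, 1198, some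 27), (934, 204, some 24), (745, 204, some 26), (1084, 204, some 27), (514, 204, some 28), (471, 448, some 25), (861, 448, some 26), (755, 448, some 27), (626, 448, some 29), (816, 1189, some 60), (842, 821, some 25), (569, 821, some 28), (783, 821, some 60), (473, 1139, some 24), (1171, 1139, some 26), (923, 1139, some 27), (971, 1139, some 28), (558, 535, some 25), (780, 535, some 26), (1163, 535, some 27), (699, 535, some 29), (877, 150, some 24), (288, 150, some 26), (883, 150, some 28), (484, 150, some 60), (209, 727, some 25), (105, 727, some 27), (1177, 727, some 28), (1291, 727, some 60), (1350, 402, some 25), (466, 402, some 27), (1168, 380, some 24), (87, 380, some 25), (742, 380, some 26), (199, 380, some 27), (292, 240, some 29), (1082, 1086, some 24), (439, 1086, some 26), (689, 1086, some 60), (1090, 1276, some 60), (562, 244, some 27), (235, 244, some 28), (1021, 244, some 60), (157, 929, some 27), (172, 929, some 29), (1262, 929, some 60), (1115, 1306, some 24), (504, 1306, some 28), (161, 1154, some 27), (39, 1154, some 28), (987, 946, some 27), (1006, 856, some 29), (981, 856,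 some 60), (1387, 924, some 26), (1149, 944, some 27), (738, 305, some 60), (483, 156, some 28), (510, 156, some 29), (420, 156, some 60), (1060, 434, some 26), (419, 434, some 60), (192, 412, some 29), (635, 412, some 60), (785, 212, some 60), (367, 344, some 28), (641, 643, some 24), (207, 643, some 28), (846, 831, some 25), (757, 831, some 27), (637, 1305, some 24), (615, 1018, some 24), (679, 1034, some 26), (1336, 341, some 24), (1205, 341, some 28), (1190, 1180, some 25), (1225, 529, some 25), (1392, 529, some 27), (557, 1197, some 24), (739, 1197, some 25), (429, 1197, some 27), (936, 1197, some 29), (205, 84, some 27), (1005, 84, some 28), (994, 84, some 60), (945, 1359, some 60), (1010, 720, some 60), (834, 602, some 60), (657, 403, some 25), (1035, 447, some 29), (898, 1183, some 29), (1126, 606, some 26), (1141, 1261, some 25), (1053, 1193, some 60), (1396, 1232, some 25), (1015, 1232, some 27), (683, 1014, some 26), (653, 933, some 26), (1285, 586, some 25), (1092, 765, some 26), (431, 1127, some 26), (66, 184, some 27), (140, 1348, some 29), (988, 1352, some 60), (409, 1192, some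 25), (1124, 1192, some 27), (1085, 1083, some 25), (232, 1083, some 26), (416, 1083, some 27), (599, 1083, some 29), (1263, 550, some 25), (210, 550, some 29), (999, 990, some 29), (1122, 990, some 60), (279, 149, some 27), (1328, 149, some 28), (1246, 79, some 29), (515, 1117, some 24), (798, 1117, some 28), (1169, 1117, some 29), (1297, 231, some 60), (307, 1367, some 60), (860, 870, some 27), (426, 870, some 28), (348, 851, some 28), (1226, 528, some 25), (1044, 528, some 28), (1339, 528, some 60), (1289, 195, some 60), (1009, 584, some 25), (329, 584, some 26), (247, 584, some 60), (706, 1188, some 29), (658, 1188, some 60), (164, 873, some 25), (387, 873, some 29), (623, 873, some 60), (223, 438, some 28), (616, 438, some 60), (930, 1065, some 25), (752, 1379, some 28), (443, 1185, some 27), (940, 1007, some 24), (695, 1007, some 28), (433, 1195, some 27), (1155, 436, some 24), (1061, 436, some 26), (176, 436, some 27), (967, 784, some 24), (1048, 784, some 27), (1395, 784, some 28), (234, 37, some 60), (686, 1325, some 26), (891, 90, some 28), (728, 314, some 27), (594, 779, some 26),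 (1386, 1349, some 60), (659, 1013, some 29), (345, 1284, some 29), (773, 1284, some 60), (1234, 141, some 28), (859, 470, some 24), (942, 470, some 27), (442, 470, some 60), (1214, 357, some 27), (160, 357, some 28), (1302, 1307, some 26), (825, 1307, some 29), (835, 732, some 27), (837, 1095, some 25), (756, 1095, some 26), (1170, 1095, some 27), (423, 356, some 29), (342, 206, some 60), (139, 261, some 28), (486, 1354, some 26), (330, 437, some 27), (937, 563, some 60), (1347, 1360, some 28), (916, 974, some 29), (767, 976, some 60), (175, 1069, some 24), (364, 1069, some 26), (213, 1069, some 28), (148, 361, some 25), (298, 361, some 27), (248, 361, some 28), (1047, 361, some 60), (1202, 810, some 24), (328, 810, some 27), (1112, 249, some 24), (647, 249, some 27), (845, 216, some 27), (685, 168, some 24), (648, 168, some 26), (353, 168, some 60), (963, 809, some 60), (182, 1389, some 28), (822, 1389, some 60), (1143, 323, some 60), (556, 749, some 28), (969, 749, some 29), (574, 1243, some 27), (1027, 1243, some 60), (1196, 760, some 27), (493, 684, some 60), (200, 479, some 24), (1381,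 479, some 26), (58, 1071, some 24), (1311, 1071, some 27), (1186, 813, some 25), (1397, 813, some 60), (607, 1240, some 24), (1356, 251, some 60), (823, 818, some 24), (897, 818, some 28), (867, 575, some 60), (338, 99, some 27), (1133, 1152, some 28), (948, 1393, some 28), (1209, 196, some 26), (543, 221, some 25), (696, 221, some 27), (534, 221, some 29), (334, 221, some 60), (335, 676, some 24), (1334, 676, some 25), (1054, 676, some 26), (1365, 622, some 27), (281, 45, some 26), (750, 793, some 26), (499, 1221, some 25), (326, 1221, some 28), (440, 255, some 60), (214, 682, some 60), (1029, 1267, some 25), (1404, 290, some 25), (1374, 1175, some 60), (718, 748, some 25), (478, 273, some 28), (580, 850, some 24), (1017, 1373, some 25), (1160, 1373, some 26), (362, 838, some 29), (1300, 253, some 26), (561, 802, some 25), (829, 1255, some 24), (722, 459, some 26), (973, 459, some 27), (1216, 459, some 29), (772, 268, some 60), (1235, 1337, some 60), (978, 303, some 60), (776, 1281, some 28), (787, 794, some 29), (581, 1136, some 27), (1156, 1400, some 27), (731, 726, some 60), (169, 1064,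 some 24), (197, 1064, some 26), (497, 1064, some 28), (146, 360, some 25), (301, 360, some 27), (93, 360, some 28), (1050, 360, some 60), (1200, 807, some 24), (327, 807, some 27), (1109, 94, some 24), (650, 94, some 27), (441, 472, some 27), (688, 174, some 24), (651, 174, some 26), (337, 174, some 60), (965, 782, some 60), (187, 1227, some 28), (1080, 1227, some 60), (1147, 321, some 60), (553, 747, some 28), (1036, 747, some 29), (572, 1242, some 27), (1028, 1242, some 60), (1194, 761, some 27), (854, 687, some 60), (495, 481, some 24), (1380, 481, some 26), (60, 1068, some 24), (1312, 1068, some 27), (1184, 812, some 25), (1174, 812, some 60), (603, 1241, some 24), (1222, 98, some 60), (744, 815, some 24), (886, 815, some 28), (865, 573, some 60), (354, 252, some 27), (1132, 1153, some 28), (953, 1394, some 28), (1207, 366, some 26), (547, 222, some 25), (680, 222, some 27), (527, 222, some 29), (332, 222, some 60), (336, 675, some 24), (1333, 675, some 25), (1058, 675, some 26), (1362, 620, some 27), (276, 118, some 26), (751, 796, some 26), (215, 770, some 25), (350, 770, some 28), (844,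 108, some 60), (498, 697, some 60), (1042, 1264, some 25), (1405, 291, some 25), (1378, 1361, some 60), (717, 746, some 25), (477, 278, some 28), (636, 475, some 24), (1023, 1377, some 25), (1162, 1377, some 26), (368, 729, some 29), (1299, 100, some 26), (633, 799, some 25), (830, 1266, some 24), (716, 457, some 26), (972, 457, some 27), (1217, 457, some 29), (771, 264, some 60), (1237, 1338, some 60), (979, 304, some 60), (777, 1279, some 28), (786, 797, some 29), (582, 1137, some 27), (1157, 1401, some 27), (730, 780, some 60), (914, 877, some 26)]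

/-- The points of class 6. -/
def topCover6 : List (ℕ × ℕ × Option ℕ) :=
  [(11, 7, none), (4, 17, none), (3, 41, none), (6, 45, none), (9, 46, none), (5, 47, none), (2, 57, none), (1, 59, none), (0, 62, none), (908, 64, none), (54, 66, none), (17, 68, none), (33, 69, none), (22, 75, none), (10, 80, none), (326, 85, none), (58, 89, none), (39, 90, none), (37, 91, none), (265, 95, none), (32, 97, none), (26, 99, none), (16, 101, none), (707, 106, none), (1102, 109, none), (13, 111, none), (967, 113, none), (44, 114, none), (65, 115, none), (76, 116, none), (520, 11, some 30), (661, 11, some 31), (910, 11, some 33), (1062, 11, some 52), (876, 11, some 58), (68, 4, some 52), (254, 4, some 58), (45, 3, some 58), (77, 6, some 58), (118, 9, some 58), (66, 5, some 58), (46, 2, some 52), (162, 2, some 58), (47, 1, some 52), (142, 1, some 58), (67, 0, some 52), (101, 0, some 58), (421, 908, some 30), (36, 908, some 31), (900, 908, some 33), (511, 908, some 52), (365, 908, some 53), (187, 908, some 58), (865, 54, some 30), (301, 54, some 31), (119, 54, some 32), (221, 54, some 33), (859, 54, some 52),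 (124, 54, some 53), (449, 54, some 58), (867, 17, some 30), (298, 17, some 31), (50, 17, some 32), (222, 17, some 33), (856, 17, some 52), (122, 17, some 53), (450, 17, some 58), (660, 33, some 30), (206, 33, some 31), (78, 33, some 32), (313, 33, some 33), (647, 33, some 52), (81, 33, some 53), (586, 33, some 58), (512, 22, some 30), (570, 22, some 31), (55, 22, some 32), (452, 22, some 33), (282, 22, some 52), (453, 22, some 53), (217, 22, some 58), (363, 10, some 30), (432, 10, some 31), (30, 10, some 32), (590, 10, some 33), (190, 10, some 52), (589, 10, some 53), (310, 10, some 58), (979, 326, some 30), (839, 326, some 31), (1017, 326, some 32), (1291, 326, some 33), (899, 326, some 52), (1370, 326, some 53), (278, 326, some 58), (1100, 58, some 30), (809, 58, some 31), (525, 58, some 32), (284, 58, some 33), (962, 58, some 52), (670, 58, some 53), (1261, 58, some 58), (1269, 39, some 30), (1001, 39, some 31), (387, 39, some 32), (195, 39, some 33), (768, 39, some 52), (877, 39, some 53), (1084, 39, some 58), (1272, 37, some 30), (976, 37, some 31), (378, 37, some 32), (192, 37, some 33),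 (766, 37, some 52), (873, 37, some 53), (1087, 37, some 58), (656, 265, some 30), (277, 265, some 31), (701, 265, some 32), (129, 265, some 33), (1051, 265, some 52), (498, 265, some 53), (1343, 265, some 58), (91, 32, some 30), (540, 32, some 31), (537, 32, some 32), (901, 32, some 33), (155, 32, some 52), (578, 32, some 53), (884, 32, some 58), (92, 26, some 30), (541, 26, some 31), (538, 26, some 32), (904, 26, some 33), (167, 26, some 52), (634, 26, some 53), (895, 26, some 58), (132, 16, some 30), (398, 16, some 31), (395, 16, some 32), (704, 16, some 33), (259, 16, some 52), (844, 16, some 53), (693, 16, some 58), (23, 707, some 32), (1098, 707, some 33), (868, 707, some 53), (1108, 707, some 58), (710, 1102, some 32), (869, 1102, some 33), (8, 1102, some 53), (1369, 1102, some 58), (517, 13, some 30), (662, 13, some 31), (907, 13, some 33), (1063, 13, some 52), (870, 13, some 58), (698, 967, some 30), (571, 967, some 31), (1077, 967, some 32), (535, 967, some 33), (616, 967, some 52), (959, 967, some 53), (315, 967, some 58), (304, 44, some 30), (533, 44, some 31), (1101, 44, some 32),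 (1012, 44, some 33), (668, 44, some 52), (1070, 44, some 53), (778, 44, some 58), (211, 65, some 30), (379, 65, some 31), (1270, 65, some 32), (781, 65, some 33), (875, 65, some 52), (1248, 65, some 53), (972, 65, some 58), (212, 76, some 30), (388, 76, some 31), (1148, 76, some 32), (820, 76, some 33), (879, 76, some 52), (1246, 76, some 53), (973, 76, some 58), (31, 520, some 58), (1060, 661, some 58), (1276, 910, some 58), (1359, 1062, some 58), (29, 68, some 58), (18, 46, some 58), (19, 47, some 58), (28, 67, some 58), (110, 421, some 33), (448, 421, some 52), (796, 421, some 58), (120, 36, some 58), (86, 900, some 30), (587, 900, some 52), (922, 900, some 53), (496, 900, some 58), (308, 511, some 30), (71, 511, some 58), (314, 365, some 58), (209, 187, some 52), (545, 865, some 32), (585, 865, some 58), (279, 301, some 52), (716, 301, some 58), (343, 119, some 52), (368, 119, some 58), (79, 221, some 52), (990, 221, some 53), (513, 221, some 58), (127, 859, some 58), (151, 124, some 58), (703, 449, some 53), (539, 867, some 32), (549, 867, some 58), (274, 298, some 52), (722, 298, some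 58), (295, 50, some 52), (362, 50, some 58), (72, 222, some 52), (987, 222, some 53), (505, 222, some 58), (130, 856, some 58), (165, 122, some 58), (700, 450, some 53), (396, 660, some 32), (408, 660, some 58), (182, 206, some 52), (916, 206, some 58), (203, 78, some 52), (515, 78, some 58), (51, 313, some 52), (793, 313, some 53), (356, 313, some 58), (89, 647, some 58), (257, 81, some 58), (903, 586, some 53), (285, 512, some 32), (340, 512, some 58), (566, 570, some 52), (400, 570, some 58), (20, 55, some 52), (176, 55, some 58), (7, 452, some 52), (516, 452, some 53), (266, 452, some 58), (233, 282, some 58), (260, 453, some 58), (172, 217, some 53), (193, 363, some 32), (366, 363, some 58), (428, 432, some 52), (547, 432, some 58), (34, 30, some 52), (264, 30, some 58), (12, 590, some 52), (369, 590, some 53), (174, 590, some 58), (324, 190, some 58), (168, 589, some 58), (268, 310, some 53), (1387, 979, some 32), (311, 979, some 33), (1258, 979, some 52), (1053, 979, some 53), (143, 979, some 58), (1306, 839, some 33), (780, 839, some 53), (673, 839, some 58), (1015, 1017, some 30),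 (1281, 1017, some 31), (1142, 1017, some 32), (1056, 1017, some 58), (843, 1291, some 30), (493, 1291, some 31), (506, 1291, some 52), (709, 1291, some 58), (775, 899, some 30), (1315, 899, some 31), (964, 899, some 58), (1217, 1370, some 30), (1016, 1370, some 31), (1371, 1370, some 58), (123, 278, some 32), (702, 278, some 33), (1331, 278, some 52), (1104, 278, some 53), (985, 1100, some 32), (146, 1100, some 33), (273, 1100, some 52), (171, 1100, some 53), (561, 1100, some 58), (896, 809, some 33), (465, 809, some 53), (1162, 809, some 58), (125, 525, some 30), (1055, 525, some 31), (375, 525, some 32), (1279, 525, some 58), (712, 284, some 30), (43, 284, some 31), (281, 284, some 52), (419, 284, some 58), (1103, 962, some 30), (542, 962, some 31), (894, 962, some 58), (1372, 670, some 30), (320, 670, some 31), (1216, 670, some 58), (940, 1261, some 32), (861, 1261, some 33), (1011, 1261, some 52), (978, 1261, some 53), (800, 1269, some 32), (107, 1269, some 33), (186, 1269, some 52), (263, 1269, some 53), (683, 1269, some 58), (678, 1001, some 33), (602, 1001, some 53), (1307, 1001, some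 58), (82, 387, some 30), (1238, 387, some 31), (522, 387, some 32), (1117, 387, some 58), (912, 195, some 30), (64, 195, some 31), (184, 195, some 52), (558, 195, some 58), (1271, 768, some 30), (403, 768, some 31), (699, 768, some 58), (1366, 877, some 30), (230, 877, some 31), (1127, 877, some 58), (823, 1084, some 32), (649, 1084, some 33), (821, 1084, some 52), (785, 1084, some 53), (791, 1272, some 32), (105, 1272, some 33), (181, 1272, some 52), (262, 1272, some 53), (423, 1272, some 58), (694, 976, some 33), (599, 976, some 53), (1305, 976, some 58), (84, 378, some 30), (1239, 378, some 31), (519, 378, some 32), (1115, 378, some 58), (909, 192, some 30), (75, 192, some 31), (189, 192, some 52), (631, 192, some 58), (1268, 766, some 30), (399, 766, some 31), (691, 766, some 58), (1367, 873, some 30), (228, 873, some 31), (1119, 873, some 58), (744, 1087, some 32), (652, 1087, some 33), (819, 1087, some 52), (784, 1087, some 53), (358, 656, some 32), (147, 656, some 33), (1336, 656, some 58), (178, 277, some 32), (25, 277, some 33), (1047, 277, some 52), (915, 277, some 58), (286, 701,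 some 30), (871, 701, some 31), (53, 701, some 32), (754, 701, some 52), (332, 701, some 53), (1329, 701, some 58), (376, 129, some 30), (316, 129, some 31), (394, 129, some 33), (1262, 129, some 52), (794, 129, some 53), (149, 129, some 58), (850, 1051, some 30), (553, 1051, some 31), (114, 1051, some 32), (931, 1051, some 33), (290, 1051, some 58), (818, 498, some 30), (681, 498, some 31), (1081, 498, some 32), (440, 498, some 33), (381, 498, some 58), (1168, 1343, some 32), (887, 1343, some 33), (718, 1343, some 52), (251, 1343, some 53), (14, 91, some 32), (318, 91, some 33), (296, 91, some 52), (588, 91, some 53), (1033, 91, some 58), (220, 540, some 32), (191, 540, some 33), (1289, 540, some 52), (330, 540, some 53), (1164, 540, some 58), (804, 537, some 30), (598, 537, some 31), (85, 537, some 32), (739, 537, some 52), (1034, 537, some 53), (1182, 537, some 58), (665, 901, some 31), (177, 901, some 33), (950, 901, some 52), (242, 901, some 53), (1194, 901, some 58), (431, 155, some 30), (1089, 155, some 32), (1237, 155, some 33), (40, 155, some 52), (592, 155, some 58), (732, 578, some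 31), (346, 578, some 32), (988, 578, some 33), (529, 578, some 58), (361, 884, some 32), (1312, 884, some 33), (73, 884, some 52), (305, 884, some 53), (15, 92, some 32), (319, 92, some 33), (344, 92, some 52), (639, 92, some 53), (939, 92, some 58), (224, 541, some 32), (194, 541, some 33), (1285, 541, some 52), (352, 541, some 53), (1165, 541, some 58), (803, 538, some 30), (601, 538, some 31), (88, 538, some 32), (735, 538, some 52), (941, 538, some 53), (1388, 538, some 58), (664, 904, some 31), (173, 904, some 33), (951, 904, some 52), (240, 904, some 53), (1196, 904, some 58), (427, 167, some 30), (1088, 167, some 32), (1235, 167, some 33), (41, 167, some 52), (593, 167, some 58), (738, 634, some 31), (306, 634, some 32), (991, 634, some 33), (528, 634, some 58), (360, 895, some 32), (1311, 895, some 33), (80, 895, some 52), (345, 895, some 53), (24, 132, some 32), (227, 132, some 33), (489, 132, some 52), (849, 132, some 53), (743, 132, some 58), (312, 398, some 32), (283, 398, some 33), (1123, 398, some 52), (502, 398, some 53), (1309, 398, some 58), (996, 395, some 30), (464, 395,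 some 31), (126, 395, some 32), (935, 395, some 52), (745, 395, some 53), (1320, 395, some 58), (872, 704, some 31), (269, 704, some 33), (755, 704, some 52), (334, 704, some 53), (1328, 704, some 58), (569, 259, some 30), (1263, 259, some 32), (1048, 259, some 33), (61, 259, some 52), (456, 259, some 58), (928, 844, some 31), (214, 844, some 32), (797, 844, some 33), (383, 844, some 58), (510, 693, some 32), (1166, 693, some 33), (121, 693, some 52), (497, 693, some 53), (370, 23, some 30), (663, 23, some 58), (1368, 1098, some 58), (1242, 868, some 58), (56, 1108, some 32), (1111, 710, some 58), (373, 869, some 31), (1243, 869, some 58), (669, 8, some 58), (21, 1369, some 53), (35, 517, some 58), (1061, 662, some 58), (1274, 907, some 58), (1360, 1063, some 58), (302, 698, some 32), (615, 698, some 33), (1222, 698, some 52), (653, 698, some 53), (774, 698, some 58), (1232, 571, some 32), (411, 571, some 33), (932, 571, some 52), (925, 571, some 53), (576, 571, some 58), (923, 1077, some 30), (949, 1077, some 31), (1197, 1077, some 32), (1157, 1077, some 52), (499, 1077, some 53), (477, 1077,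 some 58), (1375, 535, some 30), (749, 535, some 31), (852, 535, some 33), (801, 535, some 52), (622, 535, some 53), (1326, 535, some 58), (252, 616, some 30), (573, 616, some 31), (981, 616, some 52), (323, 616, some 58), (826, 959, some 30), (897, 959, some 31), (779, 959, some 32), (594, 959, some 33), (548, 959, some 58), (1094, 315, some 32), (336, 315, some 33), (1287, 315, some 52), (1361, 315, some 53), (328, 304, some 32), (1175, 304, some 33), (446, 304, some 52), (1072, 304, some 53), (1295, 304, some 58), (424, 533, some 32), (544, 533, some 33), (1223, 533, some 53), (606, 533, some 58), (572, 1101, some 30), (696, 1101, some 32), (1068, 1101, some 52), (321, 1101, some 53), (299, 1101, some 58), (676, 1012, some 30), (1260, 1012, some 31), (730, 1012, some 33), (1314, 1012, some 52), (1324, 1012, some 53), (1027, 1012, some 58), (1346, 668, some 30), (1231, 668, some 31), (275, 668, some 32), (792, 668, some 33), (527, 668, some 52), (627, 668, some 58), (1181, 1070, some 32), (816, 1070, some 33), (503, 1070, some 58), (215, 778, some 32), (961, 778, some 33), (487, 778, some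 52), (759, 778, some 53), (235, 211, some 32), (1316, 211, some 33), (584, 211, some 52), (1250, 211, some 53), (1147, 211, some 58), (562, 379, some 32), (405, 379, some 33), (1345, 379, some 53), (471, 379, some 58), (436, 1270, some 30), (727, 1270, some 32), (1247, 1270, some 52), (231, 1270, some 53), (210, 1270, some 58), (883, 781, some 30), (1085, 781, some 31), (926, 781, some 33), (1172, 781, some 52), (1190, 781, some 53), (836, 781, some 58), (1135, 875, some 30), (1038, 875, some 31), (188, 875, some 32), (986, 875, some 33), (389, 875, some 52), (491, 875, some 58), (1192, 1248, some 32), (1008, 1248, some 33), (353, 1248, some 58), (307, 972, some 32), (763, 972, some 33), (623, 972, some 52), (955, 972, some 53), (236, 212, some 32), (1349, 212, some 33), (638, 212, some 52), (1251, 212, some 53), (1143, 212, some 58), (563, 388, some 32), (401, 388, some 33), (1352, 388, some 53), (469, 388, some 58), (434, 1148, some 30), (728, 1148, some 32), (1249, 1148, some 52), (229, 1148, some 53), (207, 1148, some 58), (882, 820, some 30), (1086, 820, some 31), (927, 820, some 33),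 (1173, 820, some 52), (1188, 820, some 53), (835, 820, some 58), (1224, 879, some 30), (977, 879, some 31), (183, 879, some 32), (989, 879, some 33), (380, 879, some 52), (492, 879, some 58), (1193, 1246, some 32), (970, 1246, some 33), (337, 1246, some 58), (347, 973, some 32), (765, 973, some 33), (643, 973, some 52), (952, 973, some 53), (83, 110, some 58), (657, 448, some 58), (650, 796, some 32), (402, 796, some 53), (27, 587, some 58), (472, 545, some 58), (559, 585, some 52), (711, 279, some 58), (57, 368, some 52), (216, 539, some 58), (632, 549, some 52), (708, 274, some 58), (59, 362, some 52), (348, 396, some 58), (692, 408, some 52), (911, 182, some 58), (38, 515, some 52), (232, 285, some 58), (288, 340, some 52), (404, 566, some 58), (218, 176, some 52), (325, 193, some 58), (196, 366, some 52), (543, 428, some 58), (309, 264, some 52), (1014, 1387, some 32), (418, 1387, some 53), (372, 1387, some 58), (1160, 1258, some 30), (633, 1258, some 31), (858, 1258, some 33), (1013, 1258, some 52), (60, 1258, some 58), (1214, 1053, some 32), (276, 1053, some 58), (131, 143, some 52),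 (116, 143, some 53), (462, 780, some 58), (546, 673, some 32), (322, 673, some 52), (1099, 673, some 53), (532, 1281, some 58), (993, 1142, some 58), (170, 1056, some 32), (248, 1056, some 52), (287, 843, some 58), (666, 964, some 32), (782, 964, some 33), (148, 1371, some 32), (807, 1371, some 53), (885, 702, some 30), (93, 985, some 32), (128, 985, some 53), (1146, 985, some 58), (674, 273, some 30), (144, 273, some 31), (705, 273, some 33), (1332, 273, some 52), (350, 273, some 58), (810, 171, some 32), (514, 171, some 58), (842, 561, some 52), (854, 561, some 53), (726, 465, some 58), (1348, 1162, some 32), (1040, 1162, some 52), (1220, 1162, some 53), (1023, 1055, some 58), (1386, 375, some 58), (1052, 1279, some 32), (1039, 1279, some 52), (1290, 712, some 58), (1376, 894, some 32), (840, 894, some 33), (349, 1216, some 32), (1215, 1216, some 53), (1308, 861, some 30), (134, 800, some 32), (90, 800, some 53), (1296, 800, some 58), (881, 186, some 30), (102, 186, some 31), (905, 186, some 33), (1203, 186, some 52), (234, 186, some 58), (1002, 263, some 32), (357, 263, some 58), (630, 683,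 some 52), (645, 683, some 53), (924, 602, some 58), (1174, 1307, some 32), (824, 1307, some 52), (1037, 1307, some 53), (825, 1238, some 58), (1374, 522, some 58), (1078, 1117, some 32), (822, 1117, some 52), (1133, 912, some 58), (1401, 699, some 32), (654, 699, some 33), (219, 1127, some 32), (1342, 1127, some 53), (1161, 649, some 30), (156, 791, some 32), (87, 791, some 53), (1294, 791, some 58), (880, 181, some 30), (103, 181, some 31), (902, 181, some 33), (1204, 181, some 52), (447, 181, some 58), (999, 262, some 32), (367, 262, some 58), (557, 423, some 52), (628, 423, some 53), (974, 599, some 58), (1397, 1305, some 32), (1171, 1305, some 52), (971, 1305, some 53), (831, 1239, some 58), (1378, 519, some 58), (1093, 1115, some 32), (1080, 1115, some 52), (1132, 909, some 58), (1400, 691, some 32), (659, 691, some 33), (500, 1119, some 32), (1341, 1119, some 53), (1163, 652, some 30), (595, 358, some 30), (70, 358, some 31), (461, 358, some 32), (261, 358, some 58), (371, 147, some 30), (1107, 147, some 31), (62, 147, some 33), (1283, 147, some 58), (1382, 1336, some 32), (648, 1336,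 some 52), (531, 178, some 30), (997, 178, some 31), (226, 178, some 32), (853, 178, some 52), (933, 178, some 53), (1392, 178, some 58), (789, 25, some 30), (460, 25, some 31), (133, 25, some 33), (1213, 1047, some 30), (799, 1047, some 31), (451, 1047, some 32), (204, 1047, some 33), (913, 1047, some 58), (1043, 915, some 32), (397, 286, some 32), (689, 871, some 52), (354, 871, some 53), (1253, 871, some 58), (677, 53, some 58), (565, 754, some 31), (788, 754, some 58), (934, 332, some 30), (1334, 332, some 58), (1229, 1329, some 32), (1066, 1329, some 33), (817, 1329, some 52), (581, 376, some 52), (1221, 376, some 53), (1225, 376, some 58), (1322, 316, some 58), (995, 394, some 30), (1350, 394, some 58), (152, 1262, some 58), (52, 794, some 58), (1310, 149, some 33), (621, 149, some 52), (688, 149, some 53), (501, 850, some 58), (455, 114, some 58), (1116, 931, some 58), (293, 290, some 32), (468, 290, some 33), (384, 440, some 58), (682, 381, some 32), (407, 381, some 53), (813, 1168, some 52), (509, 887, some 33), (552, 718, some 33), (960, 251, some 32), (213, 251, some 33), (983, 14,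 some 30), (597, 14, some 31), (180, 14, some 32), (741, 14, some 52), (644, 14, some 53), (687, 14, some 58), (74, 318, some 31), (270, 318, some 33), (1319, 318, some 58), (892, 296, some 31), (1141, 296, some 32), (412, 296, some 58), (246, 588, some 30), (1005, 588, some 58), (391, 1033, some 32), (1201, 1033, some 52), (150, 1033, some 53), (523, 220, some 31), (806, 220, some 32), (640, 220, some 52), (641, 220, some 53), (1184, 220, some 58), (1340, 191, some 52), (992, 191, some 53), (757, 1289, some 30), (444, 1289, some 33), (430, 1289, some 58), (1035, 330, some 32), (255, 1164, some 32), (136, 1164, some 52), (982, 1164, some 53), (393, 804, some 33), (507, 598, some 33), (1256, 598, some 58), (1280, 739, some 58), (891, 1034, some 58), (1058, 1182, some 32), (175, 1182, some 33), (518, 665, some 32), (1074, 665, some 58), (864, 177, some 30), (1151, 177, some 58), (104, 950, some 52), (1205, 242, some 58), (1245, 1194, some 33), (1009, 1194, some 52), (721, 1194, some 53), (202, 431, some 58), (112, 1089, some 58), (417, 1237, some 31), (199, 1237, some 58), (1025, 40, some 58),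 (841, 592, some 53), (1010, 346, some 30), (410, 346, some 58), (605, 529, some 32), (1273, 529, some 52), (416, 361, some 52), (762, 361, some 53), (208, 73, some 30), (918, 73, some 33), (938, 73, some 52), (159, 305, some 32), (984, 15, some 30), (600, 15, some 31), (185, 15, some 32), (737, 15, some 52), (624, 15, some 53), (684, 15, some 58), (63, 319, some 31), (271, 319, some 33), (1292, 319, some 58), (889, 344, some 31), (1145, 344, some 32), (415, 344, some 58), (420, 639, some 30), (1004, 639, some 58), (382, 939, some 32), (1191, 939, some 52), (164, 939, some 53), (524, 224, some 31), (805, 224, some 32), (609, 224, some 52), (611, 224, some 53), (1186, 224, some 58), (1339, 194, some 52), (994, 194, some 53), (752, 1285, some 30), (443, 1285, some 33), (426, 1285, some 58), (966, 352, some 32), (108, 1165, some 32), (158, 1165, some 52), (1019, 1165, some 53), (386, 803, some 33), (508, 601, some 33), (1257, 601, some 58), (1278, 735, some 58), (888, 941, some 58), (1054, 1388, some 32), (169, 1388, some 33), (521, 664, some 32), (1075, 664, some 58), (863, 173, some 30), (1219,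 173, some 58), (106, 951, some 52), (1206, 240, some 58), (1244, 1196, some 33), (1006, 1196, some 52), (713, 1196, some 53), (201, 427, some 58), (111, 1088, some 58), (414, 1235, some 31), (198, 1235, some 58), (1024, 41, some 58), (1233, 593, some 53), (1007, 306, some 30), (409, 306, some 58), (604, 528, some 32), (1286, 528, some 52), (413, 360, some 52), (764, 360, some 53), (205, 80, some 30), (917, 80, some 33), (1032, 80, some 52), (139, 345, some 32), (790, 24, some 30), (463, 24, some 31), (272, 24, some 32), (937, 24, some 52), (488, 24, some 53), (890, 24, some 58), (42, 227, some 31), (179, 227, some 33), (1134, 227, some 58), (686, 489, some 31), (1050, 489, some 32), (551, 489, some 58), (338, 849, some 30), (812, 849, some 58), (406, 743, some 32), (1330, 743, some 52), (256, 743, some 53), (377, 312, some 31), (998, 312, some 32), (473, 312, some 52), (475, 312, some 53), (1321, 312, some 58), (1212, 283, some 52), (802, 283, some 53), (953, 1123, some 30), (582, 1123, some 33), (568, 1123, some 58), (770, 502, some 32), (163, 1309, some 32), (250, 1309, some 52), (827, 1309,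 some 53), (536, 996, some 33), (359, 464, some 33), (1083, 464, some 58), (1114, 935, some 58), (685, 745, some 58), (1226, 1320, some 32), (267, 1320, some 33), (374, 872, some 32), (1252, 872, some 58), (655, 269, some 30), (1298, 269, some 58), (145, 755, some 52), (1333, 334, some 58), (1065, 1328, some 33), (814, 1328, some 52), (921, 1328, some 53), (294, 569, some 58), (153, 1263, some 58), (556, 1048, some 31), (291, 1048, some 58), (832, 61, some 58), (1031, 456, some 53), (815, 214, some 30), (390, 214, some 58), (467, 383, some 32), (1124, 383, some 52), (555, 510, some 52), (958, 510, some 53), (300, 121, some 30), (717, 121, some 33), (1228, 121, some 52), (98, 497, some 32), (245, 302, some 30), (1167, 302, some 32), (1126, 302, some 52), (1264, 302, some 53), (1105, 302, some 58), (476, 615, some 30), (1026, 615, some 31), (963, 615, some 52), (1254, 615, some 58), (1230, 1222, some 30), (1381, 1222, some 31), (1137, 1222, some 52), (1049, 1222, some 58), (1385, 653, some 31), (1140, 653, some 32), (830, 653, some 33), (795, 653, some 58), (1067, 774, some 32), (680, 774, some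 52), (138, 774, some 53), (1159, 1232, some 30), (1297, 1232, some 52), (1064, 1232, some 58), (442, 411, some 31), (1028, 411, some 52), (756, 932, some 30), (1128, 932, some 31), (1187, 932, some 52), (848, 932, some 58), (1362, 925, some 32), (200, 925, some 33), (734, 925, some 58), (1241, 576, some 32), (1300, 576, some 52), (1357, 576, some 53), (610, 949, some 53), (534, 949, some 58), (906, 1197, some 58), (626, 1157, some 31), (608, 1157, some 52), (783, 1157, some 58), (574, 499, some 58), (1390, 477, some 33), (1073, 477, some 52), (583, 1375, some 53), (731, 1375, some 58), (1389, 749, some 58), (247, 801, some 30), (441, 801, some 52), (94, 801, some 58), (197, 622, some 58), (975, 1326, some 52), (331, 1326, some 53), (1179, 252, some 58), (280, 981, some 58), (1208, 323, some 33), (1071, 826, some 58), (117, 779, some 58), (1313, 594, some 58), (526, 548, some 32), (494, 548, some 52), (327, 1094, some 53), (761, 336, some 30), (607, 336, some 52), (425, 1287, some 52), (303, 1361, some 32), (1240, 328, some 30), (1069, 328, some 31), (1227, 328, some 32), (1079, 328, some 52),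 (1267, 328, some 58), (1046, 1175, some 31), (855, 1175, some 33), (317, 1175, some 52), (1380, 1175, some 58), (137, 446, some 30), (258, 446, some 31), (335, 446, some 32), (1178, 446, some 33), (478, 446, some 52), (936, 446, some 58), (733, 1072, some 30), (1200, 1072, some 33), (1169, 1072, some 58), (1158, 1295, some 32), (560, 1295, some 52), (837, 1295, some 53), (1407, 424, some 31), (1277, 424, some 53), (1189, 424, some 58), (1299, 544, some 30), (364, 544, some 53), (750, 1223, some 30), (1338, 1223, some 31), (603, 1223, some 33), (1365, 1223, some 58), (980, 606, some 32), (1156, 606, some 53), (760, 572, some 32), (828, 1068, some 58), (1358, 321, some 30), (618, 321, some 58), (690, 299, some 33), (1118, 299, some 52), (920, 676, some 32), (249, 676, some 53), (829, 676, some 58), (637, 1260, some 58), (1379, 730, some 58), (808, 1314, some 30), (333, 1314, some 52), (596, 1314, some 58), (530, 1324, some 58), (846, 1027, some 33), (504, 1027, some 52), (490, 1027, some 53), (1139, 1346, some 58), (658, 792, some 58), (954, 527, some 58), (1136, 627, some 32), (1122, 627, some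 33), (773, 1181, some 58), (577, 816, some 31), (1356, 503, some 32), (99, 503, some 52), (886, 503, some 53), (620, 215, some 32), (1092, 215, some 52), (968, 961, some 52), (1030, 487, some 30), (1195, 487, some 33), (919, 487, some 52), (845, 759, some 33), (1059, 235, some 30), (1045, 235, some 31), (1347, 235, some 32), (1131, 235, some 52), (1090, 235, some 58), (1234, 1316, some 31), (646, 1316, some 33), (223, 1316, some 52), (1395, 1316, some 58), (97, 584, some 30), (166, 584, some 31), (244, 584, some 32), (1317, 584, some 33), (614, 584, some 52), (736, 584, some 58), (929, 1250, some 30), (1176, 1250, some 33), (1199, 1250, some 58), (1303, 1147, some 32), (474, 1147, some 52), (1029, 1147, some 53), (1402, 562, some 31), (1125, 562, some 53), (1325, 562, some 58), (1155, 405, some 30), (341, 405, some 53), (946, 1345, some 30), (1210, 1345, some 31), (470, 1345, some 33), (1355, 1345, some 58), (787, 471, some 32), (1301, 471, some 53), (956, 436, some 32), (1020, 1247, some 58), (1363, 231, some 30), (480, 231, some 58), (893, 210, some 33), (1282, 210, some 52), (706, 883, some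 32), (157, 883, some 53), (1021, 883, some 58), (445, 1085, some 58), (1393, 926, some 58), (1000, 1172, some 30), (239, 1172, some 52), (457, 1172, some 58), (392, 1190, some 58), (636, 836, some 33), (355, 836, some 52), (625, 836, some 53), (1218, 1135, some 58), (866, 986, some 58), (753, 389, some 58), (1183, 491, some 32), (1152, 491, some 33), (969, 1192, some 58), (438, 1008, some 31), (1351, 353, some 32), (140, 353, some 52), (695, 353, some 53), (486, 307, some 32), (1266, 307, some 52), (771, 763, some 52), (729, 623, some 30), (1138, 623, some 33), (723, 623, some 52), (635, 955, some 33), (1057, 236, some 30), (1044, 236, some 31), (1353, 236, some 32), (1130, 236, some 52), (1095, 236, some 58), (1236, 1349, some 31), (629, 1349, some 33), (225, 1349, some 52), (1396, 1349, some 58), (96, 638, some 30), (154, 638, some 31), (243, 638, some 32), (1318, 638, some 33), (613, 638, some 52), (740, 638, some 58), (930, 1251, some 30), (1177, 1251, some 33), (1198, 1251, some 58), (1304, 1143, some 32), (422, 1143, some 52), (1042, 1143, some 53), (1403, 563, some 31), (1113, 563, some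 53), (1323, 563, some 58), (1154, 401, some 30), (289, 401, some 53), (947, 1352, some 30), (1211, 1352, some 31), (466, 1352, some 33), (1354, 1352, some 58), (786, 469, some 32), (1302, 469, some 53), (957, 434, some 32), (1018, 1249, some 58), (1364, 229, some 30), (482, 229, some 58), (898, 207, some 33), (1288, 207, some 52), (720, 882, some 32), (135, 882, some 53), (1022, 882, some 58), (847, 1086, some 58), (1394, 927, some 58), (1003, 1173, some 30), (241, 1173, some 52), (459, 1173, some 58), (385, 1188, some 58), (580, 835, some 33), (339, 835, some 52), (550, 835, some 53), (1150, 1224, some 58), (862, 989, some 58), (758, 380, some 58), (1185, 492, some 32), (1153, 492, some 33), (1036, 1193, some 58), (439, 970, some 31), (1344, 337, some 32), (160, 337, some 52), (679, 337, some 53), (484, 347, some 32), (1255, 347, some 52), (772, 765, some 52), (838, 643, some 30), (1144, 643, some 33), (719, 643, some 52), (579, 952, some 33), (115, 595, some 32), (878, 70, some 58), (1082, 461, some 58), (1106, 261, some 33), (1149, 371, some 58), (833, 62, some 58), (742, 1283, some 33),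 (1180, 1382, some 32), (95, 648, some 33), (141, 997, some 58), (554, 204, some 58), (297, 913, some 32), (1129, 397, some 52), (238, 397, some 53), (948, 689, some 33), (1327, 1229, some 52), (109, 1229, some 53), (564, 1350, some 52), (454, 983, some 32), (48, 983, some 33), (714, 180, some 58), (483, 741, some 58), (1097, 74, some 32), (1405, 270, some 58), (1399, 1319, some 33), (667, 412, some 53), (1121, 1005, some 52), (351, 391, some 53), (725, 1201, some 33), (253, 806, some 58), (857, 992, some 58), (1207, 255, some 32), (1109, 518, some 58), (458, 984, some 32), (49, 984, some 33), (715, 185, some 58), (485, 737, some 58), (1096, 63, some 32), (1404, 271, some 58), (1398, 1292, some 33), (671, 415, some 53), (1120, 1004, some 52), (329, 382, some 53), (724, 1191, some 33), (100, 805, some 58), (860, 994, some 58), (1209, 108, some 32), (1112, 521, some 58), (591, 790, some 32), (69, 790, some 33), (914, 272, some 58), (619, 937, some 58), (1110, 42, some 32), (1391, 179, some 58), (1383, 1134, some 33), (874, 551, some 53), (1284, 812, some 52), (237, 406, some 53), (697, 1330, some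 33), (161, 998, some 58), (651, 802, some 58), (1335, 163, some 32), (1275, 374, some 58), (751, 1126, some 58), (746, 476, some 58), (1406, 1137, some 58), (113, 1049, some 33), (1293, 1140, some 58), (675, 830, some 58), (672, 795, some 32), (811, 795, some 52), (1202, 200, some 58), (1337, 734, some 32), (1259, 734, some 52), (747, 1227, some 58), (1265, 1046, some 32), (748, 258, some 52), (567, 936, some 53), (495, 1200, some 58), (1041, 1169, some 52), (1384, 1158, some 53), (575, 560, some 33), (965, 603, some 58), (798, 1156, some 33), (617, 690, some 33), (851, 504, some 52), (943, 1347, some 58), (1076, 1234, some 32), (944, 166, some 52), (433, 736, some 53), (342, 1176, some 58), (834, 1199, some 52), (1377, 1303, some 53), (435, 474, some 33), (767, 470, some 58), (776, 1301, some 33), (479, 893, some 33), (642, 355, some 52), (945, 1353, some 58), (1091, 1236, some 32), (942, 154, some 52), (429, 740, some 53), (292, 1177, some 58), (1170, 1198, some 52), (1373, 1304, some 53), (437, 422, some 33), (769, 466, some 58), (777, 1302, some 33), (481, 898, some 33), (612, 339, some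 52)]

/-- The points of class 7. -/
def topCover7 : List (ℕ × ℕ × Option ℕ) :=
  [(4, 20, none), (2, 25, none), (0, 86, none), (1, 88, none), (9, 96, none), (55, 100, none), (194, 105, none), (69, 4, some 62), (19, 4, some 64), (1278, 4, some 66), (76, 4, some 67), (49, 2, some 62), (29, 2, some 64), (1116, 2, some 66), (44, 2, some 67), (70, 0, some 62), (18, 0, some 64), (1280, 0, some 66), (65, 0, some 67), (48, 1, some 62), (28, 1, some 64), (1114, 1, some 66), (117, 1, some 67), (316, 9, some 54), (253, 9, some 62), (35, 9, some 64), (686, 9, some 66), (922, 9, some 67), (162, 55, some 54), (56, 55, some 62), (366, 55, some 64), (513, 55, some 66), (53, 55, some 67), (88, 194, some 34), (521, 194, some 54), (1009, 194, some 62), (817, 194, some 64), (966, 194, some 66), (560, 194, some 67), (313, 69, some 64), (853, 69, some 66), (1118, 69, some 67), (218, 19, some 62), (840, 19, some 66), (869, 19, some 67), (860, 1278, some 34), (1060, 1278, some 54), (490, 1278, some 62), (591, 1278, some 64), (795, 1278, some 66), (1251, 76, some 34), (211, 76, some 54), (955, 76, some 62), (302, 76,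 some 64), (276, 76, some 67), (222, 49, some 64), (644, 49, some 66), (1282, 49, some 67), (310, 29, some 62), (654, 29, some 66), (661, 29, some 67), (648, 1116, some 34), (1242, 1116, some 54), (625, 1116, some 62), (458, 1116, some 64), (989, 1116, some 66), (1072, 44, some 34), (303, 44, some 54), (756, 44, some 62), (207, 44, some 64), (189, 44, some 67), (314, 70, some 64), (488, 70, some 66), (1126, 70, some 67), (217, 18, some 62), (839, 18, some 66), (868, 18, some 67), (857, 1280, some 34), (1061, 1280, some 54), (411, 1280, some 62), (595, 1280, some 64), (792, 1280, some 66), (1250, 65, some 34), (212, 65, some 54), (952, 65, some 62), (299, 65, some 64), (281, 65, some 67), (221, 48, some 64), (624, 48, some 66), (1288, 48, some 67), (309, 28, some 62), (659, 28, some 66), (662, 28, some 67), (651, 1114, some 34), (1243, 1114, some 54), (550, 1114, some 62), (454, 1114, some 64), (986, 1114, some 66), (1073, 117, some 34), (304, 117, some 54), (759, 117, some 62), (210, 117, some 64), (184, 117, some 67), (203, 316, some 62), (71, 316, some 64), (1084, 316, some 66), (538, 316,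 some 67), (549, 253, some 64), (261, 253, some 66), (619, 253, some 67), (34, 35, some 62), (718, 35, some 66), (1227, 35, some 67), (1048, 686, some 34), (1018, 686, some 54), (676, 686, some 62), (1196, 686, some 64), (130, 686, some 66), (511, 922, some 34), (919, 922, some 54), (1273, 922, some 62), (914, 922, some 64), (296, 922, some 67), (50, 162, some 62), (67, 162, some 64), (828, 162, some 66), (1370, 162, some 67), (5, 56, some 64), (917, 56, some 66), (1353, 56, some 67), (155, 366, some 62), (882, 366, some 66), (1082, 366, some 67), (472, 513, some 34), (898, 513, some 54), (1328, 513, some 62), (169, 513, some 64), (973, 513, some 66), (376, 53, some 34), (656, 53, some 54), (714, 53, some 62), (1205, 53, some 64), (1167, 53, some 67), (601, 88, some 54), (891, 88, some 62), (688, 88, some 64), (126, 88, some 66), (129, 88, some 67), (208, 521, some 62), (297, 521, some 64), (1013, 521, some 66), (1047, 521, some 67), (286, 1009, some 64), (685, 1009, some 66), (993, 1009, some 67), (283, 817, some 62), (800, 817, some 67), (1145, 966, some 34), (1136, 966, some 54), (1058, 966,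 some 62), (1225, 966, some 64), (573, 966, some 66), (495, 560, some 34), (444, 560, some 54), (320, 560, some 62), (228, 560, some 64), (36, 313, some 62), (181, 313, some 66), (1071, 313, some 67), (1213, 853, some 34), (1042, 853, some 54), (135, 853, some 62), (667, 853, some 64), (1373, 853, some 66), (773, 1118, some 34), (571, 1118, some 54), (1359, 1118, some 62), (706, 1118, some 64), (367, 1118, some 67), (590, 218, some 64), (1345, 218, some 67), (1216, 840, some 34), (1156, 840, some 54), (588, 840, some 66), (710, 869, some 34), (704, 869, some 54), (1293, 869, some 62), (1387, 869, some 67), (1276, 860, some 54), (1158, 860, some 62), (145, 860, some 64), (1166, 860, some 66), (256, 860, some 67), (1077, 1060, some 62), (1102, 1060, some 64), (982, 1060, some 66), (118, 1060, some 67), (1115, 490, some 66), (775, 591, some 66), (1406, 795, some 34), (1056, 795, some 54), (1306, 795, some 62), (772, 795, some 64), (1270, 795, some 66), (926, 1251, some 54), (1147, 1251, some 62), (959, 1251, some 64), (98, 1251, some 66), (1190, 1251, some 67), (931, 211, some 62), (978, 211, some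 64), (576, 211, some 66), (266, 211, some 67), (1093, 955, some 66), (1016, 955, some 67), (1097, 302, some 66), (479, 302, some 67), (60, 276, some 34), (533, 276, some 54), (988, 276, some 62), (229, 276, some 67), (57, 222, some 62), (273, 222, some 66), (1249, 222, some 67), (1340, 644, some 34), (837, 644, some 54), (249, 644, some 62), (874, 644, some 64), (1384, 644, some 66), (969, 1282, some 34), (429, 1282, some 54), (1368, 1282, some 62), (906, 1282, some 64), (514, 1282, some 67), (452, 310, some 64), (1390, 310, some 67), (1127, 654, some 34), (1301, 654, some 54), (849, 654, some 66), (910, 661, some 34), (904, 661, some 54), (1224, 661, some 62), (1378, 661, some 67), (1108, 648, some 54), (1303, 648, some 62), (106, 648, some 64), (1311, 648, some 66), (164, 648, some 67), (1255, 1242, some 62), (1062, 1242, some 64), (827, 1242, some 66), (77, 1242, some 67), (1279, 625, some 66), (971, 458, some 66), (1403, 989, some 34), (1239, 989, some 54), (1163, 989, some 62), (968, 989, some 64), (1105, 989, some 66), (731, 1072, some 54), (1297, 1072, some 62), (765, 1072, some 64),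 (139, 1072, some 66), (1326, 1072, some 67), (739, 303, some 62), (785, 303, some 64), (439, 303, some 66), (168, 303, some 67), (1052, 756, some 66), (1171, 756, some 67), (1110, 207, some 66), (615, 207, some 67), (37, 189, some 34), (379, 189, some 54), (797, 189, some 62), (321, 189, some 67), (38, 314, some 62), (186, 314, some 66), (1068, 314, some 67), (1212, 488, some 34), (1029, 488, some 54), (157, 488, some 62), (671, 488, some 64), (1377, 488, some 66), (1230, 1126, some 34), (567, 1126, some 54), (1360, 1126, some 62), (720, 1126, some 64), (357, 1126, some 67), (589, 217, some 64), (1352, 217, some 67), (1217, 839, some 34), (1157, 839, some 54), (639, 839, some 66), (707, 868, some 34), (701, 868, some 54), (1346, 868, some 62), (1386, 868, some 67), (1274, 857, some 54), (1159, 857, some 62), (147, 857, some 64), (1168, 857, some 66), (109, 857, some 67), (1092, 1061, some 62), (1098, 1061, some 64), (1019, 1061, some 66), (45, 1061, some 67), (1117, 411, some 66), (1220, 595, some 66), (1407, 792, some 34), (1055, 792, some 54), (1308, 792, some 62), (771, 792, some 64), (1148,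 792, some 66), (927, 1250, some 54), (1143, 1250, some 62), (961, 1250, some 64), (251, 1250, some 66), (1188, 1250, some 67), (935, 212, some 62), (979, 212, some 64), (577, 212, some 66), (260, 212, some 67), (1078, 952, some 66), (1040, 952, some 67), (1096, 299, some 66), (481, 299, some 67), (58, 281, some 34), (526, 281, some 54), (991, 281, some 62), (231, 281, some 67), (59, 221, some 62), (278, 221, some 66), (1247, 221, some 67), (1339, 624, some 34), (1232, 624, some 54), (94, 624, some 62), (878, 624, some 64), (1385, 624, some 66), (1036, 1288, some 34), (433, 1288, some 54), (1369, 1288, some 62), (920, 1288, some 64), (506, 1288, some 67), (453, 309, some 64), (1223, 309, some 67), (1119, 659, some 34), (1302, 659, some 54), (451, 659, some 66), (907, 662, some 34), (901, 662, some 54), (1135, 662, some 62), (1374, 662, some 67), (1111, 651, some 54), (1304, 651, some 62), (104, 651, some 64), (1312, 651, some 66), (150, 651, some 67), (1266, 1243, some 62), (1063, 1243, some 64), (788, 1243, some 66), (66, 1243, some 67), (1281, 550, some 66), (1037, 454, some 66), (1402, 986,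 some 34), (1238, 986, some 54), (1161, 986, some 62), (967, 986, some 64), (1101, 986, some 66), (730, 1073, some 54), (1295, 1073, some 62), (763, 1073, some 64), (159, 1073, some 66), (1324, 1073, some 67), (735, 304, some 62), (784, 304, some 64), (438, 304, some 66), (174, 304, some 67), (1053, 759, some 66), (824, 759, some 67), (1107, 210, some 66), (617, 210, some 67), (39, 184, some 34), (388, 184, some 54), (794, 184, some 62), (323, 184, some 67), (334, 203, some 64), (113, 203, some 66), (544, 203, some 67), (101, 71, some 62), (90, 71, some 66), (1313, 71, some 67), (1174, 1084, some 34), (355, 1084, some 54), (301, 1084, some 62), (668, 1084, some 64), (1162, 1084, some 66), (863, 538, some 34), (524, 538, some 54), (75, 538, some 62), (539, 538, some 64), (871, 538, some 67), (81, 549, some 62), (339, 549, some 66), (1262, 549, some 67), (149, 261, some 34), (87, 261, some 54), (185, 261, some 62), (356, 261, some 64), (1210, 261, some 66), (1333, 619, some 34), (545, 619, some 54), (1144, 619, some 62), (523, 619, some 64), (1005, 619, some 67), (340, 34, some 64), (32, 34, some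 67), (384, 718, some 34), (298, 718, some 54), (782, 718, some 66), (1181, 1227, some 34), (280, 1227, some 54), (933, 1227, some 62), (832, 1227, some 67), (484, 1048, some 54), (696, 1048, some 62), (684, 1048, some 64), (347, 1048, some 66), (1267, 1048, some 67), (672, 1018, some 62), (258, 1018, some 64), (767, 1018, some 66), (254, 1018, some 67), (410, 676, some 66), (1309, 1196, some 66), (165, 130, some 34), (397, 130, some 54), (1179, 130, some 62), (136, 130, some 64), (1198, 130, some 66), (530, 511, some 54), (1256, 511, some 62), (510, 511, some 64), (749, 511, some 66), (417, 511, some 67), (1314, 919, some 62), (881, 919, some 64), (475, 919, some 66), (420, 919, some 67), (1244, 1273, some 66), (1200, 1273, some 67), (1203, 914, some 66), (721, 914, some 67), (246, 296, some 34), (842, 296, some 54), (1038, 296, some 62), (79, 296, some 64), (736, 296, some 67), (224, 50, some 64), (128, 50, some 66), (1172, 50, some 67), (349, 67, some 62), (209, 67, some 66), (673, 67, some 67), (620, 828, some 34), (889, 828, some 54), (879, 828, some 62), (166, 828, some 64), (963, 828,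 some 66), (1214, 1370, some 34), (1195, 1370, some 54), (396, 1370, some 62), (183, 1370, some 64), (238, 1370, some 67), (141, 5, some 62), (892, 5, some 66), (722, 5, some 67), (528, 917, some 34), (206, 917, some 54), (247, 917, some 62), (272, 917, some 64), (1001, 917, some 66), (1193, 1353, some 34), (188, 1353, some 54), (737, 1353, some 62), (1197, 1353, some 64), (1025, 1353, some 67), (124, 155, some 64), (1375, 155, some 67), (728, 882, some 34), (875, 882, some 54), (381, 882, some 66), (1106, 1082, some 34), (1113, 1082, some 54), (362, 1082, some 62), (734, 1082, some 67), (643, 472, some 54), (890, 472, some 62), (108, 472, some 64), (271, 472, some 66), (950, 472, some 67), (154, 898, some 62), (131, 898, some 64), (540, 898, some 66), (311, 898, some 67), (1164, 1328, some 66), (1338, 169, some 66), (580, 973, some 34), (498, 973, some 54), (95, 973, some 62), (975, 973, some 64), (903, 973, some 66), (394, 376, some 54), (361, 376, some 62), (483, 376, some 64), (640, 376, some 66), (557, 376, some 67), (674, 656, some 62), (657, 656, some 64), (1095, 656, some 66), (851,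 656, some 67), (1332, 714, some 66), (913, 714, some 67), (693, 1205, some 66), (748, 1205, some 67), (476, 1167, some 34), (1365, 1167, some 54), (120, 1167, some 62), (1154, 1167, some 64), (89, 1167, some 67), (416, 601, some 62), (552, 601, some 64), (342, 601, some 66), (1054, 891, some 66), (1226, 688, some 66), (1006, 688, some 67), (464, 126, some 54), (888, 126, some 64), (85, 126, some 66), (461, 129, some 54), (371, 208, some 64), (791, 208, some 66), (374, 297, some 62), (899, 1013, some 34), (1146, 1013, some 54), (197, 1013, some 62), (341, 1013, some 64), (1221, 1047, some 34), (435, 1047, some 54), (1275, 1047, some 62), (1109, 1047, some 64), (200, 1047, some 67), (814, 286, some 62), (474, 286, some 67), (555, 685, some 54), (322, 993, some 34), (1319, 993, some 54), (292, 993, some 64), (770, 283, some 66), (422, 283, some 67), (230, 800, some 34), (1180, 800, some 54), (205, 800, some 67), (575, 1145, some 54), (1149, 1145, some 64), (1099, 1136, some 62), (1271, 1136, some 64), (843, 1136, some 66), (699, 1136, some 67), (300, 1058, some 66), (1137, 573, some 34), (1141,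 573, some 54), (896, 573, some 62), (694, 573, some 64), (581, 573, some 66), (578, 495, some 54), (985, 495, some 62), (1050, 495, some 66), (1186, 444, some 62), (1321, 444, some 64), (437, 444, some 67), (153, 36, some 64), (399, 181, some 34), (1246, 181, some 54), (1399, 1071, some 54), (1284, 1071, some 67), (862, 1213, some 54), (236, 1213, some 62), (1074, 1213, some 64), (744, 1213, some 67), (1131, 1042, some 62), (1175, 1042, some 64), (469, 1042, some 66), (450, 1042, some 67), (1320, 667, some 66), (897, 773, some 54), (876, 773, some 62), (1080, 773, some 66), (1010, 773, some 67), (345, 571, some 62), (873, 571, some 64), (983, 571, some 66), (428, 571, some 67), (551, 1359, some 66), (1391, 1359, some 67), (1265, 706, some 66), (447, 367, some 34), (999, 1345, some 54), (99, 1216, some 54), (369, 1156, some 66), (11, 1156, some 67), (1034, 588, some 34), (702, 588, some 62), (996, 710, some 54), (597, 710, some 66), (1033, 704, some 62), (1132, 704, some 66), (265, 704, some 67), (1069, 1293, some 66), (855, 1387, some 62), (925, 1276, some 62), (373, 1276, some 64), (176, 1276,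 some 66), (652, 145, some 66), (318, 145, some 67), (225, 1166, some 54), (477, 1166, some 66), (291, 256, some 34), (358, 1077, some 66), (683, 1077, some 67), (1325, 1102, some 66), (692, 1102, some 67), (762, 982, some 34), (190, 982, some 62), (115, 982, some 64), (232, 982, some 66), (52, 118, some 54), (353, 775, some 66), (605, 1406, some 66), (1022, 1306, some 66), (787, 772, some 66), (565, 926, some 62), (726, 926, some 64), (592, 926, some 67), (1240, 98, some 66), (133, 931, some 67), (492, 978, some 67), (848, 576, some 34), (1395, 1016, some 67), (459, 479, some 67), (171, 60, some 67), (111, 57, some 64), (542, 273, some 34), (1070, 273, some 54), (1383, 1249, some 54), (1120, 1249, some 67), (658, 1340, some 54), (328, 1340, some 62), (1252, 1340, some 64), (940, 1340, some 67), (1094, 837, some 62), (1316, 837, some 64), (606, 837, some 66), (587, 837, some 67), (1388, 874, some 66), (679, 969, some 54), (663, 969, some 62), (1039, 969, some 66), (815, 969, some 67), (213, 429, some 62), (670, 429, some 64), (790, 429, some 66), (566, 429, some 67), (415, 1368, some 66), (1404,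 1368, some 67), (1076, 906, some 66), (350, 514, some 34), (810, 1390, some 54), (140, 1127, some 54), (516, 1301, some 66), (23, 1301, some 67), (745, 849, some 34), (902, 849, some 62), (803, 910, some 54), (463, 910, some 66), (743, 904, some 62), (1290, 904, some 66), (177, 904, some 67), (1045, 1224, some 66), (646, 1378, some 62), (838, 1108, some 62), (520, 1108, some 64), (268, 1108, some 66), (861, 106, some 66), (227, 106, some 67), (317, 1311, some 54), (613, 1311, some 66), (198, 164, some 34), (507, 1255, some 66), (633, 1255, some 67), (1187, 1062, some 66), (632, 1062, some 67), (958, 827, some 34), (282, 827, some 62), (74, 827, some 64), (324, 827, some 66), (73, 77, some 54), (245, 971, some 66), (467, 1403, some 66), (829, 1163, some 66), (981, 968, some 66), (431, 731, some 62), (924, 731, some 64), (456, 731, some 67), (1059, 139, some 66), (91, 739, some 67), (627, 785, some 67), (638, 439, some 34), (1381, 1171, some 67), (596, 615, some 67), (263, 37, some 67), (152, 38, some 64), (403, 186, some 34), (1248, 186, some 54), (1398, 1068, some 54), (1283, 1068, some 67),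 (866, 1212, some 54), (235, 1212, some 62), (1075, 1212, some 64), (823, 1212, some 67), (1130, 1029, some 62), (1361, 1029, some 64), (471, 1029, some 66), (449, 1029, some 67), (1350, 671, some 66), (886, 1230, some 54), (870, 1230, some 62), (822, 1230, some 66), (1007, 1230, some 67), (305, 567, some 62), (877, 567, some 64), (984, 567, some 66), (432, 567, some 67), (554, 1360, some 66), (1392, 1360, some 67), (1254, 720, some 66), (234, 357, some 34), (1002, 1352, some 54), (252, 1217, some 54), (363, 1157, some 66), (13, 1157, some 67), (941, 639, some 34), (705, 639, some 62), (995, 707, some 54), (600, 707, some 66), (939, 701, some 62), (1133, 701, some 66), (269, 701, some 67), (1064, 1346, some 66), (494, 1386, some 62), (1030, 1274, some 62), (370, 1274, some 64), (172, 1274, some 66), (649, 147, some 66), (319, 147, some 67), (223, 1168, some 54), (478, 1168, some 66), (290, 109, some 34), (359, 1092, some 66), (423, 1092, some 67), (1323, 1098, some 66), (421, 1098, some 67), (764, 1019, some 34), (193, 1019, some 62), (42, 1019, some 64), (233, 1019, some 66), (121, 45, some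 54), (337, 1220, some 66), (604, 1407, some 66), (1021, 1308, some 66), (786, 771, some 66), (569, 927, some 62), (780, 927, some 64), (593, 927, some 67), (1241, 251, some 66), (132, 935, some 67), (491, 979, some 67), (446, 577, some 34), (1396, 1040, some 67), (457, 481, some 67), (170, 58, some 67), (112, 59, some 64), (546, 278, some 34), (1067, 278, some 54), (1382, 1247, some 54), (1121, 1247, some 67), (653, 1339, some 54), (327, 1339, some 62), (1253, 1339, some 64), (1015, 1339, some 67), (1079, 1232, some 62), (1349, 1232, some 64), (608, 1232, some 66), (586, 1232, some 67), (1182, 878, some 66), (695, 1036, some 54), (669, 1036, some 62), (1014, 1036, some 66), (818, 1036, some 67), (497, 433, some 62), (666, 433, some 64), (789, 433, some 66), (570, 433, some 67), (412, 1369, some 66), (1405, 1369, some 67), (1091, 920, some 66), (326, 506, some 34), (807, 1223, some 54), (160, 1119, some 54), (512, 1302, some 66), (8, 1302, some 67), (1081, 451, some 34), (905, 451, some 62), (804, 907, some 54), (460, 907, some 66), (1229, 901, some 62), (1291, 901, some 66), (173, 901, some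 67), (1044, 1135, some 66), (629, 1374, some 62), (729, 1111, some 62), (517, 1111, some 64), (264, 1111, some 66), (858, 104, some 66), (226, 104, some 67), (315, 1312, some 54), (614, 1312, some 66), (199, 150, some 34), (508, 1266, some 66), (561, 1266, some 67), (1189, 1063, some 66), (559, 1063, some 67), (960, 788, some 34), (285, 788, some 62), (63, 788, some 64), (325, 788, some 66), (80, 66, some 54), (503, 1037, some 66), (468, 1402, some 66), (830, 1161, some 66), (980, 967, some 66), (427, 730, some 62), (974, 730, some 64), (455, 730, some 67), (1057, 159, some 66), (92, 735, some 67), (626, 784, some 67), (584, 438, some 34), (1380, 824, some 67), (594, 617, some 67), (262, 39, some 67), (144, 334, some 62), (393, 334, some 66), (535, 334, some 67), (331, 113, some 34), (1194, 113, some 54), (698, 113, some 62), (1020, 113, some 64), (202, 113, some 66), (275, 544, some 34), (1208, 544, some 54), (1351, 544, some 62), (1341, 544, some 64), (47, 101, some 64), (1400, 101, some 67), (387, 90, some 34), (267, 90, some 54), (434, 90, some 66), (1287, 1313, some 34), (1286, 1313, some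 54), (923, 1313, some 62), (1299, 1313, some 67), (480, 1174, some 54), (54, 1174, some 62), (808, 1174, some 64), (846, 1174, some 66), (1139, 1174, some 67), (717, 355, some 62), (675, 355, some 64), (740, 355, some 66), (585, 355, some 67), (990, 301, some 66), (761, 668, some 66), (854, 1162, some 34), (1289, 1162, some 54), (1298, 1162, some 62), (1085, 1162, some 64), (330, 1162, some 66), (26, 863, some 54), (880, 863, some 62), (867, 863, some 64), (1264, 863, some 66), (612, 863, some 67), (509, 524, some 62), (621, 524, some 64), (681, 524, some 66), (418, 524, some 67), (938, 75, some 66), (1031, 75, some 67), (519, 539, some 66), (563, 539, some 67), (997, 871, some 34), (708, 871, some 54), (1104, 871, some 62), (346, 871, some 67), (259, 81, some 64), (482, 339, some 34), (1087, 339, some 54), (1344, 1262, some 54), (801, 1262, some 67), (378, 149, some 54), (41, 149, some 62), (348, 149, some 64), (1032, 149, some 67), (386, 87, some 62), (690, 87, some 64), (436, 87, some 66), (78, 87, some 67), (778, 356, some 66), (865, 1333, some 54), (1394, 1333, some 62), (895, 1333, some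 66), (944, 1333, some 67), (1401, 545, some 62), (537, 545, some 64), (522, 545, some 66), (562, 545, some 67), (1140, 1144, some 66), (1355, 1144, some 67), (473, 523, some 66), (351, 1005, some 34), (864, 32, some 54), (17, 384, some 54), (987, 298, some 66), (46, 298, some 67), (1371, 782, some 34), (178, 782, some 62), (548, 1181, some 54), (768, 1181, some 66), (279, 1181, some 67), (579, 280, some 62), (1209, 280, some 66), (465, 280, some 67), (953, 933, some 66), (1023, 832, some 62), (811, 484, some 62), (333, 484, some 64), (994, 484, some 66), (820, 696, some 66), (859, 684, some 66), (912, 684, some 67), (769, 347, some 34), (445, 347, some 54), (711, 347, some 66), (1027, 1267, some 34), (747, 1267, some 54), (760, 672, some 66), (143, 672, some 67), (201, 258, some 66), (496, 258, some 67), (307, 767, some 34), (1086, 767, some 62), (1372, 767, some 64), (1017, 767, some 66), (30, 254, some 54), (430, 410, some 34), (732, 410, some 62), (930, 1309, some 66), (1354, 165, some 66), (14, 165, some 67), (834, 397, some 66), (329, 1179, some 66), (1043, 136, some 66), (1277, 530, some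 62), (64, 530, some 64), (332, 530, some 66), (1170, 530, some 67), (487, 749, some 66), (1300, 1314, some 67), (1191, 881, some 67), (755, 475, some 34), (948, 475, some 54), (344, 420, some 34), (942, 420, some 62), (274, 420, some 64), (426, 1200, some 67), (1201, 721, some 34), (949, 721, some 62), (1343, 721, some 67), (738, 246, some 67), (847, 842, some 67), (343, 224, some 62), (1261, 224, some 66), (395, 224, some 67), (525, 128, some 34), (175, 128, some 54), (531, 128, some 62), (893, 128, some 64), (574, 128, some 66), (1125, 1172, some 34), (1124, 1172, some 54), (723, 1172, some 62), (1356, 1172, some 64), (103, 349, some 64), (845, 349, some 67), (27, 209, some 34), (918, 209, some 54), (796, 209, some 66), (116, 673, some 34), (715, 673, some 54), (655, 673, some 62), (1327, 673, some 67), (1235, 620, some 54), (1003, 620, some 62), (239, 620, some 64), (799, 620, some 66), (752, 620, some 67), (883, 889, some 62), (1329, 889, some 64), (86, 889, some 66), (6, 889, some 67), (956, 879, some 66), (293, 166, some 66), (499, 963, some 34), (936, 963, some 54), (1260, 963, some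 62), (1366, 963, some 64), (831, 963, some 66), (1379, 1214, some 54), (660, 1214, some 62), (401, 1214, some 64), (951, 1214, some 66), (911, 1214, some 67), (485, 1195, some 62), (1347, 1195, some 64), (1150, 1195, some 66), (1362, 1195, some 67), (372, 396, some 66), (425, 396, some 67), (1336, 183, some 66), (602, 183, some 67), (553, 238, some 34), (753, 238, some 54), (813, 238, some 62), (1305, 238, some 67), (408, 141, some 64), (1237, 892, some 34), (826, 892, some 54), (719, 722, some 54), (204, 722, some 67), (33, 528, some 54), (616, 528, some 62), (61, 528, some 64), (375, 528, some 67), (1258, 206, some 62), (536, 206, some 64), (793, 206, some 66), (68, 206, some 67), (1129, 272, some 66), (405, 1193, some 54), (1088, 1193, some 62), (962, 1193, some 66), (187, 1193, some 67), (441, 188, some 62), (1376, 188, some 64), (1335, 188, some 66), (599, 188, some 67), (757, 737, some 66), (805, 737, some 67), (1218, 1197, some 66), (841, 1025, some 34), (1215, 1375, some 54), (1000, 728, some 54), (957, 875, some 66), (102, 875, some 67), (564, 381, some 34), (934, 381, some 62), (1173,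 1106, some 54), (1065, 1106, some 66), (1177, 1106, some 67), (385, 1113, some 62), (712, 1113, some 66), (237, 1113, some 67), (943, 362, some 66), (1041, 734, some 62), (241, 643, some 62), (532, 643, some 64), (583, 643, some 66), (650, 890, some 66), (1317, 108, some 66), (1228, 108, some 67), (541, 271, some 34), (257, 271, some 54), (758, 271, some 66), (641, 950, some 34), (609, 950, some 54), (294, 154, some 66), (295, 154, some 67), (572, 131, some 66), (119, 131, some 67), (270, 540, some 34), (1367, 540, some 62), (568, 540, some 64), (1026, 540, some 66), (167, 311, some 54), (1151, 1164, some 34), (628, 1164, some 62), (1269, 1338, some 66), (806, 580, some 66), (1348, 580, some 67), (664, 498, some 66), (1233, 95, some 66), (424, 975, some 66), (43, 394, some 62), (402, 394, some 64), (220, 394, some 66), (665, 394, some 67), (24, 640, some 66), (1330, 674, some 67), (783, 657, some 67), (835, 1095, some 34), (945, 1095, some 54), (1169, 851, some 34), (182, 851, some 62), (1176, 851, some 64), (1219, 913, some 67), (1231, 748, some 34), (354, 748, some 62), (1259, 748, some 67),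 (645, 476, some 67), (110, 1365, some 67), (364, 416, some 66), (750, 416, some 67), (289, 552, some 66), (947, 552, some 67), (844, 342, some 54), (1112, 1054, some 34), (1103, 1054, some 54), (1035, 1054, some 62), (1268, 1226, some 54), (191, 1006, some 62), (413, 464, some 64), (821, 464, some 67), (598, 85, some 54), (819, 461, some 67), (1134, 791, some 54), (419, 899, some 54), (751, 899, some 62), (946, 899, some 64), (1183, 899, some 66), (440, 899, some 67), (534, 1146, some 62), (389, 1146, some 64), (558, 1146, some 67), (885, 435, some 64), (443, 435, some 66), (610, 200, some 34), (634, 200, some 54), (582, 474, some 54), (1184, 322, some 54), (1292, 322, some 67), (607, 1319, some 67), (1185, 770, some 54), (1322, 230, some 54), (470, 1180, some 67), (518, 205, some 62), (678, 575, some 64), (1142, 843, some 34), (894, 843, some 54), (603, 843, some 62), (466, 843, some 64), (1296, 843, some 66), (631, 699, some 54), (691, 1137, some 67), (1364, 399, some 54), (400, 1246, some 66), (391, 1246, some 67), (284, 1399, some 67), (97, 862, some 62), (93, 1131, some 66), (816, 1175,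 some 66), (146, 1175, some 67), (12, 469, some 66), (724, 897, some 62), (1152, 897, some 67), (125, 345, some 67), (336, 873, some 67), (1046, 1391, some 67), (1358, 542, some 54), (543, 1070, some 66), (406, 1070, some 67), (195, 1383, some 67), (138, 658, some 62), (134, 1094, some 66), (1008, 1316, some 66), (107, 1316, some 67), (7, 606, some 66), (682, 679, some 62), (1128, 679, some 67), (82, 213, some 67), (243, 670, some 67), (1234, 1404, some 67), (1363, 403, some 54), (404, 1248, some 66), (382, 1248, some 67), (287, 1398, some 67), (96, 866, some 62), (248, 1130, some 66), (774, 1361, some 66), (148, 1361, some 67), (10, 471, some 66), (725, 886, some 62), (1153, 886, some 67), (123, 305, some 67), (335, 877, some 67), (1049, 1392, some 67), (1357, 546, some 54), (547, 1067, some 66), (407, 1067, some 67), (192, 1382, some 67), (137, 653, some 62), (156, 1079, some 66), (970, 1349, some 66), (105, 1349, some 67), (22, 608, some 66), (697, 695, some 62), (1122, 695, some 67), (84, 497, some 67), (244, 666, some 67), (1236, 1405, some 67), (219, 144, some 64), (180, 393, some 54),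 (515, 535, some 54), (687, 331, some 54), (852, 331, some 62), (486, 331, some 64), (884, 331, some 67), (365, 1194, some 62), (689, 1194, some 64), (1310, 1194, some 66), (83, 1194, some 67), (1389, 275, some 54), (635, 275, some 62), (1207, 275, some 66), (462, 275, some 67), (1263, 1208, some 62), (1393, 1208, some 64), (766, 1208, some 66), (1028, 1351, some 66), (754, 1341, some 66), (1138, 1400, some 54), (163, 387, some 54), (1211, 267, some 66), (100, 267, some 67), (992, 434, some 62), (1257, 1287, some 54), (909, 1287, some 66), (916, 1286, some 62), (1245, 1286, some 66), (1202, 1286, some 67), (850, 923, some 66), (700, 1299, some 62), (383, 480, some 62), (680, 480, some 64), (493, 480, some 66), (1204, 808, some 67), (998, 846, some 66), (809, 717, some 66), (31, 717, some 67), (409, 675, some 66), (288, 675, some 67), (856, 740, some 62), (1178, 740, some 64), (642, 854, some 66), (713, 1298, some 66), (915, 26, some 62), (1334, 26, some 64), (1199, 26, some 67), (1051, 1264, some 66), (1100, 509, some 67), (1004, 621, some 67), (158, 1031, some 67), (781, 563, some 67), (442,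 997, some 67), (1397, 482, some 54), (1160, 1087, some 66), (312, 1087, some 67), (954, 1344, some 67), (15, 378, some 62), (306, 386, some 66), (398, 690, some 66), (500, 690, some 67), (72, 436, some 66), (1342, 865, some 62), (977, 865, some 67), (352, 1401, some 67), (872, 537, some 67), (929, 562, some 34), (151, 1355, some 67), (1285, 994, some 34), (703, 711, some 34), (833, 1017, some 62), (40, 14, some 54), (414, 329, some 62), (798, 1191, some 62), (937, 948, some 67), (179, 949, some 67), (242, 343, some 64), (504, 1261, some 54), (377, 395, some 54), (255, 525, some 54), (25, 525, some 62), (623, 525, some 64), (964, 525, some 67), (277, 175, some 62), (505, 175, some 64), (1337, 175, some 66), (161, 175, some 67), (1083, 1125, some 54), (392, 1125, some 62), (709, 1125, some 66), (501, 1125, some 67), (716, 1124, some 62), (1089, 1124, some 64), (1066, 1124, some 66), (611, 723, some 66), (836, 1356, some 66), (741, 845, some 54), (529, 27, some 54), (976, 918, some 66), (21, 918, some 67), (637, 796, some 62), (360, 116, some 54), (742, 116, some 66), (16, 715, some 62), (1331,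 715, some 66), (921, 715, some 67), (1090, 655, some 66), (776, 1327, some 62), (727, 1235, some 62), (887, 1235, some 64), (215, 1235, some 66), (677, 239, some 67), (556, 799, some 66), (390, 883, some 66), (196, 883, some 67), (1165, 1329, some 66), (122, 1329, some 67), (1318, 86, some 62), (250, 86, some 64), (908, 499, some 66), (746, 1260, some 66), (1206, 1379, some 62), (1192, 1379, some 64), (900, 1379, some 67), (216, 951, some 66), (812, 485, some 67), (1024, 1347, some 67), (1012, 425, some 67), (647, 602, some 67), (802, 553, some 67), (622, 1237, some 54), (965, 826, some 66), (142, 826, some 67), (338, 719, some 67), (1315, 33, some 62), (1307, 1258, some 66), (214, 536, some 66), (240, 536, some 67), (1155, 793, some 66), (1222, 405, some 62), (51, 405, some 67), (825, 441, some 67), (502, 1376, some 67), (1272, 599, some 34), (636, 805, some 67), (932, 583, some 34), (777, 758, some 34), (733, 1026, some 62), (618, 1348, some 54), (630, 1233, some 62), (489, 783, some 62), (368, 945, some 67), (928, 354, some 67), (527, 364, some 54), (1011, 364, some 62), (380, 289, some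 54), (1294, 821, some 54), (114, 180, some 67), (308, 687, some 62), (779, 365, some 66), (127, 689, some 66), (3, 689, some 67), (448, 504, some 67), (62, 255, some 62), (1123, 277, some 66), (972, 505, some 66), (20, 505, some 67)]

/-- The points of class 8. -/
def topCover8 : List (ℕ × ℕ × Option ℕ) :=
  [(4, 24, none), (464, 112, none), (0, 4, some 68), (9, 4, some 70), (1, 4, some 72), (2, 4, some 73), (359, 4, some 74), (8, 4, some 75), (127, 4, some 76), (28, 4, some 77), (1110, 464, some 36), (704, 464, some 37), (461, 464, some 68), (1103, 464, some 70), (1372, 464, some 71), (904, 464, some 72), (1097, 464, some 73), (621, 464, some 74), (607, 464, some 75), (827, 464, some 76), (648, 464, some 77), (3, 0, some 70), (358, 0, some 74), (23, 0, some 75), (130, 0, some 76), (29, 0, some 77), (22, 9, some 56), (12, 9, some 72), (10, 9, some 73), (125, 9, some 74), (67, 9, some 75), (95, 9, some 76), (232, 9, some 77), (5, 1, some 70), (507, 1, some 74), (13, 1, some 75), (86, 1, some 76), (18, 1, some 77), (6, 2, some 70), (508, 2, some 74), (11, 2, some 75), (89, 2, some 76), (19, 2,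 some 77), (283, 359, some 36), (566, 359, some 37), (591, 359, some 39), (281, 359, some 70), (454, 359, some 73), (548, 359, some 74), (1164, 359, some 76), (297, 359, some 77), (16, 8, some 36), (128, 8, some 71), (194, 8, some 72), (315, 8, some 75), (255, 8, some 76), (56, 8, some 77), (57, 127, some 36), (703, 127, some 37), (711, 127, some 38), (61, 127, some 56), (269, 127, some 57), (295, 127, some 70), (122, 127, some 71), (984, 127, some 72), (177, 127, some 73), (390, 127, some 74), (153, 127, some 75), (51, 127, some 76), (398, 28, some 37), (790, 28, some 38), (559, 28, some 57), (171, 28, some 70), (43, 28, some 71), (911, 28, some 72), (421, 28, some 73), (83, 28, some 74), (1324, 28, some 75), (17, 28, some 77), (998, 1110, some 39), (1107, 1110, some 68), (810, 1110, some 70), (1332, 1110, some 71), (601, 1110, some 72), (901, 1110, some 73), (303, 1110, some 75), (685, 1110, some 76), (788, 1110, some 77), (701, 704, some 68), (1096, 704, some 72), (598, 704, some 73), (884, 704, some 74), (446, 704, some 75), (619, 704, some 76), (688, 704, some 77), (1099, 461, some 70),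 (1371, 461, some 71), (603, 461, some 75), (651, 461, some 77), (1367, 1103, some 72), (1002, 1103, some 73), (981, 1103, some 74), (498, 1103, some 75), (894, 1103, some 76), (1370, 1103, some 77), (999, 1372, some 72), (1271, 1372, some 73), (691, 1372, some 74), (581, 1372, some 75), (1376, 1372, some 76), (839, 1372, some 77), (805, 904, some 38), (1203, 904, some 70), (693, 904, some 74), (584, 904, some 75), (485, 904, some 76), (891, 904, some 77), (806, 1097, some 39), (1204, 1097, some 71), (982, 1097, some 74), (211, 1097, some 75), (1019, 1097, some 77), (1196, 621, some 36), (304, 621, some 38), (424, 621, some 56), (582, 621, some 70), (857, 621, some 73), (1194, 607, some 37), (1405, 607, some 38), (895, 607, some 39), (1233, 607, some 57), (980, 607, some 71), (487, 607, some 76), (1365, 607, some 77), (425, 827, some 37), (848, 827, some 38), (755, 827, some 70), (565, 827, some 71), (638, 827, some 72), (1392, 827, some 73), (835, 827, some 74), (1161, 648, some 70), (1027, 648, some 71), (470, 648, some 73), (427, 648, some 74), (997, 648, some 77), (7, 3, some 56), (123,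 3, some 74), (68, 3, some 75), (250, 3, some 76), (233, 3, some 77), (286, 358, some 36), (570, 358, some 37), (595, 358, some 39), (276, 358, some 70), (458, 358, some 73), (544, 358, some 74), (1165, 358, some 76), (300, 358, some 77), (53, 23, some 36), (131, 23, some 71), (191, 23, some 72), (317, 23, some 75), (108, 23, some 76), (21, 23, some 77), (59, 130, some 36), (700, 130, some 37), (708, 130, some 38), (62, 130, some 56), (265, 130, some 57), (343, 130, some 70), (124, 130, some 71), (983, 130, some 72), (173, 130, some 73), (381, 130, some 74), (152, 130, some 75), (120, 130, some 76), (397, 29, some 37), (789, 29, some 38), (632, 29, some 57), (170, 29, some 70), (116, 29, some 71), (908, 29, some 72), (692, 29, some 73), (81, 29, some 74), (1326, 29, some 75), (54, 29, some 77), (60, 22, some 70), (206, 22, some 76), (45, 22, some 77), (37, 12, some 70), (87, 12, some 74), (189, 12, some 75), (298, 12, some 76), (66, 12, some 77), (39, 10, some 70), (90, 10, some 74), (184, 10, some 75), (301, 10, some 76), (77, 10, some 77), (1100, 125, some 36), (712, 125, some 39), (1272,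 125, some 73), (1051, 125, some 74), (307, 125, some 76), (1146, 125, some 77), (912, 67, some 72), (794, 67, some 75), (386, 67, some 76), (350, 67, some 77), (109, 95, some 36), (455, 95, some 37), (718, 95, some 38), (203, 95, some 56), (490, 95, some 70), (560, 95, some 71), (990, 95, some 72), (854, 95, some 75), (24, 95, some 76), (96, 232, some 36), (706, 232, some 37), (1059, 232, some 38), (262, 232, some 56), (75, 232, some 57), (210, 232, some 70), (140, 232, some 71), (993, 232, some 72), (422, 232, some 74), (763, 232, some 75), (110, 232, some 77), (84, 5, some 74), (46, 5, some 75), (158, 5, some 76), (325, 5, some 77), (428, 507, some 37), (405, 507, some 74), (1310, 507, some 76), (205, 507, some 77), (32, 13, some 36), (223, 13, some 75), (149, 13, some 76), (31, 13, some 77), (36, 86, some 36), (900, 86, some 37), (40, 86, some 56), (410, 86, some 74), (112, 86, some 75), (79, 86, some 76), (540, 18, some 37), (1188, 18, some 75), (33, 18, some 77), (82, 6, some 74), (47, 6, some 75), (136, 6, some 76), (324, 6, some 77), (432, 508, some 37), (401, 508, some 74), (1309, 508,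 some 76), (208, 508, some 77), (26, 11, some 36), (225, 11, some 75), (163, 11, some 76), (35, 11, some 77), (38, 89, some 36), (903, 89, some 37), (41, 89, some 56), (496, 89, some 70), (409, 89, some 74), (111, 89, some 75), (72, 89, some 76), (541, 19, some 37), (263, 19, some 70), (64, 19, some 71), (1190, 19, some 75), (27, 19, some 77), (294, 283, some 74), (328, 283, some 75), (1399, 283, some 76), (251, 283, some 77), (58, 566, some 74), (274, 566, some 76), (260, 566, some 77), (175, 591, some 74), (364, 591, some 75), (1319, 591, some 76), (813, 591, some 77), (1269, 281, some 72), (338, 281, some 76), (101, 281, some 77), (261, 454, some 74), (289, 454, some 75), (1180, 454, some 76), (1004, 454, some 77), (267, 548, some 73), (1294, 548, some 76), (499, 548, some 77), (121, 1164, some 36), (1327, 1164, some 37), (913, 1164, some 38), (1073, 1164, some 39), (1075, 1164, some 56), (334, 1164, some 70), (1157, 1164, some 71), (1320, 1164, some 72), (1252, 1164, some 73), (588, 1164, some 74), (302, 1164, some 75), (1237, 1164, some 76), (1058, 297, some 36), (1069, 297, some 37), (1260,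 297, some 38), (1079, 297, some 56), (52, 297, some 57), (849, 297, some 70), (645, 297, some 71), (1345, 297, some 72), (240, 297, some 74), (474, 297, some 75), (1235, 297, some 77), (1207, 16, some 76), (682, 16, some 77), (909, 128, some 73), (943, 128, some 76), (726, 128, some 77), (201, 194, some 74), (235, 194, some 75), (1383, 194, some 76), (159, 194, some 77), (236, 315, some 72), (974, 315, some 76), (749, 315, some 77), (117, 255, some 36), (1240, 255, some 37), (920, 255, some 38), (99, 255, some 70), (299, 255, some 71), (403, 255, some 72), (1156, 255, some 75), (505, 255, some 76), (546, 56, some 38), (138, 56, some 57), (720, 56, some 72), (344, 56, some 77), (536, 57, some 56), (1209, 57, some 74), (760, 57, some 76), (384, 57, some 77), (142, 703, some 39), (856, 703, some 70), (393, 703, some 73), (1361, 703, some 74), (921, 703, some 75), (1313, 703, some 76), (564, 703, some 77), (987, 711, some 70), (1330, 711, some 75), (1208, 711, some 76), (290, 711, some 77), (254, 61, some 72), (539, 61, some 77), (697, 269, some 74), (118, 269, some 75), (867, 269, some 77), (168,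 295, some 72), (717, 295, some 73), (831, 295, some 74), (354, 295, some 75), (1167, 295, some 76), (319, 295, some 77), (456, 122, some 73), (1296, 122, some 74), (583, 122, some 76), (271, 122, some 77), (800, 984, some 70), (1045, 984, some 74), (1086, 984, some 75), (605, 984, some 76), (71, 984, some 77), (725, 177, some 74), (426, 177, some 76), (660, 177, some 77), (174, 390, some 37), (187, 390, some 57), (357, 390, some 70), (859, 390, some 73), (435, 390, some 74), (133, 390, some 76), (916, 390, some 77), (1390, 153, some 36), (1398, 153, some 37), (1292, 153, some 38), (1132, 153, some 71), (433, 153, some 75), (70, 153, some 76), (606, 153, some 77), (609, 51, some 74), (514, 51, some 76), (542, 398, some 70), (1388, 398, some 74), (1064, 398, some 75), (222, 398, some 77), (985, 790, some 70), (1259, 790, some 75), (468, 790, some 76), (50, 790, some 77), (1299, 559, some 76), (1057, 171, some 73), (1160, 171, some 76), (1379, 171, some 77), (571, 43, some 74), (216, 43, some 75), (1014, 43, some 76), (1356, 43, some 77), (796, 911, some 70), (721, 911, some 74), (1191, 911, some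 75), (1193, 911, some 76), (199, 911, some 77), (182, 421, some 71), (1382, 421, some 74), (1154, 421, some 76), (604, 421, some 77), (650, 83, some 39), (593, 83, some 73), (1142, 83, some 74), (847, 83, some 76), (178, 83, some 77), (1286, 1324, some 36), (1134, 1324, some 72), (780, 1324, some 75), (1034, 1324, some 76), (656, 1324, some 77), (330, 17, some 74), (308, 17, some 77), (807, 1107, some 70), (1331, 1107, some 71), (1268, 810, some 72), (1366, 810, some 73), (654, 810, some 74), (840, 810, some 76), (1306, 810, some 77), (754, 1332, some 75), (1308, 1332, some 76), (899, 1332, some 77), (483, 601, some 74), (466, 601, some 75), (677, 901, some 74), (888, 901, some 77), (659, 303, some 71), (1328, 303, some 72), (836, 303, some 75), (1362, 685, some 70), (1400, 685, some 71), (1031, 685, some 72), (306, 685, some 74), (786, 685, some 75), (569, 788, some 71), (1391, 788, some 73), (212, 1096, some 75), (860, 598, some 77), (1404, 884, some 39), (951, 884, some 76), (431, 884, some 77), (841, 446, some 36), (852, 446, some 71), (214, 619, some 71), (1401, 688, some 71), (1043, 688,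 some 72), (346, 688, some 74), (787, 688, some 75), (699, 1371, some 74), (1163, 651, some 70), (1028, 651, some 71), (443, 1367, some 75), (1354, 981, some 73), (1355, 894, some 39), (444, 894, some 56), (563, 894, some 70), (623, 1370, some 38), (643, 1376, some 38), (950, 1376, some 39), (562, 805, some 75), (1329, 584, some 38), (209, 7, some 76), (1104, 123, some 36), (709, 123, some 39), (1048, 123, some 74), (347, 123, some 76), (797, 68, some 75), (326, 68, some 77), (256, 250, some 36), (411, 250, some 70), (610, 250, some 71), (493, 250, some 75), (25, 250, some 76), (97, 233, some 36), (207, 233, some 70), (160, 233, some 71), (765, 233, some 75), (257, 233, some 77), (293, 286, some 74), (327, 286, some 75), (98, 286, some 77), (279, 570, some 76), (266, 570, some 77), (169, 595, some 74), (197, 595, some 75), (812, 595, some 77), (341, 458, some 75), (1005, 458, some 77), (215, 544, some 77), (1072, 1165, some 39), (1074, 1165, some 56), (332, 1165, some 70), (1350, 1165, some 72), (1253, 1165, some 73), (639, 1165, some 74), (1054, 300, some 36), (1094, 300, some 56), (451, 300,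 some 70), (628, 300, some 71), (1352, 300, some 72), (242, 300, some 74), (945, 131, some 76), (202, 191, some 74), (139, 191, some 77), (924, 317, some 76), (747, 317, some 77), (44, 108, some 36), (1241, 108, some 37), (906, 108, some 38), (252, 108, some 70), (399, 108, some 72), (513, 108, some 76), (137, 21, some 57), (296, 21, some 77), (531, 59, some 56), (761, 59, some 76), (383, 59, some 77), (162, 700, some 39), (1175, 700, some 74), (1314, 700, some 76), (568, 700, some 77), (1181, 708, some 76), (291, 708, some 77), (545, 62, some 77), (865, 265, some 77), (825, 343, some 74), (1169, 343, some 76), (318, 343, some 77), (637, 124, some 76), (270, 124, some 77), (791, 983, some 70), (1044, 983, some 74), (1085, 983, some 75), (78, 983, some 77), (724, 173, some 74), (430, 173, some 76), (657, 173, some 77), (367, 381, some 70), (437, 381, some 74), (132, 381, some 76), (922, 381, some 77), (1223, 152, some 36), (1133, 152, some 71), (429, 152, some 75), (69, 152, some 76), (608, 152, some 77), (640, 120, some 74), (506, 120, some 76), (1182, 397, some 74), (221, 397, some 77), (467,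 789, some 76), (119, 789, some 77), (1300, 632, some 76), (1162, 170, some 76), (1375, 170, some 77), (567, 116, some 74), (472, 116, some 75), (1039, 116, some 76), (1222, 116, some 77), (793, 908, some 70), (713, 908, some 74), (1201, 908, some 75), (1192, 908, some 76), (198, 908, some 77), (1155, 692, some 76), (647, 81, some 39), (592, 81, some 73), (445, 81, some 76), (179, 81, some 77), (1273, 1326, some 36), (941, 1326, some 76), (655, 1326, some 77), (352, 54, some 74), (348, 54, some 77), (76, 206, some 57), (737, 206, some 75), (917, 45, some 72), (991, 87, some 74), (246, 189, some 76), (65, 298, some 73), (933, 298, some 75), (151, 298, some 76), (150, 66, some 56), (15, 66, some 77), (988, 90, some 74), (420, 184, some 76), (937, 301, some 75), (165, 301, some 76), (164, 77, some 56), (14, 77, some 77), (356, 1100, some 74), (681, 1100, some 75), (1023, 1100, some 77), (204, 712, some 74), (238, 712, some 75), (1290, 712, some 77), (573, 1272, some 76), (1052, 307, some 36), (1387, 307, some 37), (1315, 307, some 38), (1301, 307, some 56), (1225, 307, some 70), (879, 307, some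 71), (773, 307, some 72), (1029, 1146, some 37), (969, 1146, some 38), (1250, 1146, some 70), (1174, 1146, some 72), (1336, 794, some 77), (875, 386, some 75), (1282, 350, some 37), (866, 350, some 38), (457, 350, some 72), (625, 350, some 73), (447, 109, some 75), (272, 109, some 76), (511, 109, some 77), (594, 455, some 70), (624, 455, some 74), (1348, 455, some 75), (227, 455, some 76), (448, 455, some 77), (923, 718, some 70), (1386, 718, some 75), (587, 718, some 77), (918, 203, some 73), (1017, 203, some 74), (1199, 203, some 76), (1126, 490, some 73), (1105, 490, some 76), (1172, 490, some 77), (653, 560, some 73), (811, 560, some 76), (799, 990, some 74), (1123, 990, some 75), (180, 990, some 77), (1145, 854, some 36), (1291, 854, some 56), (667, 854, some 76), (714, 854, some 77), (1084, 96, some 77), (862, 706, some 70), (1285, 706, some 74), (1042, 706, some 75), (822, 706, some 77), (1288, 1059, some 70), (1036, 1059, some 75), (1307, 1059, some 77), (1394, 262, some 77), (1344, 75, some 77), (723, 210, some 73), (1265, 210, some 77), (313, 140, some 76), (1338, 140, some 77), (1047,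 993, some 74), (488, 993, some 75), (1040, 993, some 76), (234, 422, some 57), (1000, 422, some 76), (994, 763, some 36), (575, 763, some 72), (1177, 763, some 76), (1312, 763, some 77), (550, 158, some 70), (961, 325, some 75), (73, 1310, some 36), (1130, 205, some 56), (80, 205, some 57), (1302, 149, some 75), (489, 31, some 77), (1335, 36, some 74), (957, 36, some 76), (528, 36, some 77), (1316, 900, some 74), (396, 40, some 77), (92, 410, some 76), (716, 410, some 77), (49, 112, some 76), (469, 112, some 77), (473, 79, some 74), (1124, 1188, some 36), (1081, 1188, some 76), (863, 1188, some 77), (959, 324, some 75), (1251, 1309, some 39), (1226, 208, some 36), (1131, 208, some 56), (365, 163, some 76), (956, 38, some 76), (529, 38, some 77), (1349, 903, some 74), (1173, 903, some 76), (402, 41, some 77), (1198, 496, some 76), (226, 496, some 77), (91, 409, some 76), (722, 409, some 77), (48, 111, some 76), (471, 111, some 77), (314, 541, some 77), (1305, 263, some 76), (1393, 263, some 77), (1080, 64, some 76), (1351, 64, some 77), (1106, 1190, some 36), (745, 1190, some 76), (864, 1190,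 some 77), (502, 27, some 74), (672, 251, some 36), (1093, 251, some 71), (114, 274, some 75), (1078, 260, some 75), (668, 1319, some 57), (155, 813, some 74), (658, 338, some 72), (167, 1180, some 70), (837, 1294, some 37), (741, 1294, some 73), (1378, 499, some 37), (1397, 499, some 38), (316, 121, some 76), (530, 121, some 77), (1232, 1327, some 71), (1158, 1327, some 77), (1230, 913, some 70), (1129, 913, some 71), (395, 913, some 76), (495, 913, some 77), (851, 1073, some 76), (966, 1073, some 77), (1159, 1075, some 76), (845, 1075, some 77), (141, 334, some 76), (186, 334, some 77), (1178, 1157, some 76), (1083, 1157, some 77), (642, 1320, some 77), (1303, 1252, some 76), (579, 1252, some 77), (93, 588, some 76), (1353, 588, some 77), (1118, 302, some 39), (1076, 302, some 77), (1197, 1058, some 77), (853, 1069, some 71), (1339, 1260, some 76), (312, 1260, some 77), (932, 1079, some 76), (1340, 1079, some 77), (535, 52, some 77), (1289, 849, some 73), (134, 849, some 76), (1227, 849, some 77), (992, 645, some 73), (874, 645, some 76), (914, 645, some 77), (253, 240, some 76), (278, 240,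 some 77), (719, 474, some 36), (459, 474, some 39), (1003, 474, some 76), (259, 1207, some 71), (1050, 726, some 72), (802, 974, some 37), (1141, 974, some 72), (549, 117, some 76), (362, 920, some 76), (596, 99, some 73), (1211, 99, some 77), (919, 299, some 73), (1091, 299, some 77), (1087, 403, some 76), (1179, 1156, some 76), (1082, 1156, some 77), (1261, 546, some 76), (450, 138, some 76), (515, 720, some 76), (1053, 1209, some 74), (309, 760, some 36), (855, 760, some 37), (478, 760, some 38), (94, 760, some 39), (1055, 760, some 56), (465, 760, some 57), (830, 760, some 70), (931, 760, some 71), (105, 760, some 72), (1060, 760, some 73), (778, 760, some 74), (463, 760, some 75), (816, 384, some 36), (555, 384, some 37), (497, 384, some 38), (687, 384, some 39), (792, 384, some 57), (886, 384, some 70), (826, 384, some 71), (1066, 384, some 72), (728, 384, some 73), (311, 384, some 74), (1195, 1361, some 76), (1089, 1361, some 77), (394, 921, some 76), (200, 921, some 77), (336, 1313, some 36), (321, 1313, some 37), (275, 1313, some 38), (733, 1313, some 39), (670, 1313, some 56), (1243,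 1313, some 57), (953, 1313, some 70), (500, 1313, some 71), (766, 1313, some 72), (905, 1313, some 73), (1297, 1313, some 74), (551, 564, some 36), (1025, 564, some 37), (1245, 564, some 38), (331, 564, some 39), (680, 564, some 57), (971, 564, some 70), (968, 564, some 71), (305, 564, some 72), (1284, 564, some 73), (735, 564, some 74), (1381, 564, some 75), (185, 987, some 77), (268, 1208, some 37), (543, 1208, some 38), (1369, 1208, some 56), (896, 1208, some 57), (423, 1208, some 70), (556, 1208, some 71), (870, 1208, some 72), (602, 1208, some 73), (557, 1208, some 74), (129, 1208, some 75), (574, 290, some 37), (746, 290, some 38), (237, 290, some 57), (1380, 290, some 70), (1341, 290, some 71), (154, 290, some 72), (986, 290, some 73), (353, 290, some 74), (1153, 290, some 75), (525, 539, some 37), (284, 539, some 38), (526, 539, some 57), (145, 539, some 70), (516, 539, some 71), (389, 539, some 72), (288, 539, some 73), (1020, 539, some 74), (144, 867, some 37), (146, 867, some 38), (577, 867, some 57), (282, 867, some 70), (126, 867, some 71), (613, 867, some 72), (947, 867, some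 73), (1185, 867, some 74), (553, 867, some 75), (586, 717, some 77), (1030, 1167, some 36), (1384, 1167, some 37), (1189, 1167, some 38), (823, 1167, some 39), (339, 1167, some 56), (1183, 1167, some 57), (975, 1167, some 70), (960, 1167, some 71), (622, 1167, some 72), (533, 1167, some 74), (890, 1167, some 75), (520, 319, some 36), (524, 319, some 37), (63, 319, some 38), (600, 319, some 39), (910, 319, some 57), (522, 319, some 70), (371, 319, some 72), (1249, 319, some 74), (644, 456, some 74), (408, 456, some 77), (1026, 583, some 37), (1264, 583, some 38), (695, 583, some 56), (1018, 583, some 57), (1334, 583, some 70), (783, 583, some 71), (965, 583, some 72), (576, 583, some 74), (1012, 583, some 75), (590, 271, some 37), (30, 271, some 38), (664, 271, some 57), (1238, 271, some 70), (868, 271, some 72), (1322, 271, some 74), (946, 271, some 75), (1171, 800, some 76), (1221, 1045, some 76), (1212, 1086, some 76), (220, 1086, some 77), (883, 605, some 37), (166, 605, some 38), (1008, 605, some 39), (501, 605, some 73), (1276, 71, some 37), (876, 71, some 38), (218, 71, some 56), (578,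 71, some 75), (412, 426, some 36), (833, 426, some 37), (239, 426, some 39), (727, 426, some 57), (775, 426, some 70), (772, 426, some 71), (213, 426, some 72), (1121, 426, some 73), (935, 426, some 74), (1395, 426, some 75), (873, 660, some 36), (103, 660, some 37), (1360, 660, some 39), (244, 660, some 56), (439, 660, some 57), (190, 660, some 70), (85, 660, some 71), (477, 660, some 72), (751, 660, some 73), (1137, 660, some 74), (414, 660, some 75), (147, 133, some 36), (995, 133, some 37), (285, 133, some 39), (512, 133, some 57), (666, 133, some 70), (1242, 133, some 71), (74, 133, some 72), (958, 133, some 74), (1037, 916, some 36), (616, 916, some 37), (777, 916, some 56), (893, 916, some 57), (333, 916, some 70), (1187, 916, some 72), (630, 916, some 73), (599, 916, some 74), (1321, 916, some 75), (1098, 70, some 38), (589, 70, some 72), (967, 606, some 36), (1342, 606, some 39), (973, 606, some 56), (1152, 606, some 57), (696, 606, some 70), (554, 606, some 71), (1385, 606, some 72), (135, 606, some 74), (743, 606, some 75), (1374, 542, some 74), (1258, 542, some 76), (476, 1388,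 some 77), (1035, 1064, some 76), (375, 222, some 36), (809, 222, some 37), (962, 222, some 38), (196, 222, some 57), (710, 222, some 71), (183, 222, some 72), (438, 222, some 73), (1214, 222, some 74), (370, 222, some 75), (1016, 985, some 76), (676, 468, some 37), (258, 468, some 38), (247, 468, some 70), (1136, 468, some 71), (944, 468, some 72), (329, 468, some 73), (417, 468, some 74), (418, 468, some 75), (1111, 50, some 37), (669, 50, some 38), (373, 50, some 70), (872, 50, some 71), (400, 50, some 72), (388, 50, some 73), (440, 50, some 75), (731, 1299, some 37), (534, 1299, some 38), (705, 1299, some 57), (245, 1299, some 71), (192, 1299, some 72), (678, 1299, some 73), (698, 1299, some 74), (829, 1299, some 75), (561, 1160, some 36), (491, 1160, some 37), (479, 1160, some 38), (752, 1160, some 39), (243, 1160, some 70), (1117, 1160, some 72), (795, 1160, some 74), (877, 1160, some 75), (801, 1379, some 36), (785, 1379, some 37), (558, 1379, some 38), (1122, 1379, some 39), (1220, 1379, some 56), (771, 1379, some 57), (939, 1379, some 70), (1071, 1379, some 71), (821, 1379, some 72),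 (366, 1379, some 74), (732, 1014, some 37), (641, 1014, some 38), (349, 1014, some 57), (929, 1014, some 70), (689, 1014, some 72), (1120, 1014, some 74), (756, 1356, some 37), (1077, 1356, some 38), (1215, 1356, some 57), (1067, 1356, some 70), (1186, 1356, some 71), (954, 1356, some 72), (750, 1356, some 74), (351, 1356, some 75), (277, 796, some 77), (538, 721, some 76), (342, 721, some 77), (1304, 1191, some 77), (172, 1193, some 37), (404, 1193, some 38), (1359, 1193, some 56), (462, 1193, some 73), (842, 1193, some 74), (241, 199, some 36), (434, 199, some 37), (942, 199, some 38), (415, 199, some 39), (157, 1154, some 36), (926, 1154, some 37), (217, 1154, some 39), (519, 1154, some 56), (902, 1154, some 57), (634, 1154, some 70), (287, 1154, some 72), (1022, 1154, some 75), (887, 604, some 36), (882, 604, some 37), (970, 604, some 39), (1283, 604, some 57), (355, 604, some 70), (748, 604, some 72), (1015, 847, some 36), (1170, 847, some 37), (1095, 847, some 38), (729, 847, some 39), (897, 847, some 56), (828, 847, some 57), (1205, 847, some 70), (977, 847, some 71), (767, 847, some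 72), (781, 847, some 75), (460, 178, some 36), (452, 178, some 37), (55, 178, some 38), (871, 178, some 57), (1056, 178, some 70), (662, 178, some 72), (88, 178, some 73), (1184, 178, some 74), (1325, 1034, some 37), (1377, 1034, some 38), (1147, 1034, some 39), (482, 1034, some 72), (707, 656, some 36), (702, 656, some 70), (372, 656, some 71), (1063, 656, some 72), (193, 656, some 73), (1101, 411, some 76), (808, 610, some 76), (671, 493, some 76), (715, 493, some 77), (1254, 207, some 77), (1337, 160, some 77), (1176, 765, some 76), (1311, 765, some 77), (441, 1074, some 77), (161, 332, some 76), (181, 332, some 77), (612, 1350, some 77), (635, 1253, some 77), (248, 639, some 76), (1347, 639, some 77), (936, 1094, some 76), (156, 451, some 76), (1389, 451, some 77), (878, 628, some 76), (915, 628, some 77), (100, 242, some 76), (273, 242, some 77), (585, 44, some 76), (368, 906, some 76), (1210, 252, some 77), (449, 137, some 76), (310, 761, some 36), (494, 761, some 37), (249, 761, some 39), (107, 761, some 72), (1061, 761, some 73), (779, 761, some 74), (774, 383, some 36), (552, 383,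 some 37), (684, 383, some 39), (1065, 383, some 72), (1088, 1175, some 77), (335, 1314, some 36), (323, 1314, some 37), (280, 1314, some 38), (734, 1314, some 39), (948, 1314, some 70), (219, 1314, some 71), (768, 1314, some 72), (1295, 1314, some 74), (1024, 568, some 37), (1244, 568, some 38), (345, 568, some 72), (739, 568, some 74), (264, 1181, some 37), (547, 1181, some 38), (1368, 1181, some 56), (885, 1181, some 57), (683, 1181, some 70), (572, 291, some 37), (989, 291, some 73), (337, 291, some 74), (532, 545, some 37), (380, 545, some 72), (340, 545, some 73), (143, 865, some 37), (148, 865, some 38), (614, 865, some 72), (925, 1169, some 36), (744, 1169, some 39), (620, 1169, some 72), (517, 318, some 36), (523, 318, some 37), (597, 318, some 39), (907, 318, some 57), (374, 318, some 72), (1247, 318, some 74), (1041, 637, some 37), (1267, 637, some 38), (679, 637, some 56), (1333, 637, some 70), (1231, 637, some 71), (963, 637, some 72), (34, 270, some 38), (665, 270, some 57), (1239, 270, some 70), (869, 270, some 72), (824, 791, some 76), (770, 1044, some 76), (1213, 1085, some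 76), (224, 1085, some 77), (1274, 78, some 37), (832, 430, some 37), (1396, 430, some 75), (102, 657, some 37), (996, 132, some 37), (618, 922, some 37), (776, 922, some 56), (898, 922, some 57), (1102, 69, some 38), (972, 608, some 56), (1229, 608, some 75), (782, 221, some 37), (964, 221, some 38), (188, 221, some 72), (675, 467, some 37), (113, 467, some 38), (504, 467, some 70), (1108, 119, some 37), (663, 119, some 38), (379, 119, some 73), (844, 119, some 75), (730, 1300, some 37), (527, 1300, some 38), (503, 1300, some 71), (195, 1300, some 72), (694, 1300, some 73), (690, 1300, some 74), (633, 1162, some 36), (492, 1162, some 37), (481, 1162, some 38), (757, 1162, some 39), (1115, 1162, some 72), (798, 1375, some 36), (784, 1375, some 37), (631, 1375, some 38), (1128, 1375, some 39), (1033, 1375, some 70), (1068, 1375, some 71), (819, 1375, some 72), (738, 1039, some 37), (611, 1039, some 38), (930, 1039, some 70), (686, 1039, some 72), (759, 1222, some 37), (1092, 1222, some 38), (1070, 1222, some 70), (949, 1222, some 72), (537, 713, some 76), (292, 713, some 77), (176, 1192, some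 37), (436, 198, some 37), (927, 1155, some 37), (1021, 1155, some 75), (940, 445, some 36), (834, 445, some 37), (1090, 445, some 38), (838, 445, some 39), (1206, 445, some 70), (1038, 445, some 71), (769, 445, some 72), (820, 445, some 75), (453, 179, some 37), (20, 179, some 38), (661, 179, some 72), (1323, 941, some 37), (1373, 941, some 38), (1143, 941, some 39), (480, 941, some 72), (1062, 655, some 72), (673, 737, some 76), (1125, 737, some 77), (880, 933, some 76), (1287, 933, some 77), (881, 937, some 76), (1277, 937, some 77), (1109, 1052, some 76), (361, 1052, some 77), (382, 1387, some 77), (1257, 1315, some 76), (1318, 1301, some 76), (1256, 1301, some 77), (1138, 1225, some 77), (1262, 879, some 76), (1275, 773, some 77), (1113, 969, some 76), (1112, 969, some 77), (1263, 875, some 76), (1148, 625, some 76), (1140, 511, some 37), (377, 227, some 37), (42, 227, some 38), (521, 227, some 72), (369, 227, some 73), (1119, 448, some 37), (391, 1386, some 77), (442, 587, some 37), (764, 1199, some 71), (486, 1199, some 72), (1270, 1126, some 77), (1049, 1105, some 37), (1406, 1105, some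 38), (1135, 1105, some 72), (229, 1172, some 37), (1114, 811, some 37), (814, 811, some 38), (742, 811, some 72), (510, 799, some 76), (104, 180, some 39), (322, 1145, some 76), (815, 1084, some 37), (934, 822, some 37), (850, 822, some 38), (889, 822, some 72), (627, 1307, some 37), (617, 1307, some 38), (1279, 1307, some 72), (978, 1394, some 37), (419, 1394, some 38), (1011, 1394, some 72), (955, 1344, some 37), (1266, 1344, some 38), (1248, 1344, some 70), (758, 1344, some 72), (1151, 1265, some 37), (938, 1265, some 38), (1009, 1265, some 72), (976, 313, some 37), (1357, 1338, some 37), (1293, 1338, some 38), (1402, 1338, some 72), (228, 1047, some 76), (1200, 1047, some 77), (858, 1040, some 37), (1281, 1040, some 38), (1280, 1000, some 37), (1246, 1000, some 39), (1032, 1000, some 72), (1234, 1177, some 38), (1358, 1177, some 72), (1202, 961, some 76), (1168, 961, some 77), (385, 73, some 77), (736, 1130, some 76), (392, 80, some 77), (1317, 1302, some 76), (629, 957, some 37), (416, 528, some 37), (1144, 1316, some 76), (378, 396, some 37), (106, 92, some 36), (803, 92, some 37), (363,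 92, some 57), (115, 92, some 72), (762, 92, some 74), (1166, 959, some 77), (740, 1131, some 76), (646, 956, some 37), (413, 529, some 37), (231, 1173, some 37), (387, 402, some 37), (484, 1198, some 72), (376, 226, some 37), (518, 226, some 72), (804, 91, some 37), (1001, 314, some 37), (626, 1305, some 37), (615, 1305, some 38), (979, 1393, some 37), (843, 1393, some 38), (1013, 1393, some 72), (928, 1080, some 37), (475, 1080, some 38), (892, 1080, some 72), (952, 1351, some 37), (1255, 1351, some 38), (753, 1351, some 72), (1149, 1093, some 76), (509, 1093, some 77), (406, 114, some 76), (320, 155, some 77), (674, 741, some 76), (407, 1378, some 77), (1139, 530, some 38), (1007, 851, some 72), (1216, 966, some 72), (1127, 1159, some 38), (818, 845, some 38), (1343, 1178, some 72), (1228, 1353, some 37), (1298, 1353, some 38), (652, 1197, some 38), (580, 1339, some 72), (636, 1340, some 72), (1219, 1227, some 38), (1278, 1227, some 72), (360, 992, some 76), (1006, 1003, some 38), (230, 259, some 77), (1217, 549, some 37), (1218, 362, some 37), (1363, 1211, some 37), (1407, 1211, some 72),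 (817, 1091, some 72), (1116, 1179, some 38), (1010, 1261, some 37), (649, 478, some 74), (846, 778, some 73), (1346, 463, some 76), (1150, 870, some 77), (861, 613, some 74), (1046, 1185, some 77), (1236, 1137, some 77), (1403, 1321, some 36), (1224, 781, some 39), (1364, 1184, some 73)]

end Cfsg.Agent.HNPresented
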