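import Cfsg.Agent.Lib.HNPresented.Low
import Cfsg.Agent.Lib.HNPresented.TopData

/-!
# The cosets of `⟨x, y, z⟩` in HN

* `toHN_fixGroup_comm` : `t` commutes with the stabiliser of the point `0`
* `top_holds` : the equations and fixing elements
* `topCosets_eq_univ` : every coset lies in the orbit of one of nine of them
-/

set_option autoImplicit false
set_option maxRecDepth 100000
set_option Elab.async false

open Cfsg

namespace Cfsg.Agent.HNPresented

open Cfsg.Agent.StabCert

/-- The generator `t` of HN. -/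
noncomputable abbrev tt : Spor.HN := PresentedGroup.of Spor.HN.Gen.t

theorem hn_rel {r : FreeGroup Spor.HN.Gen} (h : r ∈ Spor.HN.extra) : PresentedGroup.mk hnRels r = 1 :=
  PresentedGroup.one_of_mem (Or.inr h)

theorem toHN_of (g : G3) : toHN (PresentedGroup.of g) = PresentedGroup.of (incl g) :=
  PresentedGroup.toGroup.of _

theorem tt_pow_five : tt ^ 5 = 1 := by
  have h := hn_rel (r := Spor.HN.t ^ 5) (by simp [Spor.HN.extra])
  simp only [map_pow] at h
  exact h

theorem x_conj_tt_inv : (toHN kx)⁻¹ * tt * toHN kx = (tt ^ 2)⁻¹ := by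
  have h := hn_rel (r := (Spor.HN.x⁻¹ * Spor.HN.t * Spor.HN.x) * (Spor.HN.t ^ 2)) (by simp [Spor.HN.extra])
  simp only [map_mul, map_pow, map_inv] at h
  rw [toHN_of]
  exact eq_inv_of_mul_eq_one_left h

theorem tt_comm_y : tt * toHN ky = toHN ky * tt := by
  have h := hn_rel (r := Spor.HN.t⁻¹ * Spor.HN.y⁻¹ * Spor.HN.t * Spor.HN.y) (by simp [Spor.HN.extra])
  simp only [map_mul, map_inv] at h
  rw [toHN_of]
  change tt⁻¹ * (PresentedGroup.of Spor.HN.Gen.y)⁻¹ * tt * PresentedGroup.of Spor.HN.Gen.y = 1 at h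
  rwa [mul_assoc _ tt, ← mul_inv_rev, inv_mul_eq_one, eq_comm] at h

theorem z_tt_cube : (toHN kz * tt) ^ 3 = 1 := by
  have h := hn_rel (r := (Spor.HN.z * Spor.HN.t) ^ 3) (by simp [Spor.HN.extra])
  simp only [map_mul, map_pow] at h
  rw [toHN_of]
  exact h

theorem x_conj_tt : toHN kx * tt * (toHN kx)⁻¹ = tt ^ 2 := by
  have h := x_conj_tt_inv
  have h1 : tt = toHN kx * (tt ^ 2)⁻¹ * (toHN kx)⁻¹ := by rw [← h]; group
  have e : ((tt ^ 2)⁻¹) ^ 2 = tt := by
    rw [inv_pow, ← pow_mul, inv_eq_iff_mul_eq_one, ← pow_succ]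
    exact tt_pow_five
  conv_rhs => rw [h1, conj_pow, e]

theorem x_conj_pow (n : ℕ) : toHN kx ^ n * tt * (toHN kx ^ n)⁻¹ = tt ^ 2 ^ n := by
  induction n with
  | zero => simp
  | succ n ih =>
    rw [pow_succ', mul_inv_rev]
    calc toHN kx * toHN kx ^ n * tt * ((toHN kx ^ n)⁻¹ * (toHN kx)⁻¹)
        = toHN kx * (toHN kx ^ n * tt * (toHN kx ^ n)⁻¹) * (toHN kx)⁻¹ := by group
      _ = (toHN kx * tt * (toHN kx)⁻¹) ^ 2 ^ n := by rw [ih, conj_pow]
      _ = tt ^ 2 ^ (n + 1) := by rw [x_conj_tt, ← pow_mul, ← pow_succ']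

theorem tt_comm_x4 : tt * toHN kx ^ 4 = toHN kx ^ 4 * tt := by
  have h := x_conj_pow 4
  rw [show tt ^ 2 ^ 4 = tt from by
    rw [show (2 : ℕ) ^ 4 = 5 * 3 + 1 by norm_num, pow_succ, pow_mul, tt_pow_five, one_pow, one_mul]] at h
  exact (mul_inv_eq_iff_eq_mul.1 h).symm

theorem tt_comm_conj {a : Spor.HN} (ha : Commute a tt) :
    Commute ((toHN kx)⁻¹ * a * toHN kx) tt ∧ Commute (toHN kx * a * (toHN kx)⁻¹) tt := by
  constructor
  · have h : Commute a (toHN kx * tt * (toHN kx)⁻¹) := by rw [x_conj_tt]; exact ha.pow_right 2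
    have := (h.map (MulAut.conj (toHN kx)⁻¹).toMonoidHom)
    simpa [mul_assoc] using this
  · have h : Commute a ((toHN kx)⁻¹ * tt * toHN kx) := by rw [x_conj_tt_inv]; exact (ha.pow_right 2).inv_right
    have := (h.map (MulAut.conj (toHN kx)).toMonoidHom)
    simpa [mul_assoc] using this

/-- `t` commutes with the stabiliser of the point `0`. -/
theorem toHN_fixGroup_comm {u : K} (hu : u ∈ fixGroup) : Commute (toHN u) tt := by
  have hy : Commute (toHN ky) tt := tt_comm_y.symm
  induction hu using Subgroup.closure_induction with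
  | mem g hg =>
    rcases hg with rfl | rfl | rfl | rfl
    · exact hy
    · simpa using (tt_comm_conj hy).1
    · simpa using (tt_comm_conj hy).2
    · rw [map_pow]; exact tt_comm_x4.symm
  | one => simp
  | mul a b _ _ ha hb => rw [map_mul]; exact ha.mul_left hb
  | inv a _ ha => rw [map_inv]; exact ha.inv_left

/-- The subgroup generated by `x`, `y`, `z`. -/
noncomputable def hnH : Subgroup Spor.HN := toHN.range

/-- The letters inside HN. -/
noncomputable def elH (a : ℕ) : Spor.HN := toHN (el a)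

theorem wordEl_elH : ∀ v : List ℕ, wordEl elH v = toHN (wordEl el v)
  | [] => by simp [wordEl]
  | a :: v => by rw [wordEl_cons elH, wordEl_cons el, map_mul, wordEl_elH v]; rfl

theorem elH_inv (n : ℕ) : elH (2 * n + 1) = (elH (2 * n))⁻¹ := by rw [elH, el_inv, map_inv]; rfl

/-- The base coset. -/
noncomputable abbrev base : Spor.HN ⧸ hnH := ((1 : Spor.HN) : Spor.HN ⧸ hnH)

theorem smul_base (k : K) : toHN k • base = base :=
  QuotientGroup.eq.2 (by simp only [smul_eq_mul, mul_one, inv_mem_iff]; exact ⟨k, rfl⟩)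

/-- The derivation for `⟨x, y, z⟩ ≤ HN`. -/
def topCfg : Cfg where
  w := 11
  tab := tab
  B := basePts
  m := 8
  facts := topFacts
  fixes := topFixes
  sw := [[2], [3], [6], [7]]
  ph := [[2], [3], [6], [7]]
  cycles := topCycles

/-- The representatives of the nine classes. -/
noncomputable def topPoint : ℕ → Spor.HN ⧸ hnH := point elH tt 8 topFacts base

theorem top_defs : (defsOK topFacts 8 && (topFacts.take 8).all fun f => f.2.1.all fun a => Nat.blt a 8) = true := by
  decide +kernel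

theorem top_def {j : ℕ} (hj : j < 8) : (topFacts.getD j (0, [], 0, [])).1 ≤ j ∧
    ∀ a ∈ (topFacts.getD j (0, [], 0, [])).2.1, a < 8 := by
  have h := top_defs
  simp only [Bool.and_eq_true, List.all_eq_true, Nat.blt_eq, defsOK, List.mem_range, Nat.ble_eq] at h
  have hlt : j < topFacts.length := hj.trans (by decide)
  refine ⟨(h.1 j hj).1.1, h.2 _ ?_⟩
  rw [List.getD_eq_getElem _ _ hlt]
  exact List.mem_take_iff_getElem.2 ⟨j, by simp [hj, hlt], rfl⟩

theorem topPoint_fact {j : ℕ} (hj : j < 8) : FactHolds topCfg elH tt topPoint j := by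
  have h := top_defs
  simp only [Bool.and_eq_true] at h
  exact point_fact topCfg elH tt 8 base h.1 (fun i hi a ha => Nat.ne_of_lt ((top_def hi).2 a ha)) j hj

theorem topPoint_succ {j : ℕ} (hj : j < 8) :
    topPoint (j + 1) = tt • wordEl elH (topFacts.getD j (0, [], 0, [])).2.1 •
      topPoint (topFacts.getD j (0, [], 0, [])).1 := by
  have h := topPoint_fact hj
  have h' := top_defs
  simp only [Bool.and_eq_true, defsOK, List.all_eq_true, List.mem_range, beq_iff_eq, List.isEmpty_iff,
    Nat.ble_eq] at h'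
  obtain ⟨⟨-, e2⟩, e3⟩ := h'.1 j hj
  simp only [FactHolds, Cfg.fact] at h
  change tt • wordEl elH (topFacts.getD j _).2.1 • topPoint (topFacts.getD j _).1 =
    wordEl elH (topFacts.getD j _).2.2.2 • topPoint (topFacts.getD j _).2.2.1 at h
  rw [h, e2, e3, wordEl_nil, one_smul]

theorem mem_fixGroup_of_ker {n : K} (hn : rho n = 1) : n ∈ fixGroup :=
  mem_fixGroup_of_fix (by rw [hn]; rfl)

theorem ker_fix_point : ∀ j, j < 9 → ∀ n : K, rho n = 1 → toHN n • topPoint j = topPoint j := by
  intro j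
  induction j using Nat.strong_induction_on with
  | _ j ih =>
    intro hj n hn
    rcases j with _ | j
    · rw [topPoint, point_zero]; exact smul_base n
    obtain ⟨hi, -⟩ := top_def (show j < 8 by omega)
    rw [topPoint_succ (by omega), ← mul_smul, (toHN_fixGroup_comm (mem_fixGroup_of_ker hn)).eq, mul_smul,
      ← mul_smul (toHN n), wordEl_elH]
    congr 1
    generalize wordEl el (topFacts.getD j (0, [], 0, [])).2.1 = a
    rw [show toHN n * toHN a = toHN a * toHN (a⁻¹ * n * a) by simp only [map_mul, map_inv]; group, mul_smul,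
      ih _ (by omega) (by omega) (a⁻¹ * n * a) (by simp [hn])]

theorem topPoint_of_le {j : ℕ} (h : j < 9) (v w : List ℕ) (e : rho (wordEl el v) = rho (wordEl el w)) :
    wordEl elH v • topPoint j = wordEl elH w • topPoint j := by
  have hn : rho ((wordEl el v)⁻¹ * wordEl el w) = 1 := by rw [map_mul, map_inv, e, inv_mul_cancel]
  have h2 := ker_fix_point j h _ hn
  conv_lhs => rw [← h2]
  rw [← mul_smul, wordEl_elH, wordEl_elH, ← map_mul, mul_inv_cancel_left]

/-- Classes beyond the nine read as the base. -/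
noncomputable def topPoint' (j : ℕ) : Spor.HN ⧸ hnH := if j < 9 then topPoint j else base

theorem topPoint'_eq {j : ℕ} (h : j < 9) : topPoint' j = topPoint j := if_pos h

theorem tt_cycle_words : tt * (tt * tt * tt * tt) = 1 := by
  have h := tt_pow_five
  simp only [pow_succ, pow_zero, one_mul] at h
  simpa [mul_assoc] using h

theorem x2_conj_tt : toHN kx ^ 2 * tt * (toHN kx ^ 2)⁻¹ = tt⁻¹ := by
  rw [x_conj_pow 2]
  refine eq_inv_of_mul_eq_one_left ?_
  rw [show (2 : ℕ) ^ 2 = 4 by norm_num, ← pow_succ]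
  exact tt_pow_five

theorem x3_conj_tt : toHN kx ^ 3 * tt * (toHN kx ^ 3)⁻¹ = tt ^ 3 := by
  rw [x_conj_pow 3, show (2 : ℕ) ^ 3 = 5 + 3 by norm_num, pow_add, tt_pow_five, one_mul]

theorem x2_conj_tt_inv : (toHN kx ^ 2)⁻¹ * tt * toHN kx ^ 2 = tt⁻¹ := by
  have h : toHN kx ^ 2 * tt⁻¹ * (toHN kx ^ 2)⁻¹ = tt := by rw [← conj_inv, x2_conj_tt, inv_inv]
  conv_lhs => rw [← h]
  group

theorem x3_conj_tt_inv : (toHN kx ^ 3)⁻¹ * tt * toHN kx ^ 3 = tt ^ 2 := by
  have h : toHN kx ^ 3 * tt ^ 2 * (toHN kx ^ 3)⁻¹ = tt := by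
    rw [← conj_pow, x3_conj_tt, ← pow_mul, show 3 * 2 = 5 + 1 by norm_num, pow_succ, tt_pow_five, one_mul]
  conv_lhs => rw [← h]
  group

theorem top_cycle : ∀ p < topCfg.cycles.length,
    tt * ((topCfg.cycles.getD p []).reverse.map fun o => o.elim tt (wordEl elH)).prod = 1 := by
  intro p hp
  change p < 7 at hp
  have h2 : wordEl elH [0, 0] = toHN kx ^ 2 := by simp [wordEl, elH, el, pow_two]
  have h2' : wordEl elH [1, 1] = (toHN kx ^ 2)⁻¹ := by simp [wordEl, elH, el, pow_two]
  have h3 : wordEl elH [0, 0, 0] = toHN kx ^ 3 := by simp [wordEl, elH, el, pow_succ, mul_assoc]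
  have h3' : wordEl elH [1, 1, 1] = (toHN kx ^ 3)⁻¹ := by simp [wordEl, elH, el, pow_succ, mul_assoc]
  have hz : wordEl elH [4] = toHN kz := by simp [wordEl, elH, el]
  interval_cases p <;>
    simp [topCfg, topCycles, h2, h2', h3, h3', hz]
  · rw [← mul_assoc (toHN kx ^ 2), x2_conj_tt, mul_inv_cancel]
  · rw [← mul_assoc _ tt, x2_conj_tt_inv, mul_inv_cancel]
  · simpa [mul_assoc] using tt_cycle_words
  · rw [show tt * (tt * (toHN kx ^ 3 * (tt * (toHN kx ^ 3)⁻¹)))
      = tt * tt * (toHN kx ^ 3 * tt * (toHN kx ^ 3)⁻¹) by group, x3_conj_tt]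
    simpa [pow_succ, mul_assoc] using tt_cycle_words
  · rw [show tt * (toHN kx ^ 3 * (tt * ((toHN kx ^ 3)⁻¹ * tt)))
      = tt * (toHN kx ^ 3 * tt * (toHN kx ^ 3)⁻¹) * tt by group, x3_conj_tt]
    simpa [pow_succ, mul_assoc] using tt_cycle_words
  · rw [show tt * ((toHN kx ^ 3)⁻¹ * (tt * (tt * toHN kx ^ 3)))
      = tt * (((toHN kx ^ 3)⁻¹ * tt * toHN kx ^ 3) * ((toHN kx ^ 3)⁻¹ * tt * toHN kx ^ 3)) by group,
      x3_conj_tt_inv]
    simpa [pow_succ, mul_assoc] using tt_cycle_words
  · have h := z_tt_cube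
    rw [pow_succ, pow_succ, pow_one] at h
    have e := mul_eq_one_comm.1 (show toHN kz * (tt * (toHN kz * (tt * (toHN kz * tt)))) = 1 by
      simpa [mul_assoc] using h)
    simpa [mul_assoc] using e

theorem top_sound : Sound topCfg elH tt topPoint' where
  inv := elH_inv
  eq := by
    intro v w h i
    simp only [Cfg.eqB, Bool.and_eq_true, List.all_eq_true, beq_iff_eq] at h
    obtain ⟨⟨hv, hw⟩, hB⟩ := h
    have e := rho_eq_of_base (okW_spec hv) (okW_spec hw) hB
    by_cases hi : i < 9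
    · rw [topPoint'_eq hi]; exact topPoint_of_le hi v w e
    · rw [topPoint', if_neg hi, wordEl_elH, wordEl_elH, smul_base, smul_base]
  twist := by
    have key : ∀ v : List ℕ, wordEl el v ∈ fixGroup → tt * wordEl elH v = wordEl elH v * tt :=
      fun v hv => by rw [wordEl_elH]; exact (toHN_fixGroup_comm hv).eq.symm
    have hy : ky ∈ fixGroup := Subgroup.subset_closure (by simp)
    have hy1 : kx⁻¹ * ky * kx ∈ fixGroup := Subgroup.subset_closure (by simp)
    intro n hn
    change n < 4 at hn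
    interval_cases n <;> refine key _ ?_
    · simpa [topCfg, wordEl, el] using hy
    · simpa [topCfg, wordEl, el] using inv_mem hy
    · simpa [topCfg, wordEl, el] using hy1
    · simpa [topCfg, wordEl, el] using inv_mem hy1
  cycle := top_cycle

theorem top_run : topCfg.runOK topItems 8 3 = true := by decide +kernel

theorem top_range : (topFacts.all fun f => Nat.blt f.1 9 && Nat.blt f.2.2.1 9 && topCfg.okW f.2.1 &&
    topCfg.okW f.2.2.2) = true := by decide +kernel

theorem top_holds : (∀ n < topCfg.facts.length, FactHolds topCfg elH tt topPoint' n) ∧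
    ∀ n < topCfg.fixes.length, FixHolds topCfg elH topPoint' n := by
  refine run_spec top_sound _ _ _ top_run ?_ ?_
  · intro j hj
    have hlt : j < topFacts.length := hj.trans (by decide)
    have h := top_range
    simp only [List.all_eq_true, Bool.and_eq_true, Nat.blt_eq] at h
    obtain ⟨⟨⟨h1, h2⟩, -⟩, -⟩ := h _ (getD_mem (d := (0, [], 0, [])) hlt)
    have h3 := topPoint_fact hj
    simp only [FactHolds, Cfg.fact] at h3 ⊢
    show tt • _ • topPoint' (topFacts.getD j _).1 = _ • topPoint' (topFacts.getD j _).2.2.1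
    rw [topPoint'_eq h1, topPoint'_eq h2]
    exact h3
  · intro n hn
    have key : ∀ v, wordEl elH v • topPoint' 0 = topPoint' 0 := fun v => by
      rw [topPoint'_eq (by omega), topPoint, point_zero, wordEl_elH]; exact smul_base _
    interval_cases n <;> exact key _

/-- The covers of the classes. -/
def topCovers : List (List (ℕ × ℕ × Option ℕ)) :=
  [[], topCover1, topCover2, topCover3, topCover4, topCover5, topCover6, topCover7, topCover8]

theorem top_cover1 : topCfg.coverGo tab 11 1408 1 topCover1 0 = true := by decide +kernel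
theorem top_cover2 : topCfg.coverGo tab 11 1408 2 topCover2 0 = true := by decide +kernel
theorem top_cover3 : topCfg.coverGo tab 11 1408 3 topCover3 0 = true := by decide +kernel
theorem top_cover4 : topCfg.coverGo tab 11 1408 4 topCover4 0 = true := by decide +kernel
theorem top_cover5 : topCfg.coverGo tab 11 1408 5 topCover5 0 = true := by decide +kernel
theorem top_cover6 : topCfg.coverGo tab 11 1408 6 topCover6 0 = true := by decide +kernel
theorem top_cover7 : topCfg.coverGo tab 11 1408 7 topCover7 0 = true := by decide +kernel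
theorem top_cover8 : topCfg.coverGo tab 11 1408 8 topCover8 0 = true := by decide +kernel

theorem top_cover_ok {i : ℕ} (h1 : 1 ≤ i) (h9 : i < 9) :
    topCfg.coverGo tab 11 1408 i (topCovers.getD i []) 0 = true := by
  interval_cases i
  exacts [top_cover1, top_cover2, top_cover3, top_cover4, top_cover5, top_cover6, top_cover7, top_cover8]

theorem ev_winv {v : List ℕ} (hv : ∀ a ∈ v, a < 8) {p : ℕ} (hp : p < 1408) :
    ev 11 tab v p < 1408 ∧ ev 11 tab v (ev 11 tab (winv v) p) = p := by
  refine ⟨(rho_word hv hp).1, ?_⟩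
  obtain ⟨h1, h2⟩ := rho_word (winv_lt rfl hv) hp
  obtain ⟨h3, h4⟩ := rho_word hv h1
  rw [wordEl_winv el_inv, map_inv] at h2
  rw [← h2, Equiv.Perm.inv_def, Equiv.apply_symm_apply] at h4
  exact pt_injOn h3 hp h4.symm

theorem rho_of_fix {v : List ℕ} (hv : ∀ a ∈ v, a < 8) (h : ev 11 tab v 0 = 0) :
    wordEl el v ∈ fixGroup :=
  mem_fixGroup_of_fix (by rw [(rho_word hv (show 0 < 1408 by omega)).2, h])

/-- The orbits of the nine cosets. -/
def topCosets : Set (Spor.HN ⧸ hnH) :=
  {q | ∃ v, (∀ a ∈ v, a < 8) ∧ ∃ i < 9, q = wordEl elH v • topPoint' i}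

theorem tt_smul_topCosets {q : Spor.HN ⧸ hnH} (hq : q ∈ topCosets) : tt • q ∈ topCosets := by
  obtain ⟨v, hv, i, hi, rfl⟩ := hq
  obtain ⟨hf, hx⟩ := top_holds
  have hr := top_range
  simp only [List.all_eq_true, Bool.and_eq_true, Nat.blt_eq] at hr
  rcases Nat.eq_zero_or_pos i with rfl | hpos
  · refine ⟨[], by simp, 1, by omega, ?_⟩
    have h0 := hf 0 (by decide)
    change tt • wordEl elH [] • topPoint' 0 = wordEl elH [] • topPoint' 1 at h0
    rw [← h0, wordEl_nil, one_smul, topPoint'_eq (by omega), topPoint, point_zero, wordEl_elH, smul_base]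
  obtain ⟨u, j, hu, ⟨n, hn, rfl⟩, e⟩ := smul_mem_cosets top_sound (by omega : 0 < 1408) (top_cover_ok hpos hi)
    (fun v hv p hp => ev_winv (okW_spec hv) hp)
    (fun v hv => okW_of (winv_lt rfl (okW_spec hv)))
    (fun v hv h0 => ⟨v, hv, by
      rw [wordEl_elH]; exact (toHN_fixGroup_comm (rho_of_fix (okW_spec hv) h0)).eq.symm⟩)
    hf hx (fun n hn => (hr (topFacts.getD n (0, [], 0, [])) (getD_mem hn)).2) (v := v) (okW_of hv)
  exact ⟨u, okW_spec hu, _, (hr (topFacts.getD n (0, [], 0, [])) (getD_mem hn)).1.1.2, e⟩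

theorem topCosets_eq_univ (q : Spor.HN ⧸ hnH) : q ∈ topCosets := by
  obtain ⟨g, rfl⟩ := QuotientGroup.mk_surjective q
  have hk : ∀ (k : K) (q : Spor.HN ⧸ hnH), q ∈ topCosets → toHN k • q ∈ topCosets := by
    rintro k _ ⟨v, hv, i, hi, rfl⟩
    obtain ⟨w, hw, rfl⟩ := wordEl_top k
    refine ⟨w ++ v, fun a ha => ?_, i, hi, by rw [wordEl_append, mul_smul, ← wordEl_elH]⟩
    rcases List.mem_append.1 ha with ha | ha
    · exact (hw a ha).trans (by omega)
    · exact hv a ha
  have hg : g ∈ Subgroup.closure (Set.range (PresentedGroup.of : Spor.HN.Gen → Spor.HN)) := by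
    rw [PresentedGroup.closure_range_of]; trivial
  have key : ∀ q ∈ topCosets, g • q ∈ topCosets ∧ g⁻¹ • q ∈ topCosets := by
    induction hg using Subgroup.closure_induction with
    | mem g hg =>
      intro q hq
      obtain ⟨c, rfl⟩ := hg
      cases c
      case t =>
        show tt • q ∈ topCosets ∧ tt⁻¹ • q ∈ topCosets
        rw [show tt⁻¹ = tt * tt * tt * tt from inv_eq_of_mul_eq_one_right tt_cycle_words]
        simp only [mul_smul]
        exact ⟨tt_smul_topCosets hq, tt_smul_topCosets (tt_smul_topCosets (tt_smul_topCosets (tt_smul_topCosets hq)))⟩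
      · show PresentedGroup.of (incl .x) • q ∈ topCosets ∧ (PresentedGroup.of (incl .x))⁻¹ • q ∈ topCosets
        rw [← toHN_of, ← map_inv]; exact ⟨hk _ q hq, hk _ q hq⟩
      · show PresentedGroup.of (incl .y) • q ∈ topCosets ∧ (PresentedGroup.of (incl .y))⁻¹ • q ∈ topCosets
        rw [← toHN_of, ← map_inv]; exact ⟨hk _ q hq, hk _ q hq⟩
      · show PresentedGroup.of (incl .z) • q ∈ topCosets ∧ (PresentedGroup.of (incl .z))⁻¹ • q ∈ topCosets
        rw [← toHN_of, ← map_inv]; exact ⟨hk _ q hq, hk _ q hq⟩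
    | one => intro q hq; simp [hq]
    | mul a b _ _ ha hb =>
      intro q hq
      exact ⟨mul_smul a b q ▸ (ha _ (hb q hq).1).1, by
        rw [mul_inv_rev, mul_smul]; exact (hb _ (ha q hq).2).2⟩
    | inv a _ ha => intro q hq; exact ⟨(ha q hq).2, (inv_inv a).symm ▸ (ha q hq).1⟩
  have h1 : base ∈ topCosets := ⟨[], by simp, 0, by omega, by
    rw [wordEl_nil, one_smul, topPoint'_eq (by omega), topPoint, point_zero]⟩
  simpa using (key _ h1).1

end Cfsg.Agent.HNPresented
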